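import Mathlib
import Cfsg.Agent.Lib.Classical.SL
import Cfsg.Agent.Lib.Classical.Card

set_option autoImplicit false
set_option linter.unusedSimpArgs false
set_option linter.unusedVariables false

namespace Cfsg.Agent.Lib.Classical

open Matrix Matrix.SpecialLinearGroup MulAction
open scoped MatrixGroups commutatorElement LinearAlgebra.Projectivization

section

variable {ι F : Type*} [Fintype ι] [DecidableEq ι] [Field F]

theorem transvection_mem_lineStab' {i j : ι} (hij : i ≠ j) (b : F) :
    SpecialLinearGroup.transvection hij b ∈ lineStab (Submodule.span F {(Pi.single i (1 : F) : ι → F)}) :=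
  SL2Gen.transvection_mem_lineStab hij b

theorem iSup_lineStab_eq_top [Nontrivial ι] :
    (⨆ p : ℙ F (ι → F), lineStab p.submodule) = (⊤ : Subgroup (SpecialLinearGroup ι F)) := by
  rw [eq_top_iff]
  intro M _
  refine sl_transvection_induction (· ∈ (⨆ p : ℙ F (ι → F), lineStab p.submodule)) ?_ (one_mem _)
    (fun _ _ => mul_mem) M
  intro i j hij a
  have h1 := transvection_mem_lineStab' hij a
  have hne : (Pi.single i (1 : F) : ι → F) ≠ 0 := Pi.single_ne_zero_iff.2 one_ne_zero
  rw [← Projectivization.submodule_mk (K := F) _ hne] at h1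
  exact Subgroup.mem_iSup_of_mem _ h1

theorem iSup_iwasawaT_eq_top [Nontrivial ι] :
    iSup (PSL.iwasawaT (F := F) (ι := ι)) = ⊤ := by
  have step1 : iSup (PSL.iwasawaT (F := F) (ι := ι)) =
      Subgroup.map (QuotientGroup.mk' (Subgroup.center (Matrix.SpecialLinearGroup ι F)))
        (⨆ p : ℙ F (ι → F),
          Matrix.SpecialLinearGroup.lineStab (F := F) (ι := ι) p.submodule) := by
    rw [Subgroup.map_iSup]
  rw [step1, iSup_lineStab_eq_top]
  exact Subgroup.map_top_of_surjective _ (QuotientGroup.mk'_surjective _)

/-- The Iwasawa structure on PSL(ι, F). -/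
noncomputable abbrev pslIwasawa [Nontrivial ι] : IwasawaStructure (ProjectiveSpecialLinearGroup ι F) (ℙ F (ι → F)) where
  T := PSL.iwasawaT
  is_comm p := by
    have hSL : IsMulCommutative (lineStab (F := F) (ι := ι) p.submodule) := by
      rw [← Projectivization.mk_rep p, Projectivization.submodule_mk]
      exact lineStab_isMulCommutative_of_span p.rep p.rep_nonzero
    exact Subgroup.map_isMulCommutative _ _
  is_conj g p := by
    obtain ⟨g_SL, rfl⟩ := QuotientGroup.mk_surjective g
    rw [Matrix.ProjectiveSpecialLinearGroup.smul_proj_mk]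
    change Subgroup.map _ _ = _
    rw [PSL.smul_submodule, Matrix.SpecialLinearGroup.lineStab_smul,
      PSL.iwasawaT_map_conj]
  is_generator := iSup_iwasawaT_eq_top

theorem psl_isSimpleGroup_of_three_le (hι : 3 ≤ Fintype.card ι) :
    IsSimpleGroup (ProjectiveSpecialLinearGroup ι F) := by
  have hnt : Nontrivial ι := Fintype.one_lt_card_iff_nontrivial.1 (by omega)
  have hperf : Group.IsPerfect (SpecialLinearGroup ι F) := ⟨commutator_sl_eq_top_of_three_le hι⟩
  have hperf2 : Group.IsPerfect (ProjectiveSpecialLinearGroup ι F) := inferInstance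
  exact MulAction.IwasawaStructure.isSimpleGroup (α := ℙ F (ι → F)) hperf2.commutator_eq_top pslIwasawa inferInstance

end

end Cfsg.Agent.Lib.Classical
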