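import Mathlib

set_option autoImplicit false
set_option linter.unusedSimpArgs false
set_option linter.unusedVariables false

namespace Cfsg.Agent.Lib.Classical

open Matrix Matrix.SpecialLinearGroup MulAction Projectivization
open scoped MatrixGroups commutatorElement LinearAlgebra.Projectivization

variable {F : Type*} [Field F]

/-- The 2 by 2 determinant of two column vectors. -/
def dt (u v : Fin 2 → F) : F := u 0 * v 1 - u 1 * v 0

theorem vec_ne_zero_iff (v : Fin 2 → F) : v ≠ 0 ↔ v 0 ≠ 0 ∨ v 1 ≠ 0 := by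
  constructor
  · intro h
    by_contra h'
    push Not at h'
    apply h
    ext i
    fin_cases i
    · exact h'.1
    · exact h'.2
  · rintro (h | h) rfl <;> simp at h

theorem mk_eq_mk_iff_dt {u v : Fin 2 → F} (hu : u ≠ 0) (hv : v ≠ 0) :
    mk F u hu = mk F v hv ↔ dt u v = 0 := by
  rw [mk_eq_mk_iff']
  constructor
  · rintro ⟨a, rfl⟩
    simp [dt]; ring
  · intro h
    unfold dt at h
    rcases (vec_ne_zero_iff v).1 hv with h0 | h1
    · refine ⟨u 0 / v 0, ?_⟩
      ext i
      fin_cases i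
      · simp; field_simp
      · simp; field_simp; first | linear_combination h | linear_combination -h
    · refine ⟨u 1 / v 1, ?_⟩
      ext i
      fin_cases i
      · simp; field_simp; first | linear_combination h | linear_combination -h
      · simp; field_simp

/-- Cramer's rule for 2 by 2 systems. -/
theorem eq_add_of_dt_ne {u v : Fin 2 → F} (h : dt u v ≠ 0) (w : Fin 2 → F) :
    w = (dt w v / dt u v) • u + (dt u w / dt u v) • v := by
  ext i
  simp only [Pi.add_apply, Pi.smul_apply, smul_eq_mul]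
  rw [div_mul_eq_mul_div, div_mul_eq_mul_div, ← add_div, eq_div_iff h]
  unfold dt
  fin_cases i <;> simp <;> ring

/-- The matrix whose columns are `u` and `v`. -/
def colMat (u v : Fin 2 → F) : Matrix (Fin 2) (Fin 2) F := !![u 0, v 0; u 1, v 1]

theorem colMat_det (u v : Fin 2 → F) : (colMat u v).det = dt u v := by
  simp [colMat, Matrix.det_fin_two, dt]; ring

theorem colMat_mulVec (u v w : Fin 2 → F) : colMat u v *ᵥ w = w 0 • u + w 1 • v := by
  ext i
  fin_cases i <;> simp [colMat, Matrix.mulVec, dotProduct, Fin.sum_univ_two] <;> ring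

/-- The element of GL_2 with columns u, v. -/
noncomputable def colGL (u v : Fin 2 → F) (h : dt u v ≠ 0) : GL (Fin 2) F :=
  Matrix.GeneralLinearGroup.mkOfDetNeZero (colMat u v) (by rwa [colMat_det])

theorem colGL_smul (u v : Fin 2 → F) (h : dt u v ≠ 0) (w : Fin 2 → F) : colGL u v h • w = w 0 • u + w 1 • v :=
  colMat_mulVec u v w

theorem e0_ne : (![1, 0] : Fin 2 → F) ≠ 0 := by
  rw [vec_ne_zero_iff]; simp

theorem e1_ne : (![0, 1] : Fin 2 → F) ≠ 0 := by
  rw [vec_ne_zero_iff]; simp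

theorem e2_ne : (![1, 1] : Fin 2 → F) ≠ 0 := by
  rw [vec_ne_zero_iff]; simp

/-- The standard triple on the projective line. -/
noncomputable def stdTriple : Fin 3 → ℙ F (Fin 2 → F) :=
  ![mk F ![1, 0] e0_ne, mk F ![0, 1] e1_ne, mk F ![1, 1] e2_ne]

/-- Every triple of distinct points comes from a vector triple (u,v,u+v). -/
theorem exists_vec_triple (a b c : ℙ F (Fin 2 → F)) (hab : a ≠ b) (hac : a ≠ c) (hbc : b ≠ c) :
    ∃ (u v : Fin 2 → F) (hu : u ≠ 0) (hv : v ≠ 0) (huv : u + v ≠ 0), dt u v ≠ 0 ∧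
      a = mk F u hu ∧ b = mk F v hv ∧ c = mk F (u + v) huv := by
  induction a using Projectivization.ind with | _ u hu =>
  induction b using Projectivization.ind with | _ v hv =>
  induction c using Projectivization.ind with | _ w hw =>
  have h1 : dt u v ≠ 0 := fun h => hab ((mk_eq_mk_iff_dt hu hv).2 h)
  have h2 : dt u w ≠ 0 := fun h => hac ((mk_eq_mk_iff_dt hu hw).2 h)
  have h3 : dt v w ≠ 0 := fun h => hbc ((mk_eq_mk_iff_dt hv hw).2 h)
  set α := dt w v / dt u v with hα
  set β := dt u w / dt u v with hβ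
  have hw' := eq_add_of_dt_ne h1 w
  have hαne : α ≠ 0 := by
    apply div_ne_zero _ h1
    intro h
    apply h3
    unfold dt at *
    linear_combination -h
  have hβne : β ≠ 0 := div_ne_zero h2 h1
  have hu' : α • u ≠ 0 := smul_ne_zero hαne hu
  have hv' : β • v ≠ 0 := smul_ne_zero hβne hv
  have huv' : α • u + β • v ≠ 0 := by rw [← hw']; exact hw
  refine ⟨α • u, β • v, hu', hv', huv', ?_, ?_, ?_, ?_⟩
  · have : dt (α • u) (β • v) = α * β * dt u v := by
      simp [dt]; ring
    rw [this]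
    exact mul_ne_zero (mul_ne_zero hαne hβne) h1
  · rw [mk_eq_mk_iff']
    exact ⟨α⁻¹, by rw [smul_smul, inv_mul_cancel₀ hαne, one_smul]⟩
  · rw [mk_eq_mk_iff']
    exact ⟨β⁻¹, by rw [smul_smul, inv_mul_cancel₀ hβne, one_smul]⟩
  · rw [mk_eq_mk_iff']
    exact ⟨1, by rw [one_smul, ← hw']⟩

/-- `GL_2` maps the standard triple to any triple. -/
theorem exists_GL_smul_stdTriple (a b c : ℙ F (Fin 2 → F)) (hab : a ≠ b) (hac : a ≠ c) (hbc : b ≠ c) :
    ∃ g : GL (Fin 2) F, g • mk F ![1, 0] e0_ne = a ∧ g • mk F ![0, 1] e1_ne = b ∧ g • mk F ![1, 1] e2_ne = c := by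
  obtain ⟨u, v, hu, hv, huv, h, rfl, rfl, rfl⟩ := exists_vec_triple a b c hab hac hbc
  refine ⟨colGL u v h, ?_, ?_, ?_⟩
  · rw [smul_mk, mk_eq_mk_iff']
    exact ⟨1, by rw [colGL_smul]; simp⟩
  · rw [smul_mk, mk_eq_mk_iff']
    exact ⟨1, by rw [colGL_smul]; simp⟩
  · rw [smul_mk, mk_eq_mk_iff']
    exact ⟨1, by rw [colGL_smul]; simp⟩

theorem mat_eq_smul_of_vecs (M : Matrix (Fin 2) (Fin 2) F) (l : F) (u v : Fin 2 → F) (h : dt u v ≠ 0)
    (hu : M *ᵥ u = l • u) (hv : M *ᵥ v = l • v) : M = l • 1 := by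
  ext i j
  have key : M *ᵥ (Pi.single j 1) = l • (Pi.single j 1 : Fin 2 → F) := by
    rw [eq_add_of_dt_ne h (Pi.single j 1)]
    rw [Matrix.mulVec_add, Matrix.mulVec_smul, Matrix.mulVec_smul, hu, hv, smul_add, smul_comm l, smul_comm l]
  have := congrFun key i
  simpa [Matrix.one_apply, Pi.single_apply, Matrix.mulVec_single_one, eq_comm] using this

/-- An element of GL_2 fixing three distinct points is scalar. -/
theorem GL_fix_three_scalar (g : GL (Fin 2) F) (a b c : ℙ F (Fin 2 → F)) (hab : a ≠ b) (hac : a ≠ c) (hbc : b ≠ c)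
    (ha : g • a = a) (hb : g • b = b) (hc : g • c = c) :
    ∃ r : Fˣ, g = Matrix.GeneralLinearGroup.scalar (Fin 2) r := by
  obtain ⟨u, v, hu, hv, huv, h, rfl, rfl, rfl⟩ := exists_vec_triple a b c hab hac hbc
  rw [smul_mk, mk_eq_mk_iff'] at ha hb hc
  obtain ⟨l, hl⟩ := ha
  obtain ⟨m, hm⟩ := hb
  obtain ⟨n, hn⟩ := hc
  have e1 : (l - n) • u + (m - n) • v = 0 := by
    have : g • (u + v) = g • u + g • v := smul_add _ _ _
    rw [← hn, ← hl, ← hm] at this
    rw [smul_add] at this
    linear_combination (norm := module) -this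
  have e2 : l - n = 0 ∧ m - n = 0 := by
    have h0 := congrFun e1 0
    have h1 := congrFun e1 1
    simp at h0 h1
    unfold dt at h
    constructor
    · have : (l - n) * (u 0 * v 1 - u 1 * v 0) = 0 := by linear_combination v 1 * h0 - v 0 * h1
      exact (mul_eq_zero.1 this).resolve_right h
    · have : (m - n) * (u 0 * v 1 - u 1 * v 0) = 0 := by linear_combination - u 1 * h0 + u 0 * h1
      exact (mul_eq_zero.1 this).resolve_right h
  have el : l = n := sub_eq_zero.1 e2.1
  have em : m = n := sub_eq_zero.1 e2.2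
  rw [← el] at hn
  rw [em] at hm
  rw [← el] at hm
  have hne : l ≠ 0 := by
    intro h0
    rw [h0, zero_smul] at hl
    exact hu ((smul_eq_zero_iff_eq g).1 hl.symm)
  refine ⟨Units.mk0 l hne, ?_⟩
  apply Units.ext
  rw [mat_eq_smul_of_vecs (g : Matrix (Fin 2) (Fin 2) F) l u v h hl.symm hm.symm]
  ext i j
  simp [Matrix.scalar_apply, Matrix.diagonal_apply, Matrix.one_apply]

theorem std_ne : mk F (![1, 0] : Fin 2 → F) e0_ne ≠ mk F (![0, 1] : Fin 2 → F) e1_ne ∧ mk F (![1, 0] : Fin 2 → F) e0_ne ≠ mk F (![1, 1] : Fin 2 → F) e2_ne ∧ mk F (![0, 1] : Fin 2 → F) e1_ne ≠ mk F (![1, 1] : Fin 2 → F) e2_ne := by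
  refine ⟨?_, ?_, ?_⟩ <;> rw [Ne, mk_eq_mk_iff_dt] <;> simp [dt]

/-- PGL₂ is sharply 3-transitive on the projective line. -/
theorem pgl_two_sharply_three_transitive : MulAction.IsMultiplyPretransitive (Matrix.ProjGenLinGroup (Fin 2) F) (ℙ F (Fin 2 → F)) 3 ∧ ∀ (g : Matrix.ProjGenLinGroup (Fin 2) F) (a b c : ℙ F (Fin 2 → F)), a ≠ b → a ≠ c → b ≠ c → g • a = a → g • b = b → g • c = c → g = 1 := by
  constructor
  · have key : ∀ x : Fin 3 ↪ ℙ F (Fin 2 → F), ∃ g : Matrix.ProjGenLinGroup (Fin 2) F, ∀ i, g • (stdTriple (F := F) i) = x i := by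
      intro x
      have h01 : x 0 ≠ x 1 := fun h => by simpa using x.injective h
      have h02 : x 0 ≠ x 2 := fun h => by simpa using x.injective h
      have h12 : x 1 ≠ x 2 := fun h => by simpa using x.injective h
      obtain ⟨g, h0, h1, h2⟩ := exists_GL_smul_stdTriple (x 0) (x 1) (x 2) h01 h02 h12
      refine ⟨Matrix.ProjGenLinGroup.mk g, ?_⟩
      intro i
      fin_cases i
      · exact h0
      · exact h1
      · exact h2
    refine ⟨?_⟩
    intro x y
    obtain ⟨g, hg⟩ := key x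
    obtain ⟨h, hh⟩ := key y
    refine ⟨h * g⁻¹, ?_⟩
    ext i
    change (h * g⁻¹) • x i = y i
    rw [← hg i, mul_smul, inv_smul_smul, hh i]
  · intro g a b c hab hac hbc ha hb hc
    induction g using Matrix.ProjGenLinGroup.induction_on with | mk g =>
    obtain ⟨r, hr⟩ := GL_fix_three_scalar g a b c hab hac hbc ha hb hc
    rw [hr]
    exact Matrix.ProjGenLinGroup.mk_scalar r

end Cfsg.Agent.Lib.Classical
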