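import Mathlib
import Cfsg.Agent.Lib.Classical.Card2

set_option autoImplicit false
set_option linter.unusedSimpArgs false
set_option linter.unusedVariables false

namespace Cfsg.Agent.Lib.Classical

open Matrix Matrix.SpecialLinearGroup MulAction Projectivization
open scoped MatrixGroups commutatorElement LinearAlgebra.Projectivization

/-- If `φ : G →* Perm X` is injective and `|G| = |X|!`, then `G ≃* Perm (Fin n)`. -/
theorem nonempty_mulEquiv_perm_of_injective {G X : Type*} [Group G] [Finite G] [Finite X] (n : ℕ)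
    (φ : G →* Equiv.Perm X) (hφ : Function.Injective φ) (hX : Nat.card X = n)
    (hG : Nat.card G = n.factorial) : Nonempty (G ≃* Equiv.Perm (Fin n)) := by
  classical
  have : Fintype X := Fintype.ofFinite X
  have hX' : Fintype.card X = n := by rwa [← Nat.card_eq_fintype_card]
  let e : X ≃ Fin n := Fintype.equivFinOfCardEq hX'
  have hs : Function.Surjective φ := by
    have hc : Nat.card G = Nat.card (Equiv.Perm X) := by
      rw [hG, Nat.card_eq_fintype_card (α := Equiv.Perm X), Fintype.card_perm, hX']
    exact ((Nat.bijective_iff_injective_and_card φ).2 ⟨hφ, hc⟩).2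
  exact ⟨(MulEquiv.ofBijective φ ⟨hφ, hs⟩).trans e.permCongrHom⟩

/-- If `φ : G →* Perm X` is injective and `2|G| = |X|!`, then `G ≃* alternatingGroup (Fin n)`. -/
theorem nonempty_mulEquiv_alt_of_injective {G X : Type*} [Group G] [Finite G] [Finite X] (n : ℕ)
    (φ : G →* Equiv.Perm X) (hφ : Function.Injective φ) (hX : Nat.card X = n)
    (hG : 2 * Nat.card G = n.factorial) : Nonempty (G ≃* alternatingGroup (Fin n)) := by
  classical
  have : Fintype X := Fintype.ofFinite X
  have hX' : Fintype.card X = n := by rwa [← Nat.card_eq_fintype_card]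
  let e : X ≃ Fin n := Fintype.equivFinOfCardEq hX'
  let ψ : G →* Equiv.Perm (Fin n) := (e.permCongrHom.toMonoidHom).comp φ
  have hψ : Function.Injective ψ := e.permCongrHom.injective.comp hφ
  have hidx : ψ.range.index = 2 := by
    have h1 := Subgroup.card_mul_index ψ.range
    rw [Nat.card_congr (MonoidHom.ofInjective hψ).toEquiv.symm] at h1
    rw [Nat.card_eq_fintype_card (α := Equiv.Perm (Fin n)), Fintype.card_perm, Fintype.card_fin, ← hG] at h1
    have hpos : 0 < Nat.card G := Nat.card_pos
    have : Nat.card G * ψ.range.index = Nat.card G * 2 := by rw [h1]; ring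
    exact Nat.eq_of_mul_eq_mul_left hpos this
  have h := Equiv.Perm.eq_alternatingGroup_of_index_eq_two hidx
  exact ⟨(MonoidHom.ofInjective hψ).trans (MulEquiv.subgroupCongr h)⟩

variable {F : Type*} [Field F]

/-- The action of PSL on the projective space is injective. -/
theorem psl_toPerm_injective {ι : Type*} [Fintype ι] [DecidableEq ι] :
    Function.Injective (PSLAction.toPermHom (K := F) (ι := ι)) :=
  Matrix.ProjectiveSpecialLinearGroup.toPermHom_injective

theorem card_proj_line [Finite F] : Nat.card (ℙ F (Fin 2 → F)) = Nat.card F + 1 :=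
  Projectivization.card_of_finrank_two F (Fin 2 → F) (by simp)

theorem card_SL_two {F : Type*} [Field F] [Finite F] :
    (Nat.card F - 1) * Nat.card (Matrix.SpecialLinearGroup (Fin 2) F) =
      (Nat.card F ^ 2 - 1) * (Nat.card F ^ 2 - Nat.card F) := by
  classical
  have : Fintype F := Fintype.ofFinite F
  have h := card_GL_eq_mul_card_SL (F := F) (Fin 2)
  rw [← h, Matrix.card_GL_field, Fin.prod_univ_two, Nat.card_eq_fintype_card (α := F)]
  simp

theorem card_PSL_two_mul {F : Type*} [Field F] [Finite F] :
    Nat.gcd 2 (Nat.card F - 1) * ((Nat.card F - 1) * Nat.card (Matrix.ProjectiveSpecialLinearGroup (Fin 2) F)) =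
      (Nat.card F ^ 2 - 1) * (Nat.card F ^ 2 - Nat.card F) := by
  classical
  have : Fintype F := Fintype.ofFinite F
  have h := card_GL_eq_gcd_mul_card_PSL (F := F) 2 (by omega)
  rw [← h, Matrix.card_GL_field, Fin.prod_univ_two, Nat.card_eq_fintype_card (α := F)]
  simp

/-- `SL₂(2) ≃* S₃`. -/
theorem sl_two_card_two_equiv {F : Type*} [Field F] [Fintype F] (hF : Fintype.card F = 2) :
    Nonempty (Matrix.SpecialLinearGroup (Fin 2) F ≃* Equiv.Perm (Fin 3)) := by
  classical
  have hF' : Nat.card F = 2 := by rwa [Nat.card_eq_fintype_card]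
  have hc := card_SL_two (F := F)
  rw [hF'] at hc
  have hc6 : Nat.card (Matrix.SpecialLinearGroup (Fin 2) F) = 6 := by simpa using hc
  have hcen := card_center_SL (F := F) 2 (by omega)
  rw [hF'] at hcen
  have hbot : Subgroup.center (Matrix.SpecialLinearGroup (Fin 2) F) = ⊥ := by
    apply Subgroup.eq_bot_of_card_eq
    simpa using hcen
  have hinj : Function.Injective (MulAction.toPermHom (Matrix.SpecialLinearGroup (Fin 2) F) (ℙ F (Fin 2 → F))) := by
    rw [← MonoidHom.ker_eq_bot_iff, Projectivization.SL_mulAction_ker, hbot]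
  exact nonempty_mulEquiv_perm_of_injective 3 _ hinj (by rw [card_proj_line, hF']) (by rw [hc6]; rfl)

/-- `PSL₂(3) ≃* A₄`. -/
theorem psl_two_card_three_equiv {F : Type*} [Field F] [Fintype F] (hF : Fintype.card F = 3) :
    Nonempty (Matrix.ProjectiveSpecialLinearGroup (Fin 2) F ≃* alternatingGroup (Fin 4)) := by
  classical
  have hF' : Nat.card F = 3 := by rwa [Nat.card_eq_fintype_card]
  have hc := card_PSL_two_mul (F := F)
  rw [hF'] at hc
  have hc12 : Nat.card (Matrix.ProjectiveSpecialLinearGroup (Fin 2) F) = 12 := by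
    have h2 : Nat.gcd 2 (3 - 1) = 2 := by norm_num
    rw [h2] at hc
    generalize Nat.card (Matrix.ProjectiveSpecialLinearGroup (Fin 2) F) = a at hc ⊢
    norm_num at hc
    omega
  exact nonempty_mulEquiv_alt_of_injective 4 PSLAction.toPermHom psl_toPerm_injective
    (by rw [card_proj_line, hF']) (by rw [hc12]; rfl)

/-- `PSL₂(4) ≃* A₅`. -/
theorem psl_two_card_four_equiv {F : Type*} [Field F] [Fintype F] (hF : Fintype.card F = 4) :
    Nonempty (Matrix.ProjectiveSpecialLinearGroup (Fin 2) F ≃* alternatingGroup (Fin 5)) := by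
  classical
  have hF' : Nat.card F = 4 := by rwa [Nat.card_eq_fintype_card]
  have hc := card_PSL_two_mul (F := F)
  rw [hF'] at hc
  have hc60 : Nat.card (Matrix.ProjectiveSpecialLinearGroup (Fin 2) F) = 60 := by
    have h2 : Nat.gcd 2 (4 - 1) = 1 := by norm_num
    rw [h2] at hc
    generalize Nat.card (Matrix.ProjectiveSpecialLinearGroup (Fin 2) F) = a at hc ⊢
    norm_num at hc
    omega
  exact nonempty_mulEquiv_alt_of_injective 5 PSLAction.toPermHom psl_toPerm_injective
    (by rw [card_proj_line, hF']) (by rw [hc60]; rfl)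

end Cfsg.Agent.Lib.Classical
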