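import Mathlib

set_option autoImplicit false

namespace Cfsg.Agent.Lib.Classical

/-- In a finite field of odd order, `2 ≠ 0`. -/
theorem two_ne_zero_of_odd_card {F : Type*} [Field F] [Fintype F] (h : Odd (Fintype.card F)) : (2 : F) ≠ 0 := by
  intro h2
  have hc : ringChar F = 2 := by
    have hd : ringChar F ∣ 2 := by
      have := ringChar.dvd (R := F) (x := 2) (by exact_mod_cast h2)
      exact this
    have hp := (Nat.dvd_prime Nat.prime_two).1 hd
    rcases hp with hp | hp
    · exact absurd hp CharP.ringChar_ne_one
    · exact hp
  have := FiniteField.even_card_of_char_two hc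
  rcases h with ⟨k, hk⟩
  omega

end Cfsg.Agent.Lib.Classical
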