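import Mathlib
import Cfsg.Agent.Lib.Classical.SmallIso

/-! Recognition of `A₄`, `S₄`, `A₅` from generators. -/

set_option autoImplicit false
set_option linter.unusedSimpArgs false
set_option linter.unusedVariables false
set_option linter.unusedSectionVars false
set_option linter.style.haveILetI false

namespace Cfsg.Agent.Lib.Classical

variable {G : Type*} [Group G] [Finite G]

theorem conj_pow_mem_of (V : Subgroup G) (w : G) (hw : ∀ v ∈ V, w * v * w⁻¹ ∈ V) (k : ℕ) :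
    ∀ v ∈ V, w ^ k * v * (w ^ k)⁻¹ ∈ V := by
  induction k with
  | zero =>
    intro v hv
    simpa using hv
  | succ k ih =>
    intro v hv
    have h1 := hw _ (ih v hv)
    rw [pow_succ']
    convert h1 using 1
    group

/-- The subgroup `V ⟨w⟩` when `w` normalises `V`. -/
def extSub (V : Subgroup G) (w : G) (hw : ∀ v ∈ V, w * v * w⁻¹ ∈ V) : Subgroup G where
  carrier := {x | ∃ v ∈ V, ∃ k : ℕ, x = v * w ^ k}
  mul_mem' := by
    rintro _ _ ⟨v, hv, k, rfl⟩ ⟨v', hv', l, rfl⟩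
    refine ⟨v * (w ^ k * v' * (w ^ k)⁻¹), V.mul_mem hv (conj_pow_mem_of V w hw k v' hv'), k + l, ?_⟩
    rw [pow_add]
    group
  one_mem' := ⟨1, V.one_mem, 0, by simp⟩
  inv_mem' := by
    rintro _ ⟨v, hv, k, rfl⟩
    have hn : 0 < orderOf w := orderOf_pos w
    set m := (orderOf w - 1) * k with hm
    have hm2 : w ^ m * w ^ k = 1 := by
      rw [← pow_add, hm, show (orderOf w - 1) * k + k = orderOf w * k by
        have : orderOf w - 1 + 1 = orderOf w := by omega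
        nth_rewrite 2 [← this]
        ring, pow_mul, pow_orderOf_eq_one, one_pow]
    have hm3 : (w ^ k)⁻¹ = w ^ m := (eq_inv_of_mul_eq_one_left hm2).symm
    refine ⟨w ^ m * v⁻¹ * (w ^ m)⁻¹, conj_pow_mem_of V w hw m _ (V.inv_mem hv), m, ?_⟩
    rw [mul_inv_rev, hm3]
    group

theorem mem_extSub {V : Subgroup G} {w : G} {hw : ∀ v ∈ V, w * v * w⁻¹ ∈ V} {x : G} :
    x ∈ extSub V w hw ↔ ∃ v ∈ V, ∃ k : ℕ, x = v * w ^ k := Iff.rfl

theorem le_extSub (V : Subgroup G) (w : G) (hw : ∀ v ∈ V, w * v * w⁻¹ ∈ V) : V ≤ extSub V w hw :=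
  fun v hv => ⟨v, hv, 0, by simp⟩

theorem self_mem_extSub (V : Subgroup G) (w : G) (hw : ∀ v ∈ V, w * v * w⁻¹ ∈ V) : w ∈ extSub V w hw :=
  ⟨1, V.one_mem, 1, by simp⟩

theorem exists_rep_extSub {V : Subgroup G} {w : G} {hw : ∀ v ∈ V, w * v * w⁻¹ ∈ V} {n : ℕ} (hn : 0 < n) (hwn : w ^ n ∈ V)
    {x : G} (hx : x ∈ extSub V w hw) : ∃ v ∈ V, ∃ k : ℕ, k < n ∧ x = v * w ^ k := by
  obtain ⟨v, hv, k, rfl⟩ := hx
  refine ⟨v * (w ^ n) ^ (k / n), V.mul_mem hv (V.pow_mem hwn _), k % n, Nat.mod_lt _ hn, ?_⟩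
  conv_lhs => rw [← Nat.div_add_mod k n, pow_add, pow_mul]
  group

theorem card_extSub_le {V : Subgroup G} {w : G} {hw : ∀ v ∈ V, w * v * w⁻¹ ∈ V} {n : ℕ} (hn : 0 < n) (hwn : w ^ n ∈ V) :
    Nat.card (extSub V w hw) ≤ Nat.card V * n := by
  classical
  let f : V × Fin n → extSub V w hw := fun x => ⟨x.1.1 * w ^ x.2.val, x.1.1, x.1.2, x.2.val, rfl⟩
  have hf : Function.Surjective f := by
    rintro ⟨x, hx⟩
    obtain ⟨v, hv, k, hk, rfl⟩ := exists_rep_extSub hn hwn hx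
    exact ⟨(⟨v, hv⟩, ⟨k, hk⟩), rfl⟩
  have := Nat.card_le_card_of_surjective f hf
  rwa [Nat.card_prod, Nat.card_fin] at this

/-- Injectivity of the coset action. -/
theorem coset_action_injective {H : Type*} [Group H] (D : Subgroup H) (hcore : ∀ x ∈ D.normalCore, x = 1) :
    Function.Injective (MulAction.toPermHom H (H ⧸ D)) := by
  rw [injective_iff_map_eq_one]
  intro x hx
  apply hcore
  rw [Subgroup.normalCore_eq_ker]
  exact hx

theorem mem_of_pow_three {H : Type*} [Group H] (K : Subgroup H) {w : H} (hw3 : w ^ 3 = 1) {n : ℕ} (hx : w ^ n ∈ K)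
    (hx1 : w ^ n ≠ 1) : w ∈ K := by
  have h3 : n % 3 = 1 ∨ n % 3 = 2 := by
    by_contra h
    have h0 : n % 3 = 0 := by omega
    apply hx1
    rw [← Nat.div_add_mod n 3, h0, add_zero, pow_mul, hw3, one_pow]
  rcases h3 with h | h
  · have e : w ^ n = w := by
      rw [← Nat.div_add_mod n 3, h, pow_add, pow_mul, hw3, one_pow, one_mul, pow_one]
    rwa [e] at hx
  · have e : (w ^ n) ^ 2 = w := by
      rw [← pow_mul, ← Nat.div_add_mod (n * 2) 3, show n * 2 % 3 = 1 by omega, pow_add, pow_mul, hw3, one_pow, one_mul, pow_one]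
    have := K.pow_mem hx 2
    rwa [e] at this

/-- Klein and `A₄` data. -/
structure A4Data (G : Type*) [Group G] where
  a : G
  b : G
  w : G
  ha : a ^ 2 = 1
  hb : b ^ 2 = 1
  hab : a * b = b * a
  ha1 : a ≠ 1
  hb1 : b ≠ 1
  hne : a ≠ b
  hw3 : w ^ 3 = 1
  hw1 : w ≠ 1
  h1 : w * a * w⁻¹ = a * b
  h2 : w * b * w⁻¹ = a

namespace A4Data

variable (D : A4Data G)

theorem a_inv : D.a⁻¹ = D.a := by
  rw [inv_eq_iff_mul_eq_one, ← pow_two, D.ha]

theorem b_inv : D.b⁻¹ = D.b := by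
  rw [inv_eq_iff_mul_eq_one, ← pow_two, D.hb]

theorem aa : D.a * D.a = 1 := by rw [← pow_two, D.ha]

theorem bb : D.b * D.b = 1 := by rw [← pow_two, D.hb]

theorem e1 : D.a * (D.a * D.b) = D.b := by rw [← mul_assoc, D.aa, one_mul]
theorem e2 : D.b * (D.a * D.b) = D.a := by rw [D.hab, ← mul_assoc, D.bb, one_mul]
theorem e3 : D.a * D.b * D.a = D.b := by rw [D.hab, mul_assoc, D.aa, mul_one]
theorem e4 : D.a * D.b * D.b = D.a := by rw [mul_assoc, D.bb, mul_one]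
theorem e5 : D.a * D.b * (D.a * D.b) = 1 := by rw [mul_assoc, D.e2, D.aa]
theorem e6 : D.b * D.a = D.a * D.b := D.hab.symm

/-- The Klein group. -/
def V : Subgroup G where
  carrier := {1, D.a, D.b, D.a * D.b}
  mul_mem' := by
    rintro x y (rfl | rfl | rfl | rfl) (rfl | rfl | rfl | rfl) <;>
      simp [D.aa, D.bb, D.e1, D.e2, D.e3, D.e4, D.e5, D.e6]
  one_mem' := by simp
  inv_mem' := by
    have e : (D.a * D.b)⁻¹ = D.a * D.b := by
      rw [mul_inv_rev, D.a_inv, D.b_inv, D.hab]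
    rintro x (rfl | rfl | rfl | rfl) <;> simp [D.a_inv, D.b_inv, e]

theorem mem_V {x : G} : x ∈ D.V ↔ x = 1 ∨ x = D.a ∨ x = D.b ∨ x = D.a * D.b := Iff.rfl

theorem a_mem : D.a ∈ D.V := by simp [mem_V]
theorem b_mem : D.b ∈ D.V := by simp [mem_V]

theorem V_comm {x y : G} (hx : x ∈ D.V) (hy : y ∈ D.V) : x * y = y * x := by
  rcases hx with rfl | rfl | rfl | rfl <;> rcases hy with rfl | rfl | rfl | rfl <;>
    simp [D.e1, D.e2, D.e3, D.e4, D.e6]

theorem ab_ne_one : D.a * D.b ≠ 1 := by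
  intro h
  apply D.hne
  have := eq_inv_of_mul_eq_one_left h
  rwa [D.b_inv] at this

theorem ab_ne_a : D.a * D.b ≠ D.a := by
  intro h
  apply D.hb1
  exact mul_left_cancel (a := D.a) (by rw [h, mul_one])

theorem ab_ne_b : D.a * D.b ≠ D.b := by
  intro h
  apply D.ha1
  exact mul_right_cancel (b := D.b) (by rw [h, one_mul])

theorem card_V : Nat.card D.V = 4 := by
  classical
  apply le_antisymm
  · let f : Fin 4 → D.V := ![1, ⟨D.a, D.a_mem⟩, ⟨D.b, D.b_mem⟩, ⟨D.a * D.b, D.V.mul_mem D.a_mem D.b_mem⟩]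
    have hf : Function.Surjective f := by
      rintro ⟨x, hx⟩
      rcases hx with rfl | rfl | rfl | rfl
      · exact ⟨0, rfl⟩
      · exact ⟨1, rfl⟩
      · exact ⟨2, rfl⟩
      · exact ⟨3, rfl⟩
    have := Nat.card_le_card_of_surjective f hf
    simpa using this
  · let f : Fin 4 → D.V := ![1, ⟨D.a, D.a_mem⟩, ⟨D.b, D.b_mem⟩, ⟨D.a * D.b, D.V.mul_mem D.a_mem D.b_mem⟩]
    have hf : Function.Injective f := by
      intro i j h
      have hv := congrArg Subtype.val h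
      fin_cases i <;> fin_cases j <;> first
        | rfl
        | (exfalso; revert hv; simp [f, D.ha1, D.hb1, D.hne, D.ha1.symm, D.hb1.symm, D.hne.symm, D.ab_ne_one, D.ab_ne_a, D.ab_ne_b, D.ab_ne_one.symm, D.ab_ne_a.symm, D.ab_ne_b.symm])
    have := Nat.card_le_card_of_injective f hf
    simpa using this

theorem hwV {x : G} (hx : x ∈ D.V) : D.w * x * D.w⁻¹ ∈ D.V := by
  have e : D.w * (D.a * D.b) * D.w⁻¹ = (D.w * D.a * D.w⁻¹) * (D.w * D.b * D.w⁻¹) := by group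
  rcases hx with rfl | rfl | rfl | rfl
  · simpa using D.V.one_mem
  · rw [D.h1]
    exact D.V.mul_mem D.a_mem D.b_mem
  · rw [D.h2]
    exact D.a_mem
  · rw [e, D.h1, D.h2, D.e3]
    exact D.b_mem

/-- The group of order `12`. -/
def T : Subgroup G := extSub D.V D.w (fun _ hx => D.hwV hx)

theorem orderOf_w : orderOf D.w = 3 := orderOf_eq_prime D.hw3 D.hw1

theorem V_inter {x : G} (hx : x ∈ D.V) (hk : x ∈ Subgroup.zpowers D.w) : x = 1 := by
  have h1 : x ^ 3 = 1 := by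
    obtain ⟨k, rfl⟩ := Subgroup.mem_zpowers_iff.1 hk
    rw [← zpow_natCast, ← zpow_mul, mul_comm, zpow_mul, zpow_natCast, D.hw3, one_zpow]
  have h2 : x ^ 2 = 1 := by
    rcases hx with rfl | rfl | rfl | rfl
    · simp
    · exact D.ha
    · exact D.hb
    · rw [pow_two, D.e5]
  calc x = x ^ 3 * (x ^ 2)⁻¹ := by group
    _ = 1 := by rw [h1, h2]; simp

theorem V_ne_of {x : G} (hx : x ∈ D.V) (hx1 : x ≠ 1) : D.w * x * D.w⁻¹ ≠ x := by
  intro h
  have e : D.w * (D.a * D.b) * D.w⁻¹ = (D.w * D.a * D.w⁻¹) * (D.w * D.b * D.w⁻¹) := by group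
  rcases hx with rfl | rfl | rfl | rfl
  · exact hx1 rfl
  · rw [D.h1] at h
    exact D.ab_ne_a h
  · rw [D.h2] at h
    exact D.hne h
  · rw [e, D.h1, D.h2, D.e3] at h
    exact D.ab_ne_b h.symm

theorem not_conj_mem (h : D.a * D.w * D.a⁻¹ ∈ Subgroup.zpowers D.w) : False := by
  have hy1 : D.a * D.w * D.a⁻¹ * D.w⁻¹ ∈ D.V := by
    have e : D.a * D.w * D.a⁻¹ * D.w⁻¹ = D.a * (D.w * D.a * D.w⁻¹)⁻¹ := by
      group
    rw [e, D.h1]
    exact D.V.mul_mem D.a_mem (D.V.inv_mem (D.V.mul_mem D.a_mem D.b_mem))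
  have hy2 : D.a * D.w * D.a⁻¹ * D.w⁻¹ ∈ Subgroup.zpowers D.w :=
    Subgroup.mul_mem _ h (Subgroup.inv_mem _ (Subgroup.mem_zpowers _))
  have hy := D.V_inter hy1 hy2
  have h3 : D.w * D.a * D.w⁻¹ = D.a := by
    have h4 : D.a * D.w * D.a⁻¹ = D.w := mul_inv_eq_one.1 hy
    have h5 : D.a * D.w = D.w * D.a := mul_inv_eq_iff_eq_mul.1 h4
    rw [← h5]
    group
  exact D.V_ne_of D.a_mem D.ha1 h3

theorem rep_T {x : G} (hx : x ∈ D.T) : ∃ v ∈ D.V, ∃ k : ℕ, k < 3 ∧ x = v * D.w ^ k :=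
  exists_rep_extSub (by norm_num) (by rw [D.hw3]; exact D.V.one_mem) hx

theorem V_le_T : D.V ≤ D.T := le_extSub _ _ _

theorem w_mem_T : D.w ∈ D.T := self_mem_extSub _ _ _

theorem card_T : Nat.card D.T = 12 := by
  apply le_antisymm
  · have := card_extSub_le (V := D.V) (w := D.w) (hw := fun _ hx => D.hwV hx) (n := 3) (by norm_num) (by rw [D.hw3]; exact D.V.one_mem)
    rw [D.card_V] at this
    exact this
  · have h1 : 4 ∣ Nat.card D.T := by
      rw [← D.card_V]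
      exact Subgroup.card_dvd_of_le D.V_le_T
    have h2 : 3 ∣ Nat.card D.T := by
      have h3 : Nat.card (Subgroup.zpowers D.w) = 3 := by
        rw [Nat.card_zpowers, D.orderOf_w]
      rw [← h3]
      apply Subgroup.card_dvd_of_le
      rw [Subgroup.zpowers_le]
      exact D.w_mem_T
    have h4 : 12 ∣ Nat.card D.T := by
      have := Nat.Coprime.mul_dvd_of_dvd_of_dvd (by norm_num : Nat.Coprime 4 3) h1 h2
      simpa using this
    exact Nat.le_of_dvd Nat.card_pos h4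

/-- `T ≅ A₄`. -/
theorem T_equiv : Nonempty (D.T ≃* alternatingGroup (Fin 4)) := by
  classical
  let W : Subgroup D.T := Subgroup.zpowers ⟨D.w, D.w_mem_T⟩
  have hW : Nat.card W = 3 := by
    rw [Nat.card_zpowers, Subgroup.orderOf_mk]
    exact D.orderOf_w
  have hidx : Nat.card (D.T ⧸ W) = 4 := by
    have h := Subgroup.card_eq_card_quotient_mul_card_subgroup W
    rw [D.card_T, hW] at h
    omega
  refine nonempty_mulEquiv_alt_of_injective 4 (MulAction.toPermHom D.T (D.T ⧸ W)) ?_ hidx (by rw [D.card_T]; rfl)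
  apply coset_action_injective
  intro x hx
  by_contra hx1
  have hxW : x ∈ W := W.normalCore_le hx
  set w' : D.T := ⟨D.w, D.w_mem_T⟩ with hw'
  have hw3' : w' ^ 3 = 1 := Subtype.ext D.hw3
  obtain ⟨n, rfl⟩ := (Submonoid.mem_powers_iff _ _).1 (mem_powers_iff_mem_zpowers.2 hxW)
  have hK : w' ∈ W.normalCore := mem_of_pow_three W.normalCore hw3' hx hx1
  have h1 := (Subgroup.normalCore_normal W).conj_mem w' hK ⟨D.a, D.V_le_T D.a_mem⟩
  have h2 : ((⟨D.a, D.V_le_T D.a_mem⟩ : D.T) * w' * (⟨D.a, D.V_le_T D.a_mem⟩ : D.T)⁻¹) ∈ W := W.normalCore_le h1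
  obtain ⟨k, hk⟩ := Subgroup.mem_zpowers_iff.1 h2
  have h3 : D.a * D.w * D.a⁻¹ ∈ Subgroup.zpowers D.w := by
    rw [Subgroup.mem_zpowers_iff]
    refine ⟨k, ?_⟩
    have := congrArg Subtype.val hk
    simpa [w'] using this
  exact D.not_conj_mem h3

end A4Data

/-- `S₄` data. -/
structure S4Data (G : Type*) [Group G] extends A4Data G where
  r : G
  hr2 : r ^ 2 = 1
  hra : r * a * r⁻¹ = b
  hrb : r * b * r⁻¹ = a
  hrw : r * w * r⁻¹ = w⁻¹

namespace S4Data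

variable (D : S4Data G)

theorem r_inv : D.r⁻¹ = D.r := by
  rw [inv_eq_iff_mul_eq_one, ← pow_two, D.hr2]

theorem hrV {x : G} (hx : x ∈ D.V) : D.r * x * D.r⁻¹ ∈ D.V := by
  have e : D.r * (D.a * D.b) * D.r⁻¹ = (D.r * D.a * D.r⁻¹) * (D.r * D.b * D.r⁻¹) := by group
  rcases hx with rfl | rfl | rfl | rfl
  · simpa using D.V.one_mem
  · rw [D.hra]
    exact D.b_mem
  · rw [D.hrb]
    exact D.a_mem
  · rw [e, D.hra, D.hrb, ← D.hab]
    exact D.V.mul_mem D.a_mem D.b_mem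

theorem hrT {x : G} (hx : x ∈ D.T) : D.r * x * D.r⁻¹ ∈ D.T := by
  obtain ⟨v, hv, k, rfl⟩ := hx
  have e : D.r * (v * D.w ^ k) * D.r⁻¹ = (D.r * v * D.r⁻¹) * (D.r * D.w * D.r⁻¹) ^ k := by
    rw [conj_pow]
    group
  rw [e, D.hrw]
  exact D.T.mul_mem (D.V_le_T (D.hrV hv)) (D.T.pow_mem (D.T.inv_mem D.w_mem_T) _)

/-- The group of order `24`. -/
def S : Subgroup G := extSub D.T D.r (fun _ hx => D.hrT hx)

theorem T_le_S : D.T ≤ D.S := le_extSub _ _ _

theorem r_mem_S : D.r ∈ D.S := self_mem_extSub _ _ _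

theorem conj_pow_two_a : D.w ^ 2 * D.a * (D.w ^ 2)⁻¹ = D.b := by
  have e : D.w ^ 2 * D.a * (D.w ^ 2)⁻¹ = D.w * (D.w * D.a * D.w⁻¹) * D.w⁻¹ := by
    rw [pow_two]
    group
  have e2 : D.w * (D.a * D.b) * D.w⁻¹ = (D.w * D.a * D.w⁻¹) * (D.w * D.b * D.w⁻¹) := by group
  rw [e, D.h1, e2, D.h1, D.h2, D.e3]

theorem conj_pow_two_b : D.w ^ 2 * D.b * (D.w ^ 2)⁻¹ = D.a * D.b := by
  have e : D.w ^ 2 * D.b * (D.w ^ 2)⁻¹ = D.w * (D.w * D.b * D.w⁻¹) * D.w⁻¹ := by
    rw [pow_two]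
    group
  rw [e, D.h2, D.h1]

theorem r_not_mem_T : D.r ∉ D.T := by
  intro h
  obtain ⟨v, hv, k, hk, hrv⟩ := D.rep_T h
  have hcv : ∀ {y : G}, y ∈ D.V → v * y * v⁻¹ = y := by
    intro y hy
    rw [D.V_comm hv hy]
    group
  have e1 : D.r * D.a * D.r⁻¹ = v * (D.w ^ k * D.a * (D.w ^ k)⁻¹) * v⁻¹ := by
    rw [hrv]
    group
  have e2 : D.r * D.b * D.r⁻¹ = v * (D.w ^ k * D.b * (D.w ^ k)⁻¹) * v⁻¹ := by
    rw [hrv]
    group
  rw [D.hra] at e1
  rw [D.hrb] at e2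
  interval_cases k
  · simp only [pow_zero, one_mul, inv_one, mul_one] at e1
    rw [hcv D.a_mem] at e1
    exact D.hne e1.symm
  · simp only [pow_one] at e1
    rw [D.h1, hcv (D.V.mul_mem D.a_mem D.b_mem)] at e1
    exact D.ab_ne_b e1.symm
  · rw [D.conj_pow_two_b, hcv (D.V.mul_mem D.a_mem D.b_mem)] at e2
    exact D.ab_ne_a e2.symm

theorem card_S : Nat.card D.S = 24 := by
  apply le_antisymm
  · have := card_extSub_le (V := D.T) (w := D.r) (hw := fun _ hx => D.hrT hx) (n := 2) (by norm_num) (by rw [D.hr2]; exact D.T.one_mem)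
    rw [D.card_T] at this
    exact this
  · have h1 : D.T < D.S := lt_of_le_of_ne D.T_le_S (fun h => D.r_not_mem_T (by rw [h]; exact D.r_mem_S))
    have h2 : 12 ∣ Nat.card D.S := by
      rw [← D.card_T]
      exact Subgroup.card_dvd_of_le D.T_le_S
    have h3 : Nat.card D.S ≠ 12 := by
      intro h
      rw [← D.card_T] at h
      exact h1.ne (Subgroup.eq_of_le_of_card_ge D.T_le_S h.le)
    have h4 : 0 < Nat.card D.S := Nat.card_pos
    obtain ⟨c, hc⟩ := h2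
    rw [hc] at h3 h4 ⊢
    have : 2 ≤ c := by
      by_contra h5
      have : c = 0 ∨ c = 1 := by omega
      rcases this with rfl | rfl <;> simp at h3 h4
    omega

theorem hrW {x : G} (hx : x ∈ Subgroup.zpowers D.w) : D.r * x * D.r⁻¹ ∈ Subgroup.zpowers D.w := by
  obtain ⟨k, rfl⟩ := Subgroup.mem_zpowers_iff.1 hx
  rw [← conj_zpow, D.hrw]
  exact Subgroup.zpow_mem _ (Subgroup.inv_mem _ (Subgroup.mem_zpowers _)) _

/-- The point stabiliser, of order `6`. -/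
def P : Subgroup G := extSub (Subgroup.zpowers D.w) D.r (fun _ hx => D.hrW hx)

theorem card_P_le : Nat.card D.P ≤ 6 := by
  have := card_extSub_le (V := Subgroup.zpowers D.w) (w := D.r) (hw := fun _ hx => D.hrW hx) (n := 2) (by norm_num) (by rw [D.hr2]; exact Subgroup.one_mem _)
  rw [Nat.card_zpowers, D.orderOf_w] at this
  exact this

theorem P_le_S : D.P ≤ D.S := by
  rintro _ ⟨v, hv, k, rfl⟩
  apply D.S.mul_mem
  · apply D.T_le_S
    exact (Subgroup.zpowers_le.2 D.w_mem_T) hv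
  · exact D.S.pow_mem D.r_mem_S _

theorem r_mem_P : D.r ∈ D.P := self_mem_extSub _ _ _

theorem zp_le_P : Subgroup.zpowers D.w ≤ D.P := le_extSub _ _ _

theorem r_not_mem_zp : D.r ∉ Subgroup.zpowers D.w := fun h =>
  D.r_not_mem_T ((Subgroup.zpowers_le.2 D.w_mem_T) h)

theorem card_P : Nat.card D.P = 6 := by
  apply le_antisymm D.card_P_le
  have hz : Nat.card (Subgroup.zpowers D.w) = 3 := by
    rw [Nat.card_zpowers, D.orderOf_w]
  have h2 : 3 ∣ Nat.card D.P := by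
    rw [← hz]
    exact Subgroup.card_dvd_of_le D.zp_le_P
  have h3 : Nat.card D.P ≠ 3 := by
    intro h
    rw [← hz] at h
    have := Subgroup.eq_of_le_of_card_ge D.zp_le_P h.le
    exact D.r_not_mem_zp (by rw [this]; exact D.r_mem_P)
  have h4 : 0 < Nat.card D.P := Nat.card_pos
  obtain ⟨c, hc⟩ := h2
  rw [hc] at h3 h4 ⊢
  have : 2 ≤ c := by
    by_contra h5
    have : c = 0 ∨ c = 1 := by omega
    rcases this with rfl | rfl <;> simp at h3 h4
  omega

theorem b_not_mem_P : D.b ∉ D.P := by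
  intro h
  obtain ⟨v, hv, k, hk, hb⟩ := exists_rep_extSub (n := 2) (by norm_num) (by rw [D.hr2]; exact Subgroup.one_mem _) h
  interval_cases k
  · simp only [pow_zero, mul_one] at hb
    rw [← hb] at hv
    exact D.hb1 (D.V_inter D.b_mem hv)
  · simp only [pow_one] at hb
    obtain ⟨l, rfl⟩ := Subgroup.mem_zpowers_iff.1 hv
    have h1 : D.b * D.w * D.b⁻¹ = D.w⁻¹ := by
      rw [hb]
      calc D.w ^ l * D.r * D.w * (D.w ^ l * D.r)⁻¹ = D.w ^ l * (D.r * D.w * D.r⁻¹) * (D.w ^ l)⁻¹ := by group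
        _ = D.w⁻¹ := by
          rw [D.hrw]
          have : Commute (D.w ^ l) D.w⁻¹ := (Commute.refl D.w).zpow_left l |>.inv_right
          rw [this.eq]
          group
    have h2 : D.b * D.w * D.b⁻¹ * D.w⁻¹ ∈ D.V := by
      have e : D.b * D.w * D.b⁻¹ * D.w⁻¹ = D.b * (D.w * D.b * D.w⁻¹)⁻¹ := by group
      rw [e, D.h2]
      exact D.V.mul_mem D.b_mem (D.V.inv_mem D.a_mem)
    rw [h1] at h2
    have h3 : D.w⁻¹ * D.w⁻¹ = D.w := by
      have : D.w ^ 3 = 1 := D.hw3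
      calc D.w⁻¹ * D.w⁻¹ = D.w⁻¹ * D.w⁻¹ * D.w ^ 3 := by rw [this, mul_one]
        _ = D.w := by group
    rw [h3] at h2
    exact D.hw1 (D.V_inter h2 (Subgroup.mem_zpowers _))

/-- `S ≅ S₄`. -/
theorem S_equiv : Nonempty (D.S ≃* Equiv.Perm (Fin 4)) := by
  classical
  let W : Subgroup D.S := D.P.subgroupOf D.S
  have hW : Nat.card W = 6 := by
    rw [← D.card_P]
    exact Nat.card_congr (Subgroup.subgroupOfEquivOfLe D.P_le_S).toEquiv
  have hidx : Nat.card (D.S ⧸ W) = 4 := by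
    have h := Subgroup.card_eq_card_quotient_mul_card_subgroup W
    rw [D.card_S, hW] at h
    omega
  refine nonempty_mulEquiv_perm_of_injective 4 (MulAction.toPermHom D.S (D.S ⧸ W)) ?_ hidx (by rw [D.card_S]; rfl)
  apply coset_action_injective
  intro x hx
  by_contra hx1
  have hxW : x ∈ W := W.normalCore_le hx
  set w' : D.S := ⟨D.w, D.T_le_S D.w_mem_T⟩ with hw'
  have hw3' : w' ^ 3 = 1 := Subtype.ext D.hw3
  have hx2 : x.1 ∈ D.P := hxW
  obtain ⟨v, hv, k, hk, hxv⟩ := exists_rep_extSub (n := 2) (by norm_num) (by rw [D.hr2]; exact Subgroup.one_mem _) hx2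
  have hK : w' ∈ W.normalCore := by
    interval_cases k
    · simp only [pow_zero, mul_one] at hxv
      rw [← hxv] at hv
      obtain ⟨n, hn⟩ := (Submonoid.mem_powers_iff _ _).1 (mem_powers_iff_mem_zpowers.2 hv)
      have hxn : x = w' ^ n := by
        apply Subtype.ext
        rw [← hn]
        rfl
      rw [hxn] at hx hx1
      exact mem_of_pow_three W.normalCore hw3' hx hx1
    · simp only [pow_one] at hxv
      have hc := (Subgroup.normalCore_normal W).conj_mem x hx w'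
      have hc2 := W.normalCore.mul_mem hc (W.normalCore.inv_mem hx)
      have e : w' * x * w'⁻¹ * x⁻¹ = w' ^ 2 := by
        apply Subtype.ext
        change D.w * x.1 * D.w⁻¹ * x.1⁻¹ = D.w ^ 2
        rw [hxv]
        obtain ⟨l, rfl⟩ := Subgroup.mem_zpowers_iff.1 hv
        have e1 : D.r * D.w⁻¹ * D.r⁻¹ = D.w := by
          have := congrArg (fun t => t⁻¹) D.hrw
          simpa [mul_assoc] using this
        calc D.w * (D.w ^ l * D.r) * D.w⁻¹ * (D.w ^ l * D.r)⁻¹ = D.w * D.w ^ l * (D.r * D.w⁻¹ * D.r⁻¹) * (D.w ^ l)⁻¹ := by group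
          _ = D.w ^ 2 := by
            rw [e1, pow_two, mul_assoc D.w, ((Commute.refl D.w).zpow_left l).eq]
            group
            exact zpow_two _
      rw [e] at hc2
      have h5 : w' ^ 2 ≠ 1 := by
        intro h
        have h6 : w' = 1 := by
          calc w' = w' ^ 3 * (w' ^ 2)⁻¹ := by group
            _ = 1 := by rw [hw3', h]; simp
        apply D.hw1
        exact congrArg Subtype.val h6
      exact mem_of_pow_three W.normalCore hw3' hc2 h5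
  have h1 := (Subgroup.normalCore_normal W).conj_mem w' hK ⟨D.a, D.T_le_S (D.V_le_T D.a_mem)⟩
  have h2 : (D.a * D.w * D.a⁻¹) ∈ D.P := W.normalCore_le h1
  have e : D.a * D.w * D.a⁻¹ = D.b * D.w := by
    have h3 : D.w * D.a⁻¹ * D.w⁻¹ = D.a * D.b := by
      rw [D.a_inv, D.h1]
    calc D.a * D.w * D.a⁻¹ = D.a * (D.w * D.a⁻¹ * D.w⁻¹) * D.w := by group
      _ = D.b * D.w := by rw [h3, D.e1]
  rw [e] at h2
  have h3 : D.b ∈ D.P := by
    have := D.P.mul_mem h2 (D.P.inv_mem (D.zp_le_P (Subgroup.mem_zpowers D.w)))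
    simpa using this
  exact D.b_not_mem_P h3

end S4Data

/-- `A₅` data. -/
structure A5Data (G : Type*) [Group G] [Finite G] extends A4Data G where
  t : G
  ht5 : t ^ 5 = 1
  ht1 : t ≠ 1
  hcosa : ∀ n : ℕ, n < 5 → ∃ m : ℕ, m < 5 ∧ t ^ n * a * (t ^ m)⁻¹ ∈ toA4Data.T
  hcosb : ∀ n : ℕ, n < 5 → ∃ m : ℕ, m < 5 ∧ t ^ n * b * (t ^ m)⁻¹ ∈ toA4Data.T
  hcosw : ∀ n : ℕ, n < 5 → ∃ m : ℕ, m < 5 ∧ t ^ n * w * (t ^ m)⁻¹ ∈ toA4Data.T
  hnot : t * a * t⁻¹ ∉ toA4Data.V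

namespace A5Data

variable (D : A5Data G)

/-- Elements moving cosets of `T` to cosets. -/
def Good (y : G) : Prop := ∀ n : ℕ, n < 5 → ∃ m : ℕ, m < 5 ∧ D.t ^ n * y * (D.t ^ m)⁻¹ ∈ D.T

theorem good_one : D.Good 1 := fun n hn => ⟨n, hn, by simpa using D.T.one_mem⟩

theorem good_mul {x y : G} (hx : D.Good x) (hy : D.Good y) : D.Good (x * y) := by
  intro n hn
  obtain ⟨m, hm, h1⟩ := hx n hn
  obtain ⟨l, hl, h2⟩ := hy m hm
  refine ⟨l, hl, ?_⟩
  have e : D.t ^ n * (x * y) * (D.t ^ l)⁻¹ = (D.t ^ n * x * (D.t ^ m)⁻¹) * (D.t ^ m * y * (D.t ^ l)⁻¹) := by group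
  rw [e]
  exact D.T.mul_mem h1 h2

theorem good_pow {x : G} (hx : D.Good x) (k : ℕ) : D.Good (x ^ k) := by
  induction k with
  | zero => simpa using D.good_one
  | succ k ih =>
    rw [pow_succ]
    exact D.good_mul ih hx

theorem good_T {y : G} (hy : y ∈ D.T) : D.Good y := by
  obtain ⟨v, hv, k, rfl⟩ := hy
  apply D.good_mul _ (D.good_pow D.hcosw k)
  rcases hv with rfl | rfl | rfl | rfl
  · exact D.good_one
  · exact D.hcosa
  · exact D.hcosb
  · exact D.good_mul D.hcosa D.hcosb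

theorem reduce_pow (k : ℕ) : D.t ^ k = D.t ^ (k % 5) := by
  conv_lhs => rw [← Nat.div_add_mod k 5, pow_add, pow_mul, D.ht5, one_pow, one_mul]

theorem mul_aux {v v' : G} (hv : v ∈ D.T) (hv' : v' ∈ D.T) (k l : ℕ) : ∃ u ∈ D.T, ∃ j : ℕ, (v * D.t ^ k) * (v' * D.t ^ l) = u * D.t ^ j := by
  obtain ⟨m, hm, h⟩ := D.good_T hv' (k % 5) (Nat.mod_lt _ (by norm_num))
  rw [← D.reduce_pow] at h
  refine ⟨v * (D.t ^ k * v' * (D.t ^ m)⁻¹), D.T.mul_mem hv h, m + l, ?_⟩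
  rw [pow_add]
  group

theorem pow_aux {v : G} (hv : v ∈ D.T) (k n : ℕ) : ∃ u ∈ D.T, ∃ j : ℕ, (v * D.t ^ k) ^ n = u * D.t ^ j := by
  induction n with
  | zero => exact ⟨1, D.T.one_mem, 0, by simp⟩
  | succ n ih =>
    obtain ⟨u, hu, j, h⟩ := ih
    rw [pow_succ, h]
    exact D.mul_aux hu hv j k

/-- The group of order `60`. -/
def I : Subgroup G where
  carrier := {x | ∃ v ∈ D.T, ∃ k : ℕ, x = v * D.t ^ k}
  mul_mem' := by
    rintro _ _ ⟨v, hv, k, rfl⟩ ⟨v', hv', l, rfl⟩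
    exact D.mul_aux hv hv' k l
  one_mem' := ⟨1, D.T.one_mem, 0, by simp⟩
  inv_mem' := by
    rintro _ ⟨v, hv, k, rfl⟩
    have hpos := orderOf_pos (v * D.t ^ k)
    have e : (v * D.t ^ k) ^ (orderOf (v * D.t ^ k) - 1) * (v * D.t ^ k) = 1 := by
      rw [← pow_succ, Nat.sub_add_cancel hpos, pow_orderOf_eq_one]
    have e' : (v * D.t ^ k)⁻¹ = (v * D.t ^ k) ^ (orderOf (v * D.t ^ k) - 1) := (eq_inv_of_mul_eq_one_left e).symm
    rw [e']
    exact D.pow_aux hv k _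

theorem T_le_I : D.T ≤ D.I := fun v hv => ⟨v, hv, 0, by simp⟩

theorem t_mem_I : D.t ∈ D.I := ⟨1, D.T.one_mem, 1, by simp⟩

theorem orderOf_t : orderOf D.t = 5 := by
  haveI : Fact (Nat.Prime 5) := ⟨by norm_num⟩
  exact orderOf_eq_prime D.ht5 D.ht1

theorem card_I : Nat.card D.I = 60 := by
  classical
  apply le_antisymm
  · let f : D.T × Fin 5 → D.I := fun x => ⟨x.1.1 * D.t ^ x.2.val, x.1.1, x.1.2, x.2.val, rfl⟩
    have hf : Function.Surjective f := by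
      rintro ⟨x, v, hv, k, rfl⟩
      refine ⟨(⟨v, hv⟩, ⟨k % 5, Nat.mod_lt _ (by norm_num)⟩), ?_⟩
      apply Subtype.ext
      change v * D.t ^ (k % 5) = v * D.t ^ k
      rw [← D.reduce_pow]
    have := Nat.card_le_card_of_surjective f hf
    rw [Nat.card_prod, Nat.card_fin, D.card_T] at this
    exact this
  · have h1 : 12 ∣ Nat.card D.I := by
      rw [← D.card_T]
      exact Subgroup.card_dvd_of_le D.T_le_I
    have h2 : 5 ∣ Nat.card D.I := by
      have h3 : Nat.card (Subgroup.zpowers D.t) = 5 := by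
        rw [Nat.card_zpowers, D.orderOf_t]
      rw [← h3]
      apply Subgroup.card_dvd_of_le
      rw [Subgroup.zpowers_le]
      exact D.t_mem_I
    have h4 : 60 ∣ Nat.card D.I := by
      have := Nat.Coprime.mul_dvd_of_dvd_of_dvd (by norm_num : Nat.Coprime 12 5) h1 h2
      simpa using this
    exact Nat.le_of_dvd Nat.card_pos h4

theorem invol_T {y : G} (hy : y ∈ D.T) (h2 : y ^ 2 = 1) : y ∈ D.V := by
  obtain ⟨v, hv, k, hk, rfl⟩ := D.rep_T hy
  have h3 : (v * D.w ^ k) ^ 2 = (v * (D.w ^ k * v * (D.w ^ k)⁻¹)) * D.w ^ (2 * k) := by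
    rw [two_mul, pow_add, pow_two]
    group
  rw [h3] at h2
  have hV : v * (D.w ^ k * v * (D.w ^ k)⁻¹) ∈ D.V := D.V.mul_mem hv (conj_pow_mem_of D.V D.w (fun _ hx => D.hwV hx) k v hv)
  have h4 : D.w ^ (2 * k) ∈ D.V := by
    have e : D.w ^ (2 * k) = (v * (D.w ^ k * v * (D.w ^ k)⁻¹))⁻¹ := eq_inv_of_mul_eq_one_right h2
    rw [e]
    exact D.V.inv_mem hV
  have h5 := D.V_inter h4 (Subgroup.pow_mem _ (Subgroup.mem_zpowers _) _)
  have h6 := orderOf_dvd_of_pow_eq_one h5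
  rw [D.orderOf_w] at h6
  have h7 : 3 ∣ k := (Nat.Coprime.dvd_of_dvd_mul_left (by norm_num) h6)
  have h8 : k = 0 := Nat.eq_zero_of_dvd_of_lt h7 hk
  rw [h8, pow_zero, mul_one]
  exact hv

/-- `I ≅ A₅`. -/
theorem I_equiv : Nonempty (D.I ≃* alternatingGroup (Fin 5)) := by
  classical
  let W : Subgroup D.I := D.T.subgroupOf D.I
  have hW : Nat.card W = 12 := by
    rw [← D.card_T]
    exact Nat.card_congr (Subgroup.subgroupOfEquivOfLe D.T_le_I).toEquiv
  have hidx : Nat.card (D.I ⧸ W) = 5 := by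
    have h := Subgroup.card_eq_card_quotient_mul_card_subgroup W
    rw [D.card_I, hW] at h
    omega
  refine nonempty_mulEquiv_alt_of_injective 5 (MulAction.toPermHom D.I (D.I ⧸ W)) ?_ hidx (by rw [D.card_I]; rfl)
  apply coset_action_injective
  intro x hx
  by_contra hx1
  have hxW : x ∈ W := W.normalCore_le hx
  have hnm := Subgroup.normalCore_normal W
  set K := W.normalCore with hKdef
  have hconj : ∀ (g : D.I), ∀ y ∈ K, g * y * g⁻¹ ∈ K := fun g y hy => hnm.conj_mem y hy g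
  -- an element of `K ∩ V`
  set a' : D.I := ⟨D.a, D.T_le_I (D.V_le_T D.a_mem)⟩ with ha'
  set w' : D.I := ⟨D.w, D.T_le_I D.w_mem_T⟩ with hw'
  set t' : D.I := ⟨D.t, D.t_mem_I⟩ with ht'
  have hxT : x.1 ∈ D.T := hxW
  obtain ⟨v, hv, k, hk, hxv⟩ := D.rep_T hxT
  have hexists : ∃ y : D.I, y ∈ K ∧ y.1 ∈ D.V ∧ y ≠ 1 := by
    by_cases hk0 : k = 0
    · refine ⟨x, hx, ?_, hx1⟩
      rw [hxv, hk0, pow_zero, mul_one]
      exact hv
    · refine ⟨a' * (x * a'⁻¹ * x⁻¹), ?_, ?_, ?_⟩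
      · have h1 := K.mul_mem (hconj a' x hx) (K.inv_mem hx)
        have e : a' * (x * a'⁻¹ * x⁻¹) = a' * x * a'⁻¹ * x⁻¹ := by group
        rw [e]
        exact h1
      · change D.a * (x.1 * D.a⁻¹ * x.1⁻¹) ∈ D.V
        apply D.V.mul_mem D.a_mem
        rw [hxv]
        have e : v * D.w ^ k * D.a⁻¹ * (v * D.w ^ k)⁻¹ = v * (D.w ^ k * D.a⁻¹ * (D.w ^ k)⁻¹) * v⁻¹ := by group
        rw [e]
        exact D.V.mul_mem (D.V.mul_mem hv (conj_pow_mem_of D.V D.w (fun _ hx => D.hwV hx) k _ (D.V.inv_mem D.a_mem))) (D.V.inv_mem hv)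
      · intro h
        have h1 : D.a * (x.1 * D.a⁻¹ * x.1⁻¹) = 1 := congrArg Subtype.val h
        rw [hxv] at h1
        have e : v * D.w ^ k * D.a⁻¹ * (v * D.w ^ k)⁻¹ = D.w ^ k * D.a⁻¹ * (D.w ^ k)⁻¹ := by
          have h2 := D.V_comm hv (conj_pow_mem_of D.V D.w (fun _ hx => D.hwV hx) k _ (D.V.inv_mem D.a_mem))
          calc v * D.w ^ k * D.a⁻¹ * (v * D.w ^ k)⁻¹ = v * (D.w ^ k * D.a⁻¹ * (D.w ^ k)⁻¹) * v⁻¹ := by group
            _ = _ := by rw [h2]; group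
        rw [e, D.a_inv] at h1
        have h3 : D.w ^ k * D.a * (D.w ^ k)⁻¹ = D.a := by
          have := eq_inv_of_mul_eq_one_right h1
          rwa [D.a_inv] at this
        interval_cases k
        · exact hk0 rfl
        · simp only [pow_one] at h3
          exact D.V_ne_of D.a_mem D.ha1 h3
        · have e2 : D.w ^ 2 * D.a * (D.w ^ 2)⁻¹ = D.w * (D.w * D.a * D.w⁻¹) * D.w⁻¹ := by
            rw [pow_two]
            group
          have e3 : D.w * (D.a * D.b) * D.w⁻¹ = (D.w * D.a * D.w⁻¹) * (D.w * D.b * D.w⁻¹) := by group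
          rw [e2, D.h1, e3, D.h1, D.h2, D.e3] at h3
          exact D.hne h3.symm
  obtain ⟨y, hyK, hyV, hy1⟩ := hexists
  -- `a ∈ K`
  have e1 : ∀ u : D.I, u ∈ K → u.1 = D.b → a' ∈ K := by
    intro u hu hb
    have := hconj w' u hu
    have h : w' * u * w'⁻¹ = a' := by
      apply Subtype.ext
      change D.w * u.1 * D.w⁻¹ = D.a
      rw [hb, D.h2]
    rwa [h] at this
  have e2 : ∀ u : D.I, u ∈ K → u.1 = D.a * D.b → ∃ u' : D.I, u' ∈ K ∧ u'.1 = D.b := by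
    intro u hu hb
    refine ⟨w' * u * w'⁻¹, hconj w' u hu, ?_⟩
    change D.w * u.1 * D.w⁻¹ = D.b
    have e3 : D.w * (D.a * D.b) * D.w⁻¹ = (D.w * D.a * D.w⁻¹) * (D.w * D.b * D.w⁻¹) := by group
    rw [hb, e3, D.h1, D.h2, D.e3]
  have haK : a' ∈ K := by
    rcases hyV with h | h | h | h
    · exact absurd (Subtype.ext h) hy1
    · have : y = a' := Subtype.ext h
      rwa [this] at hyK
    · exact e1 y hyK h
    · obtain ⟨u', hu', hb⟩ := e2 y hyK h
      exact e1 u' hu' hb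
  have h5 := hconj t' a' haK
  have h6 : D.t * D.a * D.t⁻¹ ∈ D.T := W.normalCore_le h5
  have h7 : (D.t * D.a * D.t⁻¹) ^ 2 = 1 := by
    rw [conj_pow, D.ha]
    group
  exact D.hnot (D.invol_T h6 h7)

end A5Data

end Cfsg.Agent.Lib.Classical
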