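import Mathlib
import Cfsg.Agent.S0494
import Cfsg.Agent.Lib.Classical.SmallIso
import Cfsg.Agent.Lib.Classical.PslSub
import Cfsg.Agent.Lib.TwoGroups.Present

/-! Abstract counting for finite groups acting with few fixed points (Dickson's method). -/

set_option autoImplicit false
set_option linter.unusedSimpArgs false
set_option linter.unusedVariables false
set_option linter.unusedSectionVars false
set_option linter.style.haveILetI false

namespace Cfsg.Agent.Lib.Classical

open MulAction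

/-- The geometric hypotheses. -/
structure DGeom (G X : Type*) [Group G] [MulAction G X] (p : ℕ) : Prop where
  fix : ∀ g : G, g ≠ 1 → (g ^ p = 1 ∧ ∃ a : X, ∀ x : X, g • x = x ↔ x = a) ∨
    (¬ p ∣ orderOf g ∧ ∃ a b : X, a ≠ b ∧ ∀ x : X, g • x = x ↔ x = a ∨ x = b)
  qsub : ∀ (a : X) (g g' : G), g • a = a → g' • a = a → g ^ p = 1 → g' ^ p = 1 → (g * g') ^ p = 1
  cyc : ∀ a b : X, a ≠ b → IsCyclic (↥(stabilizer G a ⊓ stabilizer G b))
  swap : ∀ (a b : X) (x : G), a ≠ b → x • a = b → x • b = a →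
    x ^ 2 = 1 ∧ ∀ g : G, g • a = a → g • b = b → x * g * x⁻¹ = g⁻¹

namespace DGeom

variable {G X : Type*} [Group G] [MulAction G X] {p : ℕ} [Fact p.Prime] (D : DGeom G X p)

include D

theorem uni_fix {g : G} (h1 : g ≠ 1) (hp : g ^ p = 1) : ∃ a : X, ∀ x : X, g • x = x ↔ x = a := by
  rcases D.fix g h1 with ⟨-, h⟩ | ⟨h, -⟩
  · exact h
  · rw [orderOf_eq_prime hp h1] at h
    exact absurd (dvd_refl p) h

theorem ss_fix {g : G} (h1 : g ≠ 1) (hp : g ^ p ≠ 1) : ¬ p ∣ orderOf g ∧ ∃ a b : X, a ≠ b ∧ ∀ x : X, g • x = x ↔ x = a ∨ x = b := by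
  rcases D.fix g h1 with ⟨h, -⟩ | h
  · exact absurd h hp
  · exact h

theorem fix_finite {g : G} (h1 : g ≠ 1) : {x : X | g • x = x}.Finite := by
  rcases D.fix g h1 with ⟨-, a, ha⟩ | ⟨-, a, b, -, ha⟩
  · refine (Set.finite_singleton a).subset ?_
    intro x hx
    exact (ha x).1 hx
  · refine (Set.toFinite ({a, b} : Set X)).subset ?_
    intro x hx
    exact (ha x).1 hx

theorem exists_fix {g : G} (h1 : g ≠ 1) : ∃ a : X, g • a = a := by
  rcases D.fix g h1 with ⟨-, a, ha⟩ | ⟨-, a, b, -, ha⟩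
  · exact ⟨a, (ha a).2 rfl⟩
  · exact ⟨a, (ha a).2 (Or.inl rfl)⟩

theorem ncard_fix_one {g : G} (h1 : g ≠ 1) (hp : g ^ p = 1) : {x : X | g • x = x}.ncard = 1 := by
  obtain ⟨a, ha⟩ := D.uni_fix (X := X) h1 hp
  have : {x : X | g • x = x} = {a} := by
    ext x
    exact ha x
  rw [this, Set.ncard_singleton]

theorem ncard_fix_two {g : G} (h1 : g ≠ 1) (hp : g ^ p ≠ 1) : {x : X | g • x = x}.ncard = 2 := by
  obtain ⟨-, a, b, hab, ha⟩ := D.ss_fix (X := X) h1 hp
  have : {x : X | g • x = x} = {a, b} := by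
    ext x
    exact ha x
  rw [this, Set.ncard_pair hab]

variable [Finite G]

/-- The points with non-trivial stabiliser. -/
def Sset (G X : Type*) [Group G] [MulAction G X] : Set X := {x : X | ∃ g : G, g ≠ 1 ∧ g • x = x}

theorem Sset_finite : (Sset G X).Finite := by
  have : Sset G X = ⋃ g ∈ {g : G | g ≠ 1}, {x : X | g • x = x} := by
    ext x
    simp [Sset]
  rw [this]
  exact Set.Finite.biUnion (Set.toFinite _) (fun g hg => D.fix_finite hg)

/-- As a finset. -/
noncomputable def Sf : Finset X := D.Sset_finite.toFinset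

theorem mem_Sf {x : X} : x ∈ D.Sf ↔ ∃ g : G, g ≠ 1 ∧ g • x = x := by
  simp [Sf, Sset]

theorem Sf_smul {x : X} (hx : x ∈ D.Sf) (g : G) : g • x ∈ D.Sf := by
  rw [D.mem_Sf] at hx ⊢
  obtain ⟨y, hy, hyx⟩ := hx
  refine ⟨g * y * g⁻¹, ?_, ?_⟩
  · intro h
    apply hy
    have : y = g⁻¹ * (g * y * g⁻¹) * g := by group
    rw [this, h]
    group
  · simp only [mul_smul, inv_smul_smul, hyx]

/-- The stabiliser count. -/
noncomputable def sc (L : Subgroup G) (a : X) : ℕ := Nat.card (↥(L ⊓ stabilizer G a))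

/-- The number of elements of order `p` in `L`. -/
noncomputable def Ucnt (p : ℕ) (L : Subgroup G) : ℕ := {g : G | g ∈ L ∧ g ≠ 1 ∧ g ^ p = 1}.ncard

omit D [Fact p.Prime] in
theorem card_sub_eq [Fintype G] (K : Subgroup G) [DecidablePred (· ∈ K)] : Nat.card K = (Finset.univ.filter (· ∈ K)).card := by
  rw [Nat.card_eq_fintype_card, Fintype.card_subtype]

/-- Double count. -/
theorem dc (L : Subgroup G) : ∑ a ∈ D.Sf, (sc L a - 1) + Ucnt p L = 2 * (Nat.card L - 1) := by
  classical
  haveI := Fintype.ofFinite G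
  set Ls : Finset G := Finset.univ.filter (fun g => g ∈ L ∧ g ≠ 1) with hLs
  have hLcard : Ls.card = Nat.card L - 1 := by
    rw [card_sub_eq L]
    have : Ls = (Finset.univ.filter (· ∈ L)).erase 1 := by
      ext g
      simp [hLs, and_comm]
    rw [this, Finset.card_erase_of_mem (by simp [L.one_mem])]
  have h1 : ∀ a ∈ D.Sf, sc L a - 1 = (Ls.filter (fun g => g • a = a)).card := by
    intro a _
    rw [sc, card_sub_eq]
    have : Ls.filter (fun g => g • a = a) = (Finset.univ.filter (· ∈ L ⊓ stabilizer G a)).erase 1 := by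
      ext g
      simp only [hLs, Finset.mem_filter, Finset.mem_univ, true_and, Finset.mem_erase, Subgroup.mem_inf, mem_stabilizer_iff]
      tauto
    rw [this, Finset.card_erase_of_mem (by simp [L.one_mem])]
  rw [Finset.sum_congr rfl h1]
  have h2 := Finset.sum_card_bipartiteAbove_eq_sum_card_bipartiteBelow (fun (a : X) (g : G) => g • a = a) (s := D.Sf) (t := Ls)
  simp only [Finset.bipartiteAbove, Finset.bipartiteBelow] at h2
  rw [h2]
  have h3 : ∀ g ∈ Ls, (D.Sf.filter (fun a => g • a = a)).card = if g ^ p = 1 then 1 else 2 := by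
    intro g hg
    have hg1 : g ≠ 1 := (Finset.mem_filter.1 hg).2.2
    have e : (D.Sf.filter (fun a => g • a = a)).card = {x : X | g • x = x}.ncard := by
      rw [← Set.ncard_coe_finset]
      congr 1
      ext x
      simp only [Finset.coe_filter, Set.mem_setOf_eq, and_iff_right_iff_imp]
      intro hx
      exact D.mem_Sf.2 ⟨g, hg1, hx⟩
    rw [e]
    split_ifs with hp
    · exact D.ncard_fix_one hg1 hp
    · exact D.ncard_fix_two hg1 hp
  rw [Finset.sum_congr rfl h3, ← hLcard]
  have h4 : Ucnt p L = (Ls.filter (fun g => g ^ p = 1)).card := by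
    rw [Ucnt, ← Set.ncard_coe_finset]
    congr 1
    ext g
    simp [hLs, and_assoc]
  rw [h4, Finset.sum_ite, Finset.sum_const, Finset.sum_const, smul_eq_mul, smul_eq_mul]
  have h5 := Finset.card_filter_add_card_filter_not (s := Ls) (fun g => g ^ p = 1)
  omega

omit D [Fact p.Prime] in
/-- Orbit representatives. -/
theorem exists_reps (T : Finset X) (hT : ∀ (g : G), ∀ a ∈ T, g • a ∈ T) :
    ∃ R : Finset X, R ⊆ T ∧ (∀ a ∈ T, ∃ b ∈ R, ∃ g : G, g • b = a) ∧ (∀ b ∈ R, ∀ b' ∈ R, ∀ g : G, g • b = b' → b = b') ∧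
      ∀ f : X → ℕ, (∀ (g : G) (a : X), f (g • a) = f a) → ∑ a ∈ T, f a = ∑ b ∈ R, (orbit G b).ncard * f b := by
  classical
  let rep : X → X := fun a => (Quotient.mk (orbitRel G X) a).out
  have hrep1 : ∀ a, rep a ∈ orbit G a := by
    intro a
    have : (Quotient.mk (orbitRel G X) (rep a)) = Quotient.mk (orbitRel G X) a := Quotient.out_eq _
    exact (Quotient.eq (r := orbitRel G X)).1 this
  have hrep2 : ∀ (g : G) a, rep (g • a) = rep a := by
    intro g a
    have : Quotient.mk (orbitRel G X) (g • a) = Quotient.mk (orbitRel G X) a :=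
      (Quotient.eq (r := orbitRel G X)).2 (mem_orbit a g)
    simp only [rep, this]
  have hrep3 : ∀ a b, b ∈ orbit G a → rep b = rep a := by
    rintro a _ ⟨g, rfl⟩
    exact hrep2 g a
  have hrep4 : ∀ a, rep (rep a) = rep a := fun a => hrep3 a _ (hrep1 a)
  have hmem : ∀ a ∈ T, rep a ∈ T := by
    intro a ha
    obtain ⟨g, hg⟩ := hrep1 a
    simp only at hg
    rw [← hg]
    exact hT g a ha
  have hmem' : ∀ b ∈ T.image rep, b ∈ T := by
    intro b hb
    obtain ⟨a, ha, rfl⟩ := Finset.mem_image.1 hb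
    exact hmem a ha
  refine ⟨T.image rep, hmem', ?_, ?_, ?_⟩
  · intro a ha
    refine ⟨rep a, Finset.mem_image_of_mem _ ha, ?_⟩
    have : a ∈ orbit G (rep a) := by
      obtain ⟨g, hg⟩ := hrep1 a
      exact ⟨g⁻¹, by simp only [← hg]; exact inv_smul_smul g a⟩
    obtain ⟨g, hg⟩ := this
    exact ⟨g, hg⟩
  · intro b hb b' hb' g hg
    obtain ⟨a, ha, rfl⟩ := Finset.mem_image.1 hb
    obtain ⟨a', ha', rfl⟩ := Finset.mem_image.1 hb'
    have h1 := hrep2 g (rep a)
    rw [hg, hrep4, hrep4] at h1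
    exact h1.symm
  · intro f hf
    rw [← Finset.sum_fiberwise_of_maps_to (g := rep) (t := T.image rep) (fun a ha => Finset.mem_image_of_mem _ ha)]
    apply Finset.sum_congr rfl
    intro b hb
    obtain ⟨a₀, ha₀, hb₀⟩ := Finset.mem_image.1 hb
    have hrb : rep b = b := by rw [← hb₀, hrep4]
    have hfib : ((T.filter (fun a => rep a = b) : Finset X) : Set X) = orbit G b := by
      ext a
      simp only [Finset.coe_filter, Set.mem_setOf_eq]
      constructor
      · rintro ⟨ha, rfl⟩
        obtain ⟨g, hg⟩ := hrep1 a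
        exact ⟨g⁻¹, by simp only [← hg]; exact inv_smul_smul g a⟩
      · rintro ⟨g, rfl⟩
        refine ⟨hT g b (hmem' b hb), ?_⟩
        simp only
        rw [hrep2, hrb]
    have hf2 : ∀ a ∈ T.filter (fun a => rep a = b), f a = f b := by
      intro a ha
      have ha2 : a ∈ ((T.filter (fun a => rep a = b) : Finset X) : Set X) := ha
      rw [hfib] at ha2
      obtain ⟨g, rfl⟩ := ha2
      exact hf g b
    rw [Finset.sum_congr rfl hf2, Finset.sum_const, smul_eq_mul, ← hfib, Set.ncard_coe_finset]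


omit D [Fact p.Prime] in
theorem orbit_mul_stab (b : X) : (orbit G b).ncard * Nat.card (stabilizer G b) = Nat.card G := by
  rw [← index_stabilizer, Subgroup.index_mul_card]

omit D [Fact p.Prime] in
theorem sc_top (a : X) : sc (⊤ : Subgroup G) a = Nat.card (stabilizer G a) := by
  rw [sc, top_inf_eq]

omit D [Fact p.Prime] in
theorem sc_smul (L : Subgroup G) (hL : L.Normal) (g : G) (a : X) : sc L (g • a) = sc L a := by
  rw [sc, sc]
  have e : L ⊓ stabilizer G (g • a) = (L ⊓ stabilizer G a).map (MulAut.conj g).toMonoidHom := by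
    ext x
    simp only [Subgroup.mem_inf, mem_stabilizer_iff, Subgroup.mem_map, MulEquiv.coe_toMonoidHom, MulAut.conj_apply]
    constructor
    · rintro ⟨h1, h2⟩
      refine ⟨g⁻¹ * x * g, ⟨?_, ?_⟩, by group⟩
      · have := hL.conj_mem x h1 g⁻¹
        simpa using this
      · rw [mul_smul, mul_smul, h2, inv_smul_smul]
    · rintro ⟨y, ⟨h1, h2⟩, rfl⟩
      refine ⟨hL.conj_mem y h1 g, ?_⟩
      rw [mul_smul, mul_smul, inv_smul_smul, h2]
  rw [e]
  exact Nat.card_congr (Subgroup.equivMapOfInjective _ _ (MulAut.conj g).injective).symm.toEquiv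

omit [Fact p.Prime] in
theorem two_le_stab [Fact p.Prime] {b : X} (hb : b ∈ D.Sf) : 2 ≤ Nat.card (stabilizer G b) := by
  obtain ⟨g, hg, hgb⟩ := D.mem_Sf.1 hb
  have : Nontrivial (stabilizer G b) := ⟨⟨⟨g, hgb⟩, 1, fun h => hg (congrArg Subtype.val h)⟩⟩
  exact Finite.one_lt_card

theorem eq_one_of_fix_many {g : G} {T : Set X} (hT : T.Finite) (h : ∀ x ∈ T, g • x = x) (h3 : 3 ≤ T.ncard) : g = 1 := by
  by_contra hg
  have hsub : T ⊆ {x : X | g • x = x} := h
  have := Set.ncard_le_ncard hsub (D.fix_finite hg)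
  by_cases hp : g ^ p = 1
  · rw [D.ncard_fix_one hg hp] at this
    omega
  · rw [D.ncard_fix_two hg hp] at this
    omega

omit D [Fact p.Prime] in
theorem orbit_finite (b : X) : (orbit G b).Finite := Set.finite_range _

/-- The action on an orbit with at least three points is faithful. -/
theorem orbit_injective {b : X} (hb : 3 ≤ (orbit G b).ncard) : Function.Injective (toPermHom G (orbit G b)) := by
  rw [injective_iff_map_eq_one]
  intro g hg
  apply D.eq_one_of_fix_many (orbit_finite b) _ hb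
  intro x hx
  have h1 : (toPermHom G (orbit G b) g) ⟨x, hx⟩ = ⟨x, hx⟩ := by rw [hg]; rfl
  exact congrArg Subtype.val h1

theorem a4_of_orbit (hh : Nat.card G = 12) {b : X} (hb : (orbit G b).ncard = 4) : Nonempty (G ≃* alternatingGroup (Fin 4)) := by
  haveI : Finite (orbit G b) := (orbit_finite b).to_subtype
  refine nonempty_mulEquiv_alt_of_injective 4 (toPermHom G (orbit G b)) (D.orbit_injective (by omega)) ?_ (by rw [hh]; rfl)
  rw [Nat.card_coe_set_eq, hb]

/-- Dihedral groups from an orbit of size two. -/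
theorem dihedral_of_orbit_two {b : X} (hb : b ∈ D.Sf) (hn : (orbit G b).ncard = 2) :
    ∃ (c : ℕ) (ρ : G), 2 ≤ c ∧ orderOf ρ = c ∧ ρ ^ p ≠ 1 ∧ Nonempty (G ≃* DihedralGroup c) := by
  classical
  obtain ⟨x, y, hxy, hxyz⟩ := Set.ncard_eq_two.1 hn
  have hbm : b ∈ orbit G b := mem_orbit_self b
  obtain ⟨b', hbb', hb'⟩ : ∃ b', b ≠ b' ∧ orbit G b = {b, b'} := by
    rw [hxyz] at hbm
    rcases hbm with rfl | rfl
    · exact ⟨y, hxy, hxyz⟩
    · exact ⟨x, hxy.symm, by rw [hxyz, Set.pair_comm]⟩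
  have hmem : ∀ g : G, g • b = b ∨ g • b = b' := by
    intro g
    have : g • b ∈ orbit G b := mem_orbit b g
    rw [hb'] at this
    simpa using this
  have hbo : b' ∈ orbit G b := by rw [hb']; simp
  obtain ⟨s, hs⟩ := hbo
  have hs : s • b = b' := hs
  have hmem' : ∀ g : G, g • b' = b ∨ g • b' = b' := by
    intro g
    have : g • b' ∈ orbit G b := by
      rw [← hs, ← mul_smul]
      exact mem_orbit b _
    rw [hb'] at this
    simpa using this
  -- stabilisers of `b` fix `b'`
  have hfix : ∀ g : G, g • b = b → g • b' = b' := by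
    intro g hg
    rcases hmem' g with h | h
    · exfalso
      apply hbb'
      have h2 : g • b' = g • b := by rw [h, hg]
      exact (smul_left_cancel g h2).symm
    · exact h
  have hsw : s • b' = b := by
    rcases hmem' s with h | h
    · exact h
    · exfalso
      apply hbb'
      have h2 : s • b = s • b' := by rw [h, hs]
      exact smul_left_cancel s h2
  have hle : stabilizer G b = stabilizer G b ⊓ stabilizer G b' := by
    ext g
    simp only [Subgroup.mem_inf, mem_stabilizer_iff]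
    exact ⟨fun h => ⟨h, hfix g h⟩, fun h => h.1⟩
  haveI hcyc : IsCyclic (stabilizer G b) := by
    have h := D.cyc b b' hbb'
    rw [← hle] at h
    exact h
  obtain ⟨ρ', hρ'⟩ := IsCyclic.exists_generator (α := stabilizer G b)
  set ρ : G := ρ'.1 with hρ
  have hρb : ρ • b = b := ρ'.2
  have hcard := orbit_mul_stab (G := G) b
  rw [hn] at hcard
  have hcs : Nat.card (stabilizer G b) = orderOf ρ := by
    rw [← orderOf_eq_card_of_forall_mem_zpowers hρ']
    exact (Subgroup.orderOf_coe ρ').symm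
  have hc2 := D.two_le_stab hb
  have hρ1 : ρ ≠ 1 := by
    intro h
    have : orderOf ρ = 1 := by rw [h, orderOf_one]
    omega
  haveI : NeZero (orderOf ρ) := ⟨by omega⟩
  have hs2 := D.swap b b' s hbb' hs hsw
  refine ⟨orderOf ρ, ρ, by omega, rfl, ?_, ?_⟩
  · intro hp
    obtain ⟨a, ha⟩ := D.uni_fix (X := X) hρ1 hp
    apply hbb'
    rw [(ha b).1 hρb, (ha b').1 (hfix ρ hρb)]
  · refine Cfsg.Agent.Lib.TwoGroups.nonempty_mulEquiv_dihedral_of ρ s rfl ?_ (hs2.2 ρ hρb (hfix ρ hρb)) ?_ ?_
    · rw [← pow_two]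
      exact hs2.1
    · intro hz
      have hle2 : Subgroup.zpowers ρ ≤ stabilizer G b := by
        rw [Subgroup.zpowers_le]
        exact hρb
      have := hle2 hz
      rw [mem_stabilizer_iff, hs] at this
      exact hbb' this.symm
    · rw [← hcard, ← hcs, mul_comm]


/-- `S₄` from a point with stabiliser of order three. -/
theorem s4_of (hh : Nat.card G = 24) {b : X} (hb : b ∈ D.Sf) (hc : Nat.card (stabilizer G b) = 3)
    (hbig : ∀ y ∈ D.Sf, 3 ≤ (orbit G y).ncard) : Nonempty (G ≃* Equiv.Perm (Fin 4)) := by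
  classical
  haveI : Fact (Nat.Prime 3) := ⟨by norm_num⟩
  have hbo := orbit_mul_stab (G := G) b
  rw [hc, hh] at hbo
  have hn8 : (orbit G b).ncard = 8 := by omega
  -- stabilisers in the orbit have order three
  have hcd : ∀ d ∈ orbit G b, Nat.card (stabilizer G d) = 3 := by
    rintro _ ⟨g, rfl⟩
    have := sc_smul (⊤ : Subgroup G) inferInstance g b
    simp only [sc_top] at this
    rw [← hc]
    exact this
  have hfact : (24 : ℕ).factorization 3 = 1 := by
    have : (24 : ℕ) = 3 ^ 1 * 8 := by norm_num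
    rw [this, Nat.factorization_mul (by norm_num) (by norm_num), Nat.Prime.factorization_pow (by norm_num)]
    simp
    exact Nat.factorization_eq_zero_of_not_dvd (by norm_num)
  let syl : ∀ d ∈ orbit G b, Sylow 3 G := fun d hd => Sylow.ofCard (stabilizer G d) (by
    rw [hcd d hd, hh, hfact, pow_one])
  have hsyl : ∀ d (hd : d ∈ orbit G b), ((syl d hd : Sylow 3 G) : Subgroup G) = stabilizer G d := fun d hd => Sylow.coe_ofCard _ _
  have hp1 : ∀ d ∈ orbit G b, ∃ y : G, y ≠ 1 ∧ y • d = d := by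
    intro d hd
    have h3 := hcd d hd
    have : Nontrivial (stabilizer G d) := by
      apply Finite.one_lt_card_iff_nontrivial.1
      omega
    obtain ⟨y, hy⟩ := exists_ne (1 : stabilizer G d)
    exact ⟨y.1, fun h => hy (Subtype.ext h), y.2⟩
  -- normalisers and fixed points
  have hnorm : ∀ x : G, ∀ d (hd : d ∈ orbit G b), x • (syl d hd) = syl d hd → ∀ y : G, y • d = d → y • (x • d) = x • d := by
    intro x d hd hx y hy
    have hx2 : x ∈ Subgroup.normalizer ((syl d hd : Sylow 3 G) : Subgroup G) := (Sylow.smul_eq_iff_mem_normalizer).1 hx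
    rw [hsyl d hd, Subgroup.mem_normalizer_iff''] at hx2
    have h2 := (hx2 y).1 hy
    rw [mem_stabilizer_iff] at h2
    rw [mul_smul, mul_smul] at h2
    have h3 : x⁻¹ • (y • (x • d)) = d := h2
    have h4 := congrArg (fun z => x • z) h3
    simpa using h4
  have hker : ∀ x : G, (∀ R : Sylow 3 G, x • R = R) → x ^ 2 = 1 := by
    intro x hx
    apply D.eq_one_of_fix_many (T := orbit G b) (orbit_finite b) _ (by omega)
    intro d hd
    obtain ⟨y, hy1, hyd⟩ := hp1 d hd
    have h1 := hnorm x d hd (hx _) y hyd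
    by_cases hxd : x • d = d
    · rw [pow_two, mul_smul, hxd, hxd]
    · -- `x • d` lies in the same orbit, with the same stabiliser
      have hd2 : x • d ∈ orbit G b := by
        obtain ⟨g, rfl⟩ := hd
        rw [← mul_smul]
        exact mem_orbit b _
      have hst : stabilizer G d ≤ stabilizer G (x • d) := fun z hz => hnorm x d hd (hx _) z hz
      have hy2 : y ∈ stabilizer G (x • d) := hst hyd
      have h2 := hnorm x (x • d) hd2 (hx _) y hy2
      rw [pow_two, mul_smul]
      by_contra hne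
      have hne2 : x • x • d ≠ x • d := fun h => hxd (smul_left_cancel x h)
      have hT : ({d, x • d, x • x • d} : Set X).ncard = 3 := Set.ncard_eq_three.2 ⟨d, x • d, x • x • d, Ne.symm hxd, Ne.symm hne, Ne.symm hne2, rfl⟩
      apply hy1
      apply D.eq_one_of_fix_many (T := {d, x • d, x • x • d}) (Set.toFinite _) _ (by omega)
      rintro z (rfl | rfl | rfl)
      · exact hyd
      · exact h1
      · exact h2
  let R₀ : Sylow 3 G := syl b (mem_orbit_self b)
  have hR₀ : Nat.card (R₀ : Subgroup G) = 3 := by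
    rw [hsyl b (mem_orbit_self b), hc]
  have hidx : (R₀ : Subgroup G).index = 8 := by
    have := Subgroup.index_mul_card (R₀ : Subgroup G)
    rw [hR₀, hh] at this
    omega
  obtain ⟨y₀, hy₀1, hy₀⟩ := hp1 b (mem_orbit_self b)
  have hn3 : Nat.card (Sylow 3 G) = 4 := by
    have h1 := card_sylow_modEq_one 3 G
    have h2 := Sylow.card_dvd_index R₀
    rw [hidx] at h2
    have h3 : Nat.card (Sylow 3 G) ≠ 1 := by
      intro h
      haveI : Subsingleton (Sylow 3 G) := (Nat.card_eq_one_iff_unique.1 h).1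
      apply hy₀1
      apply D.eq_one_of_fix_many (T := orbit G b) (orbit_finite b) _ (by omega)
      rintro _ ⟨g, rfl⟩
      exact hnorm g b (mem_orbit_self b) (Subsingleton.elim _ _) y₀ hy₀
    have h4 : Nat.card (Sylow 3 G) ≤ 8 := Nat.le_of_dvd (by norm_num) h2
    have h5 : Nat.card (Sylow 3 G) % 3 = 1 := h1
    generalize Nat.card (Sylow 3 G) = v at h2 h3 h4 h5 ⊢
    interval_cases v <;> omega
  have hNcard : Nat.card (Subgroup.normalizer ((R₀ : Subgroup G) : Set G)) = 6 := by
    have h1 : Nat.card (Sylow 3 G) = (Subgroup.normalizer ((R₀ : Subgroup G) : Set G)).index := Sylow.card_eq_index_normalizer R₀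
    have h2 := Subgroup.index_mul_card (Subgroup.normalizer ((R₀ : Subgroup G) : Set G))
    rw [← h1, hn3, hh] at h2
    omega
  have hinj : Function.Injective (toPermHom G (Sylow 3 G)) := by
    rw [injective_iff_map_eq_one]
    intro x hx
    by_contra hx1
    have hmemK : ∀ z : G, z ∈ (toPermHom G (Sylow 3 G)).ker → ∀ R : Sylow 3 G, z • R = R := by
      intro z hz R
      have := congrArg (fun f => f R) (MonoidHom.mem_ker.1 hz)
      simpa using this
    have hxK : x ∈ (toPermHom G (Sylow 3 G)).ker := MonoidHom.mem_ker.2 hx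
    set K := (toPermHom G (Sylow 3 G)).ker with hK
    have hKle : K ≤ Subgroup.normalizer ((R₀ : Subgroup G) : Set G) :=
      fun z hz => (Sylow.smul_eq_iff_mem_normalizer).1 (hmemK z hz R₀)
    have hKd : Nat.card K ∣ 6 := by
      rw [← hNcard]
      exact Subgroup.card_dvd_of_le hKle
    have h3K : ¬ 3 ∣ Nat.card K := by
      intro h3
      obtain ⟨z, hz⟩ := exists_prime_orderOf_dvd_card' (G := K) 3 h3
      have hz2 : (z : G) ^ 2 = 1 := hker z.1 (hmemK z.1 z.2)
      have hz3 : orderOf (z : G) = 3 := by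
        rw [Subgroup.orderOf_coe]
        exact hz
      have := orderOf_dvd_of_pow_eq_one hz2
      rw [hz3] at this
      omega
    have hK1 : Nat.card K ≠ 1 := by
      intro h
      haveI : Subsingleton K := (Nat.card_eq_one_iff_unique.1 h).1
      have : (⟨x, hxK⟩ : K) = 1 := Subsingleton.elim _ _
      exact hx1 (congrArg Subtype.val this)
    have hK2 : Nat.card K = 2 := by
      have hle : Nat.card K ≤ 6 := Nat.le_of_dvd (by norm_num) hKd
      generalize Nat.card K = v at hKd h3K hK1 hle ⊢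
      interval_cases v <;> omega
    have huniq : ∀ z ∈ K, z ≠ 1 → z = x := by
      intro z hz hz1
      obtain ⟨u, v, huv, huv2⟩ := Nat.card_eq_two_iff.1 hK2
      have hall : ∀ w : K, w = u ∨ w = v := by
        intro w
        have : w ∈ ({u, v} : Set K) := by rw [huv2]; trivial
        simpa using this
      have h1 : (1 : K) = u ∨ (1 : K) = v := hall 1
      have hz' := hall ⟨z, hz⟩
      have hx' := hall ⟨x, hxK⟩
      rcases h1 with h1 | h1
      · rcases hz' with hz' | hz'
        · exact absurd (by rw [← h1] at hz'; exact congrArg Subtype.val hz') hz1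
        · rcases hx' with hx' | hx'
          · exact absurd (by rw [← h1] at hx'; exact congrArg Subtype.val hx') hx1
          · exact congrArg Subtype.val (hz'.trans hx'.symm)
      · rcases hz' with hz' | hz'
        · rcases hx' with hx' | hx'
          · exact congrArg Subtype.val (hz'.trans hx'.symm)
          · exact absurd (by rw [← h1] at hx'; exact congrArg Subtype.val hx') hx1
        · exact absurd (by rw [← h1] at hz'; exact congrArg Subtype.val hz') hz1
    obtain ⟨y, hy⟩ := D.exists_fix (X := X) hx1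
    have hyS : y ∈ D.Sf := D.mem_Sf.2 ⟨x, hx1, hy⟩
    apply hx1
    apply D.eq_one_of_fix_many (T := orbit G y) (orbit_finite y) _ (hbig y hyS)
    rintro _ ⟨g, rfl⟩
    have hconj : g⁻¹ * x * g = x := by
      apply huniq
      · have := (inferInstance : K.Normal).conj_mem x hxK g⁻¹
        simpa using this
      · intro h
        apply hx1
        have : x = g * (g⁻¹ * x * g) * g⁻¹ := by group
        rw [this, h]
        group
    change x • (g • y) = g • y
    have e : x * g = g * x := by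
      nth_rewrite 2 [← hconj]
      group
    rw [← mul_smul, e, mul_smul, hy]
  exact nonempty_mulEquiv_perm_of_injective 4 (toPermHom G (Sylow 3 G)) hinj hn3 (by rw [hh]; rfl)


omit D [Fact p.Prime] in
theorem tri_num {h n₁ n₂ n₃ c₁ c₂ c₃ : ℕ} (h1 : n₁ * c₁ = h) (h2 : n₂ * c₂ = h) (h3 : n₃ * c₃ = h) (hc1 : 2 ≤ c₁)
    (hc12 : c₁ ≤ c₂) (hc23 : c₂ ≤ c₃) (hs : n₁ + n₂ + n₃ = h + 2) :
    n₃ = 2 ∨ (h = 12 ∧ c₁ = 2 ∧ c₂ = 3 ∧ c₃ = 3) ∨ (h = 24 ∧ c₁ = 2 ∧ c₂ = 3 ∧ c₃ = 4) ∨ (h = 60 ∧ c₁ = 2 ∧ c₂ = 3 ∧ c₃ = 5) := by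
  have hl : ∀ {n c k : ℕ}, n * c = h → k ≤ c → n * k ≤ h := fun {n c k} e hk => e ▸ Nat.mul_le_mul_left n hk
  have hc1' : c₁ = 2 := by
    by_contra hne
    have a1 := hl h1 (show 3 ≤ c₁ by omega)
    have a2 := hl h2 (show 3 ≤ c₂ by omega)
    have a3 := hl h3 (show 3 ≤ c₃ by omega)
    omega
  subst hc1'
  have hc2' : c₂ ≤ 3 := by
    by_contra hne
    have a2 := hl h2 (show 4 ≤ c₂ by omega)
    have a3 := hl h3 (show 4 ≤ c₃ by omega)
    omega
  have hc2'' : c₂ = 2 ∨ c₂ = 3 := by omega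
  rcases hc2'' with rfl | rfl
  · left
    omega
  · right
    have hc3' : c₃ ≤ 5 := by
      by_contra hne
      have a3 := hl h3 (show 6 ≤ c₃ by omega)
      omega
    have hc3'' : c₃ = 3 ∨ c₃ = 4 ∨ c₃ = 5 := by omega
    rcases hc3'' with rfl | rfl | rfl
    · left
      refine ⟨by omega, rfl, rfl, rfl⟩
    · right
      left
      refine ⟨by omega, rfl, rfl, rfl⟩
    · right
      right
      refine ⟨by omega, rfl, rfl, rfl⟩

theorem simple_of_noP60 [DecidableEq X] (hnoP : ∀ g : G, g ≠ 1 → g ^ p ≠ 1) (hh : Nat.card G = 60) {R : Finset X}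
    (hsum : ∀ f : X → ℕ, (∀ (g : G) (a : X), f (g • a) = f a) → ∑ a ∈ D.Sf, f a = ∑ b ∈ R, (orbit G b).ncard * f b)
    {b₁ b₂ b₃ : X} (hR : R = {b₁, b₂, b₃}) (h12 : b₁ ≠ b₂) (h13 : b₁ ≠ b₃) (h23 : b₂ ≠ b₃)
    (hc1 : Nat.card (stabilizer G b₁) = 2) (hc2 : Nat.card (stabilizer G b₂) = 3) (hc3 : Nat.card (stabilizer G b₃) = 5) :
    IsSimpleGroup G := by
  classical
  have hn : ∀ b : X, ∀ c k : ℕ, Nat.card (stabilizer G b) = c → k * c = 60 → (orbit G b).ncard = k := by
    intro b c k h1 h2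
    have := orbit_mul_stab (G := G) b
    rw [h1, hh, ← h2] at this
    exact Nat.eq_of_mul_eq_mul_right (by
      rcases Nat.eq_zero_or_pos c with rfl | h
      · simp at h2
      · exact h) this
  have hn1 := hn b₁ 2 30 hc1 (by norm_num)
  have hn2 := hn b₂ 3 20 hc2 (by norm_num)
  have hn3 := hn b₃ 5 12 hc3 (by norm_num)
  haveI : Nontrivial G := by
    apply Finite.one_lt_card_iff_nontrivial.1
    omega
  refine ⟨?_⟩
  intro N hN
  have hU : Ucnt p N = 0 := by
    rw [Ucnt]
    have : {g : G | g ∈ N ∧ g ≠ 1 ∧ g ^ p = 1} = ∅ := by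
      ext g
      simp only [Set.mem_setOf_eq, Set.mem_empty_iff_false, iff_false]
      rintro ⟨-, h1, h2⟩
      exact hnoP g h1 h2
    rw [this, Set.ncard_empty]
  have hdc := D.dc N
  rw [hU, add_zero, hsum (fun a => sc N a - 1) (fun g a => by simp only [sc_smul N hN]), hR] at hdc
  rw [Finset.sum_insert (by simp [h12, h13]), Finset.sum_insert (by simp [h23]), Finset.sum_singleton, hn1, hn2, hn3] at hdc
  have hm : ∀ b : X, ∀ c : ℕ, Nat.card (stabilizer G b) = c → sc N b ∣ c := by
    intro b c h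
    rw [← h]
    exact Subgroup.card_dvd_of_le inf_le_right
  have hm1 : sc N b₁ = 1 ∨ sc N b₁ = 2 := (Nat.dvd_prime (by norm_num)).1 (hm b₁ 2 hc1)
  have hm2 : sc N b₂ = 1 ∨ sc N b₂ = 3 := (Nat.dvd_prime (by norm_num)).1 (hm b₂ 3 hc2)
  have hm3 : sc N b₃ = 1 ∨ sc N b₃ = 5 := (Nat.dvd_prime (by norm_num)).1 (hm b₃ 5 hc3)
  have hNd : Nat.card N ∣ 60 := by
    rw [← hh]
    exact Subgroup.card_subgroup_dvd_card N
  have hNle : Nat.card N ≤ 60 := Nat.le_of_dvd (by norm_num) hNd
  have hNpos : 0 < Nat.card N := Nat.card_pos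
  have hfin : Nat.card N = 1 ∨ Nat.card N = 60 := by
    generalize Nat.card N = v at hdc hNd hNle hNpos
    interval_cases v <;> rcases hm1 with h1 | h1 <;> rcases hm2 with h2 | h2 <;> rcases hm3 with h3 | h3 <;> rw [h1, h2, h3] at hdc <;> omega
  rcases hfin with h | h
  · left
    exact Subgroup.eq_bot_of_card_eq N h
  · right
    apply Subgroup.eq_top_of_card_eq
    rw [h, hh]

/-- The main case distinction with no elements of order `p`. -/
theorem main_noP (hnoP : ∀ g : G, g ≠ 1 → g ^ p ≠ 1) :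
    IsCyclic G ∨ (∃ (c : ℕ) (ρ : G), 2 ≤ c ∧ orderOf ρ = c ∧ ρ ^ p ≠ 1 ∧ Nonempty (G ≃* DihedralGroup c)) ∨
      Nonempty (G ≃* alternatingGroup (Fin 4)) ∨ Nonempty (G ≃* Equiv.Perm (Fin 4)) ∨ Nonempty (G ≃* alternatingGroup (Fin 5)) := by
  classical
  obtain ⟨R, hRS, hRcov, hRdisj, hsum⟩ := exists_reps (G := G) D.Sf (fun g a ha => D.Sf_smul ha g)
  set h := Nat.card G with hh
  have hpos : 1 ≤ h := Nat.card_pos
  have hU : Ucnt p (⊤ : Subgroup G) = 0 := by
    rw [Ucnt]
    have : {g : G | g ∈ (⊤ : Subgroup G) ∧ g ≠ 1 ∧ g ^ p = 1} = ∅ := by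
      ext g
      simp only [Set.mem_setOf_eq, Set.mem_empty_iff_false, iff_false]
      rintro ⟨-, h1, h2⟩
      exact hnoP g h1 h2
    rw [this, Set.ncard_empty]
  have hdc := D.dc (⊤ : Subgroup G)
  rw [hU, add_zero, hsum (fun a => sc (⊤ : Subgroup G) a - 1) (fun g a => by simp only [sc_smul ⊤ inferInstance]),
    Subgroup.card_top, ← hh] at hdc
  simp only [sc_top] at hdc
  -- notation
  set n : X → ℕ := fun b => (orbit G b).ncard with hn
  set c : X → ℕ := fun b => Nat.card (stabilizer G b) with hc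
  have hnc : ∀ b, n b * c b = h := fun b => orbit_mul_stab b
  have hc2 : ∀ b ∈ R, 2 ≤ c b := fun b hb => D.two_le_stab (hRS hb)
  have hn1 : ∀ b, 1 ≤ n b := by
    intro b
    have := hnc b
    by_contra h0
    have h1 : n b = 0 := by omega
    rw [h1, zero_mul] at this
    omega
  have hterm : ∀ b, n b * (c b - 1) = h - n b := by
    intro b
    rw [Nat.mul_sub, mul_one, hnc]
  have hsum2 : ∑ b ∈ R, (h - n b) = 2 * (h - 1) := by
    rw [← hdc]
    exact Finset.sum_congr rfl (fun b _ => (hterm b).symm)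
  have hnh : ∀ b ∈ R, 2 * n b ≤ h := by
    intro b hb
    rw [← hnc b]
    rw [mul_comm]
    exact Nat.mul_le_mul_left _ (hc2 b hb)
  have hcard : R.card ≤ 3 := by
    have h1 : R.card • (h / 2 + h % 2) ≤ ∑ b ∈ R, (h - n b) := by
      apply Finset.card_nsmul_le_sum
      intro b hb
      have := hnh b hb
      omega
    rw [hsum2, smul_eq_mul] at h1
    by_contra h3
    have h4 : 4 ≤ R.card := by omega
    have h5 : 4 * (h / 2 + h % 2) ≤ R.card * (h / 2 + h % 2) := Nat.mul_le_mul_right _ h4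
    omega
  -- the triple case
  have key : ∀ b₁ b₂ b₃ : X, R = {b₁, b₂, b₃} → b₁ ≠ b₂ → b₁ ≠ b₃ → b₂ ≠ b₃ → c b₁ ≤ c b₂ → c b₂ ≤ c b₃ →
      IsCyclic G ∨ (∃ (c : ℕ) (ρ : G), 2 ≤ c ∧ orderOf ρ = c ∧ ρ ^ p ≠ 1 ∧ Nonempty (G ≃* DihedralGroup c)) ∨
      Nonempty (G ≃* alternatingGroup (Fin 4)) ∨ Nonempty (G ≃* Equiv.Perm (Fin 4)) ∨ Nonempty (G ≃* alternatingGroup (Fin 5)) := by
    intro b₁ b₂ b₃ hR h12 h13 h23 hc12 hc23
    have hb1 : b₁ ∈ R := by rw [hR]; simp
    have hb2 : b₂ ∈ R := by rw [hR]; simp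
    have hb3 : b₃ ∈ R := by rw [hR]; simp
    have hs := hsum2
    rw [hR, Finset.sum_insert (by simp [h12, h13]), Finset.sum_insert (by simp [h23]), Finset.sum_singleton] at hs
    have a1 := hnh b₁ hb1
    have a2 := hnh b₂ hb2
    have a3 := hnh b₃ hb3
    have hs2 : n b₁ + n b₂ + n b₃ = h + 2 := by omega
    have hbig : ∀ (k : ℕ), (∀ b ∈ R, k ≤ n b) → ∀ y ∈ D.Sf, k ≤ (orbit G y).ncard := by
      intro k hk y hy
      obtain ⟨b, hb, g, rfl⟩ := hRcov y hy
      rw [orbit_smul]
      exact hk b hb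
    rcases tri_num (hnc b₁) (hnc b₂) (hnc b₃) (hc2 b₁ hb1) hc12 hc23 hs2 with h2 | ⟨h12', h1, h2, h3⟩ | ⟨h24, h1, h2, h3⟩ | ⟨h60, h1, h2, h3⟩
    · right
      left
      exact D.dihedral_of_orbit_two (hRS hb3) h2
    · right
      right
      left
      have h4 := hnc b₃
      rw [h3, h12'] at h4
      exact D.a4_of_orbit (by rw [← hh, h12']) (b := b₃) (by change n b₃ = 4; omega)
    · right
      right
      right
      left
      have e1 := hnc b₁
      have e2 := hnc b₂
      have e3 := hnc b₃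
      rw [h1, h24] at e1
      rw [h2, h24] at e2
      rw [h3, h24] at e3
      apply D.s4_of (by rw [← hh, h24]) (hRS hb2) h2 (hbig 3 _)
      intro b hb
      have hb' : b = b₁ ∨ b = b₂ ∨ b = b₃ := by
        rw [hR] at hb
        simpa using hb
      rcases hb' with rfl | rfl | rfl <;> omega
    · right
      right
      right
      right
      haveI : IsSimpleGroup G := D.simple_of_noP60 hnoP (by rw [← hh, h60]) hsum hR h12 h13 h23 h1 h2 h3
      exact Cfsg.Agent.S0494.result (by rw [← hh, h60])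
  -- case distinction on the number of orbits
  have hcases : R.card = 0 ∨ R.card = 1 ∨ R.card = 2 ∨ R.card = 3 := by omega
  rcases hcases with h0 | h1 | h2 | h3
  · left
    rw [Finset.card_eq_zero] at h0
    rw [h0, Finset.sum_empty] at hsum2
    have h4 : h = 1 := by omega
    haveI : Subsingleton G := (Nat.card_eq_one_iff_unique.1 h4).1
    exact isCyclic_of_subsingleton
  · exfalso
    obtain ⟨x, rfl⟩ := Finset.card_eq_one.1 h1
    rw [Finset.sum_singleton] at hsum2
    have a1 := hnh x (by simp)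
    have a2 := hn1 x
    omega
  · left
    obtain ⟨x, y, hxy, rfl⟩ := Finset.card_eq_two.1 h2
    rw [Finset.sum_pair hxy] at hsum2
    have a1 := hnh x (by simp)
    have a2 := hnh y (by simp)
    have a3 := hn1 x
    have a4 := hn1 y
    have hx1 : n x = 1 := by omega
    have hy1 : n y = 1 := by omega
    have hfix : ∀ z : X, n z = 1 → ∀ g : G, g • z = z := by
      intro z hz g
      obtain ⟨w, hw⟩ := Set.ncard_eq_one.1 hz
      have h5 : z ∈ orbit G z := mem_orbit_self z
      have h6 : g • z ∈ orbit G z := mem_orbit z g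
      rw [hw, Set.mem_singleton_iff] at h5 h6
      rw [h6, h5]
    haveI := D.cyc x y hxy
    apply isCyclic_of_surjective (Subgroup.subtype (stabilizer G x ⊓ stabilizer G y))
    intro g
    exact ⟨⟨g, ⟨hfix x hx1 g, hfix y hy1 g⟩⟩, rfl⟩
  · obtain ⟨x, y, z, hxy, hxz, hyz, hR⟩ := Finset.card_eq_three.1 h3
    rcases le_total (c x) (c y) with h1 | h1 <;> rcases le_total (c y) (c z) with h2 | h2 <;> rcases le_total (c x) (c z) with h4 | h4
    · exact key x y z hR hxy hxz hyz h1 h2
    · exact key x y z hR hxy hxz hyz h1 h2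
    · exact key x z y (by rw [hR]; ext w; simp; tauto) hxz hxy hyz.symm h4 h2
    · exact key z x y (by rw [hR]; ext w; simp; tauto) hxz.symm hyz.symm hxy h4 h1
    · exact key y x z (by rw [hR]; ext w; simp; tauto) hxy.symm hyz hxz h1 h4
    · exact key y z x (by rw [hR]; ext w; simp; tauto) hyz hxy.symm hxz.symm h2 h4
    · exact key z y x (by rw [hR]; ext w; simp; tauto) hyz.symm hxz.symm hxy.symm h2 h1
    · exact key z y x (by rw [hR]; ext w; simp; tauto) hyz.symm hxz.symm hxy.symm h2 h1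

end DGeom

end Cfsg.Agent.Lib.Classical
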