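import Mathlib
import Cfsg.Agent.Lib.Classical.DGeom

/-! Abstract counting in the presence of elements of order `p`. -/

set_option autoImplicit false
set_option linter.unusedSimpArgs false
set_option linter.unusedVariables false
set_option linter.unusedSectionVars false
set_option linter.style.haveILetI false

namespace Cfsg.Agent.Lib.Classical

open MulAction

/-- Numerics of the case with several Sylow subgroups. -/
theorem dk_case_num {r k t : ℕ} (hr : 2 ≤ r) (hk : 1 ≤ k) (ht : 1 ≤ t) (htr : t + 1 ≤ r)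
    (hd : (1 + k * (r - 2)) ∣ (1 + k * r) * t) : (r = 2 ∧ t = 1) ∨ k = 1 ∨ (r = 3 ∧ k = 3 ∧ t = 2) := by
  obtain ⟨s, rfl⟩ : ∃ s, r = s + 2 := ⟨r - 2, by omega⟩
  simp only [Nat.add_sub_cancel] at hd
  set e := 1 + k * s with he
  have h1 : 1 + k * (s + 2) = e + 2 * k := by rw [he]; ring
  rw [h1] at hd
  have h2 : e ∣ 2 * k * t := by
    have h3 : (e + 2 * k) * t = e * t + 2 * k * t := by ring
    rw [h3] at hd
    exact (Nat.dvd_add_right (dvd_mul_right e t)).1 hd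
  have hcop : Nat.Coprime e k := by
    rw [he]
    simp [Nat.coprime_add_mul_left_left]
  have h4 : e ∣ 2 * t := by
    have h5 : 2 * k * t = k * (2 * t) := by ring
    rw [h5] at h2
    exact hcop.dvd_of_dvd_mul_left h2
  have h6 : e ≤ 2 * t := Nat.le_of_dvd (by omega) h4
  by_cases hs : s = 0
  · left
    subst hs
    exact ⟨rfl, by omega⟩
  · right
    have hs1 : 1 ≤ s := Nat.one_le_iff_ne_zero.2 hs
    have hk4 : k ≤ 3 := by
      by_contra hk4
      have : 4 * s ≤ k * s := Nat.mul_le_mul_right s (by omega)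
      omega
    have hkc : k = 1 ∨ k = 2 ∨ k = 3 := by omega
    rcases hkc with rfl | rfl | rfl
    · left
      rfl
    · exfalso
      have he2 : e = 1 + 2 * s := by rw [he]
      have hc : Nat.Coprime e 2 := by
        rw [he2]
        simp
      have h7 : e ∣ t := hc.dvd_of_dvd_mul_left h4
      have h8 : e ≤ t := Nat.le_of_dvd (by omega) h7
      omega
    · right
      have he3 : e = 1 + 3 * s := by rw [he]
      have hs2 : s = 1 := by omega
      subst hs2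
      have he4 : e = 4 := by rw [he3]
      rw [he4] at h4
      refine ⟨rfl, rfl, ?_⟩
      omega

namespace DGeom

variable {G X : Type*} [Group G] [MulAction G X] {p : ℕ} [Fact p.Prime] (D : DGeom G X p)

/-- The elements of order `p` fixing a point. -/
def Q (a : X) : Subgroup G where
  carrier := {g | g • a = a ∧ g ^ p = 1}
  mul_mem' := by
    rintro g g' ⟨h1, h2⟩ ⟨h3, h4⟩
    exact ⟨by rw [mul_smul, h3, h1], D.qsub a g g' h1 h3 h2 h4⟩
  one_mem' := ⟨one_smul _ _, one_pow _⟩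
  inv_mem' := by
    rintro g ⟨h1, h2⟩
    refine ⟨?_, by rw [inv_pow, h2, inv_one]⟩
    nth_rewrite 1 [← h1]
    exact inv_smul_smul g a

theorem mem_Q {a : X} {g : G} : g ∈ D.Q a ↔ g • a = a ∧ g ^ p = 1 := Iff.rfl

theorem Q_le_stab (a : X) : D.Q a ≤ stabilizer G a := fun _ h => h.1

theorem Q_isP (a : X) : IsPGroup p (D.Q a) := by
  rintro ⟨g, h⟩
  refine ⟨1, ?_⟩
  apply Subtype.ext
  simpa using h.2

include D

theorem Q_uni {a : X} {u : G} (hu : u ∈ D.Q a) (hu1 : u ≠ 1) {x : X} : u • x = x ↔ x = a := by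
  obtain ⟨b, hb⟩ := D.uni_fix (X := X) hu1 hu.2
  rw [hb, (hb a).1 hu.1]

/-- The points fixed by an element of order `p`. -/
def Om (G X : Type*) [Group G] [MulAction G X] (p : ℕ) : Set X := {a : X | ∃ g : G, g ≠ 1 ∧ g • a = a ∧ g ^ p = 1}

theorem Om_smul {a : X} (ha : a ∈ Om G X p) (g : G) : g • a ∈ Om G X p := by
  obtain ⟨u, hu, hua, hup⟩ := ha
  refine ⟨g * u * g⁻¹, ?_, ?_, ?_⟩
  · intro h
    apply hu
    have : u = g⁻¹ * (g * u * g⁻¹) * g := by group
    rw [this, h]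
    group
  · simp only [mul_smul, inv_smul_smul, hua]
  · rw [conj_pow, hup]
    group

theorem Q_conj (a : X) (g : G) : D.Q (g • a) = (D.Q a).map (MulAut.conj g).toMonoidHom := by
  ext x
  simp only [mem_Q, Subgroup.mem_map, MulEquiv.coe_toMonoidHom, MulAut.conj_apply]
  constructor
  · rintro ⟨h1, h2⟩
    refine ⟨g⁻¹ * x * g, ⟨?_, ?_⟩, by group⟩
    · rw [mul_smul, mul_smul, h1, inv_smul_smul]
    · rw [show g⁻¹ * x * g = g⁻¹ * x * g⁻¹⁻¹ by group, conj_pow, h2]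
      group
  · rintro ⟨y, ⟨h1, h2⟩, rfl⟩
    refine ⟨?_, ?_⟩
    · rw [mul_smul, mul_smul, inv_smul_smul, h1]
    · rw [conj_pow, h2]
      group

variable [Finite G]

theorem card_Q_smul (a : X) (g : G) : Nat.card (D.Q (g • a)) = Nat.card (D.Q a) := by
  rw [D.Q_conj a g]
  exact Nat.card_congr (Subgroup.equivMapOfInjective _ _ (MulAut.conj g).injective).symm.toEquiv

/-- Elements of a Sylow `p`-subgroup have order `p`. -/
theorem pow_eq_one_of_sylow (R : Sylow p G) {g : G} (hg : g ∈ (R : Subgroup G)) : g ^ p = 1 := by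
  by_contra hne
  have hg1 : g ≠ 1 := by
    rintro rfl
    exact hne (one_pow _)
  obtain ⟨hnd, -⟩ := D.ss_fix (X := X) hg1 hne
  apply hnd
  have hP := R.2 ⟨g, hg⟩
  obtain ⟨k, hk⟩ := hP
  have hk' : g ^ p ^ k = 1 := by
    have := congrArg Subtype.val hk
    simpa using this
  have hord := orderOf_dvd_of_pow_eq_one hk'
  obtain ⟨j, hj, hjo⟩ := (Nat.dvd_prime_pow Fact.out).1 hord
  rw [hjo]
  have hj0 : j ≠ 0 := by
    rintro rfl
    rw [pow_zero, orderOf_eq_one_iff] at hjo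
    exact hg1 hjo
  exact dvd_pow_self p hj0

/-- `Q a` is a Sylow `p`-subgroup. -/
theorem Q_sylow {a : X} (ha : a ∈ Om G X p) : ∃ R : Sylow p G, (R : Subgroup G) = D.Q a := by
  obtain ⟨u, hu1, hua, hup⟩ := ha
  have huQ : u ∈ D.Q a := ⟨hua, hup⟩
  obtain ⟨R, hR⟩ := IsPGroup.exists_le_sylow (D.Q_isP a)
  refine ⟨R, le_antisymm ?_ hR⟩
  haveI : Nontrivial (R : Subgroup G) := ⟨⟨⟨u, hR huQ⟩, 1, fun h => hu1 (congrArg Subtype.val h)⟩⟩
  haveI : Nontrivial (Subgroup.center (R : Subgroup G)) := IsPGroup.center_nontrivial R.2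
  obtain ⟨z, hz⟩ := exists_ne (1 : Subgroup.center (R : Subgroup G))
  have hz1 : (z : (R : Subgroup G)).1 ≠ 1 := by
    intro h
    apply hz
    apply Subtype.ext
    apply Subtype.ext
    exact h
  have hzp : (z : (R : Subgroup G)).1 ^ p = 1 := D.pow_eq_one_of_sylow R (z : (R : Subgroup G)).2
  obtain ⟨b, hb⟩ := D.uni_fix (X := X) hz1 hzp
  have hcomm : ∀ g ∈ (R : Subgroup G), g * (z : (R : Subgroup G)).1 = (z : (R : Subgroup G)).1 * g := by
    intro g hg
    have := (Subgroup.mem_center_iff.1 z.2) ⟨g, hg⟩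
    exact congrArg Subtype.val this
  have hba : b = a := by
    have h1 : (z : (R : Subgroup G)).1 • (u • b) = u • b := by
      rw [← mul_smul, ← hcomm u (hR huQ), mul_smul, (hb b).2 rfl]
    have h2 := (hb _).1 h1
    exact (D.Q_uni huQ hu1).1 h2
  subst hba
  intro g hg
  refine ⟨?_, D.pow_eq_one_of_sylow R hg⟩
  have h1 : (z : (R : Subgroup G)).1 • (g • b) = g • b := by
    rw [← mul_smul, ← hcomm g hg, mul_smul, (hb b).2 rfl]
  exact (hb _).1 h1

/-- The points of `Om` form one orbit. -/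
theorem Om_trans {a b : X} (ha : a ∈ Om G X p) (hb : b ∈ Om G X p) : ∃ g : G, g • a = b := by
  obtain ⟨R, hR⟩ := D.Q_sylow ha
  obtain ⟨R', hR'⟩ := D.Q_sylow hb
  obtain ⟨g, hg⟩ := MulAction.exists_smul_eq G R R'
  refine ⟨g, ?_⟩
  obtain ⟨u, hu1, hua, hup⟩ := ha
  have huR : u ∈ (R : Subgroup G) := by
    rw [hR]
    exact ⟨hua, hup⟩
  have h1 : g * u * g⁻¹ ∈ (R' : Subgroup G) := by
    rw [← hg]
    rw [Sylow.coe_subgroup_smul]
    exact ⟨u, huR, rfl⟩
  rw [hR'] at h1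
  have hne : g * u * g⁻¹ ≠ 1 := by
    intro h
    apply hu1
    have : u = g⁻¹ * (g * u * g⁻¹) * g := by group
    rw [this, h]
    group
  have h2 : (g * u * g⁻¹) • (g • a) = g • a := by
    simp only [mul_smul, inv_smul_smul, hua]
  exact (D.Q_uni h1 hne).1 h2


/-- `Om` as a finset. -/
noncomputable def Omf : Finset X := by
  classical
  exact D.Sf.filter (· ∈ Om G X p)

theorem mem_Omf {x : X} : x ∈ D.Omf ↔ x ∈ Om G X p := by
  classical
  simp only [Omf, Finset.mem_filter, and_iff_right_iff_imp]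
  rintro ⟨g, h1, h2, -⟩
  exact D.mem_Sf.2 ⟨g, h1, h2⟩

theorem Omf_subset : D.Omf ⊆ D.Sf := by
  intro x hx
  rw [D.mem_Omf] at hx
  obtain ⟨g, h1, h2, -⟩ := hx
  exact D.mem_Sf.2 ⟨g, h1, h2⟩

/-- Counting elements of order `p` by their fixed points. -/
theorem Ucnt_eq (L : Subgroup G) : Ucnt p L = ∑ a ∈ D.Omf, (Nat.card (↥(L ⊓ D.Q a)) - 1) := by
  classical
  haveI := Fintype.ofFinite G
  set Ls : Finset G := Finset.univ.filter (fun g => g ∈ L ∧ g ≠ 1 ∧ g ^ p = 1) with hLs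
  have h0 : Ucnt p L = Ls.card := by
    rw [Ucnt, ← Set.ncard_coe_finset]
    congr 1
    ext g
    simp [hLs]
  have h1 : ∀ a ∈ D.Omf, Nat.card (↥(L ⊓ D.Q a)) - 1 = (Ls.filter (fun g => g • a = a)).card := by
    intro a _
    rw [card_sub_eq]
    have : Ls.filter (fun g => g • a = a) = (Finset.univ.filter (· ∈ L ⊓ D.Q a)).erase 1 := by
      ext g
      simp only [hLs, Finset.mem_filter, Finset.mem_univ, true_and, Finset.mem_erase, Subgroup.mem_inf, mem_Q]
      tauto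
    rw [this, Finset.card_erase_of_mem (by simp [L.one_mem, (D.Q a).one_mem])]
  rw [Finset.sum_congr rfl h1, h0]
  have h2 := Finset.sum_card_bipartiteAbove_eq_sum_card_bipartiteBelow (fun (a : X) (g : G) => g • a = a) (s := D.Omf) (t := Ls)
  simp only [Finset.bipartiteAbove, Finset.bipartiteBelow] at h2
  rw [h2]
  have h3 : ∀ g ∈ Ls, (D.Omf.filter (fun a => g • a = a)).card = 1 := by
    intro g hg
    obtain ⟨-, hgL, hg1, hgp⟩ := Finset.mem_filter.1 hg
    obtain ⟨b, hb⟩ := D.uni_fix (X := X) hg1 hgp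
    rw [Finset.card_eq_one]
    refine ⟨b, ?_⟩
    ext x
    simp only [Finset.mem_filter, Finset.mem_singleton, D.mem_Omf]
    constructor
    · rintro ⟨-, h⟩
      exact (hb x).1 h
    · rintro rfl
      exact ⟨⟨g, hg1, (hb x).2 rfl, hgp⟩, (hb x).2 rfl⟩
  rw [Finset.sum_congr rfl h3, Finset.sum_const, smul_eq_mul, mul_one]

/-- The subgroup `Q a` acts freely on the other points of `Om`. -/
theorem free_count [DecidableEq X] {a : X} (ha : a ∈ Om G X p) : ∃ R : Finset X, R ⊆ D.Omf.erase a ∧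
    (∀ y ∈ D.Omf.erase a, ∃ b ∈ R, ∃ u ∈ D.Q a, u • b = y) ∧ (D.Omf.erase a).card = R.card * Nat.card (D.Q a) := by
  classical
  have hinv : ∀ (u : D.Q a), ∀ y ∈ D.Omf.erase a, u • y ∈ D.Omf.erase a := by
    rintro ⟨u, hu, hup⟩ y hy
    obtain ⟨hya, hyO⟩ := Finset.mem_erase.1 hy
    refine Finset.mem_erase.2 ⟨?_, D.mem_Omf.2 (D.Om_smul (D.mem_Omf.1 hyO) u)⟩
    intro h
    apply hya
    have h1 : u • y = u • a := by
      rw [hu]
      exact h
    exact smul_left_cancel u h1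
  obtain ⟨R, hRS, hRcov, hRdisj, hsum⟩ := exists_reps (G := D.Q a) (D.Omf.erase a) hinv
  refine ⟨R, hRS, ?_, ?_⟩
  · intro y hy
    obtain ⟨b, hb, u, hu⟩ := hRcov y hy
    exact ⟨b, hb, u.1, u.2, hu⟩
  · have h1 := hsum (fun _ => 1) (fun _ _ => rfl)
    simp only [mul_one, Finset.sum_const, smul_eq_mul] at h1
    rw [h1, Finset.sum_congr rfl (g := fun _ => Nat.card (D.Q a)), Finset.sum_const, smul_eq_mul]
    intro b hb
    have h2 := orbit_mul_stab (G := D.Q a) b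
    have h3 : Nat.card (stabilizer (D.Q a) b) = 1 := by
      rw [Nat.card_eq_one_iff_unique]
      refine ⟨⟨?_⟩, ⟨1⟩⟩
      rintro ⟨⟨u, hu⟩, hub⟩ ⟨⟨v, hv⟩, hvb⟩
      have hb' := hRS hb
      have hba : b ≠ a := (Finset.mem_erase.1 hb').1
      have key : ∀ w (hw : w ∈ D.Q a), (⟨w, hw⟩ : D.Q a) • b = b → w = 1 := by
        intro w hw hwb
        by_contra hw1
        exact hba ((D.Q_uni hw hw1).1 hwb)
      have e1 := key u hu hub
      have e2 := key v hv hvb
      subst e1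
      subst e2
      rfl
    rw [h3, mul_one] at h2
    exact h2

theorem comm_mem_Q {a : X} {u w : G} (hu : u ∈ D.Q a) (hu1 : u ≠ 1) (hw : w • a = a) (hc : w * u = u * w) : w ∈ D.Q a := by
  refine ⟨hw, ?_⟩
  by_contra hne
  have hw1 : w ≠ 1 := by
    rintro rfl
    exact hne (one_pow _)
  obtain ⟨-, x, y, hxy, hxyf⟩ := D.ss_fix (X := X) hw1 hne
  have hax : a = x ∨ a = y := (hxyf a).1 hw
  -- `w` has a second fixed point, also fixed by `u`
  obtain ⟨z, hza, hz⟩ : ∃ z, z ≠ a ∧ w • z = z := by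
    rcases hax with rfl | rfl
    · exact ⟨y, hxy.symm, (hxyf y).2 (Or.inr rfl)⟩
    · exact ⟨x, hxy, (hxyf x).2 (Or.inl rfl)⟩
  have h1 : w • (u • z) = u • z := by
    rw [← mul_smul, hc, mul_smul, hz]
  have h2 : u • z = a ∨ u • z = z := by
    have h3 := (hxyf (u • z)).1 h1
    have h4 := (hxyf z).1 hz
    rcases hax with rfl | rfl <;> rcases h3 with h3 | h3 <;> rcases h4 with h4 | h4 <;> simp_all
  rcases h2 with h2 | h2
  · apply hza
    have : u • z = u • a := by rw [h2, hu.1]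
    exact smul_left_cancel u this
  · exact hza ((D.Q_uni hu hu1).1 h2)

/-- A bound for the stabiliser of a point of `Om`. -/
theorem stab_le {a : X} (ha : a ∈ Om G X p) : Nat.card (stabilizer G a) ≤ Nat.card (D.Q a) * (Nat.card (D.Q a) - 1) := by
  classical
  haveI := Fintype.ofFinite G
  obtain ⟨u, hu1, hua, hup⟩ := ha
  have huQ : u ∈ D.Q a := ⟨hua, hup⟩
  set s : Finset G := Finset.univ.filter (· ∈ stabilizer G a) with hs
  let f : G → G := fun g => g * u * g⁻¹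
  have h1 := Finset.card_le_mul_card_image (f := f) s (Nat.card (D.Q a)) (by
    intro y hy
    obtain ⟨g₀, hg₀, rfl⟩ := Finset.mem_image.1 hy
    have hg₀s : g₀ ∈ stabilizer G a := (Finset.mem_filter.1 hg₀).2
    rw [card_sub_eq (D.Q a)]
    apply Finset.card_le_card_of_injOn (fun g => g₀⁻¹ * g)
    · intro g hg
      have hg' : g ∈ s ∧ f g = f g₀ := Finset.mem_filter.1 hg
      have hgs : g ∈ stabilizer G a := (Finset.mem_filter.1 hg'.1).2
      simp only [Finset.coe_filter, Finset.mem_univ, true_and, Set.mem_setOf_eq]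
      apply D.comm_mem_Q huQ hu1 ((stabilizer G a).mul_mem ((stabilizer G a).inv_mem hg₀s) hgs)
      have e : g * u * g⁻¹ = g₀ * u * g₀⁻¹ := hg'.2
      have e2 : g₀⁻¹ * g * u = u * (g₀⁻¹ * g) := by
        calc g₀⁻¹ * g * u = g₀⁻¹ * (g * u * g⁻¹) * g := by group
          _ = g₀⁻¹ * (g₀ * u * g₀⁻¹) * g := by rw [e]
          _ = u * (g₀⁻¹ * g) := by group
      exact e2
    · intro x _ y _ h
      exact mul_left_cancel h)
  have h2 : (s.image f).card ≤ Nat.card (D.Q a) - 1 := by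
    rw [card_sub_eq (D.Q a)]
    rw [← Finset.card_erase_of_mem (s := Finset.univ.filter (· ∈ D.Q a)) (a := 1) (by simp [(D.Q a).one_mem])]
    apply Finset.card_le_card
    intro y hy
    obtain ⟨g, hg, rfl⟩ := Finset.mem_image.1 hy
    have hgs : g ∈ stabilizer G a := (Finset.mem_filter.1 hg).2
    simp only [Finset.mem_erase, Finset.mem_filter, Finset.mem_univ, true_and]
    refine ⟨?_, ?_, ?_⟩
    · intro h
      apply hu1
      have h3 : g * u * g⁻¹ = 1 := h
      have : u = g⁻¹ * (g * u * g⁻¹) * g := by group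
      rw [this, h3]
      group
    · simp only [f, mul_smul]
      have h5 : g⁻¹ • a = a := (stabilizer G a).inv_mem hgs
      have h6 : g • a = a := hgs
      rw [h5, hua, h6]
    · simp only [f]
      rw [conj_pow, hup]
      group
  have h3 : s.card = Nat.card (stabilizer G a) := (card_sub_eq _).symm
  rw [h3] at h1
  exact h1.trans (Nat.mul_le_mul_left _ h2)

theorem inf_Q_smul (L : Subgroup G) (hL : L.Normal) (a : X) (g : G) : Nat.card (↥(L ⊓ D.Q (g • a))) = Nat.card (↥(L ⊓ D.Q a)) := by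
  have e : L ⊓ D.Q (g • a) = (L ⊓ D.Q a).map (MulAut.conj g).toMonoidHom := by
    rw [D.Q_conj]
    ext x
    simp only [Subgroup.mem_inf, Subgroup.mem_map, MulEquiv.coe_toMonoidHom, MulAut.conj_apply]
    constructor
    · rintro ⟨h1, y, hy, rfl⟩
      refine ⟨y, ⟨?_, hy⟩, rfl⟩
      have := hL.conj_mem _ h1 g⁻¹
      have e2 : g⁻¹ * (g * y * g⁻¹) * g⁻¹⁻¹ = y := by group
      rwa [e2] at this
    · rintro ⟨y, ⟨h1, hy⟩, rfl⟩
      exact ⟨hL.conj_mem y h1 g, y, hy, rfl⟩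
  rw [e]
  exact Nat.card_congr (Subgroup.equivMapOfInjective _ _ (MulAut.conj g).injective).symm.toEquiv

/-- Simplicity in the case `p = 3`. -/
theorem simple_P60 [DecidableEq X] (hp3 : p = 3) (hh : Nat.card G = 60) {a₀ b : X} (ha₀ : a₀ ∈ Om G X p)
    (hn : D.Omf.card = 10) (hc : Nat.card (stabilizer G a₀) = 6) (hr : Nat.card (D.Q a₀) = 3)
    (hsum : ∀ f : X → ℕ, (∀ (g : G) (a : X), f (g • a) = f a) → ∑ a ∈ D.Sf \ D.Omf, f a = (orbit G b).ncard * f b)
    (hnb : (orbit G b).ncard = 12) (hcb : Nat.card (stabilizer G b) = 5) : IsSimpleGroup G := by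
  classical
  haveI : Nontrivial G := by
    apply Finite.one_lt_card_iff_nontrivial.1
    omega
  refine ⟨?_⟩
  intro N hN
  set m₁ := sc N a₀ with hm₁
  set m₂ := sc N b with hm₂
  set u := Nat.card (↥(N ⊓ D.Q a₀)) with hu
  have hconst1 : ∀ x ∈ D.Omf, sc N x - 1 = m₁ - 1 := by
    intro x hx
    obtain ⟨g, rfl⟩ := D.Om_trans ha₀ (D.mem_Omf.1 hx)
    rw [sc_smul N hN]
  have hconst2 : ∀ x ∈ D.Omf, Nat.card (↥(N ⊓ D.Q x)) - 1 = u - 1 := by
    intro x hx
    obtain ⟨g, rfl⟩ := D.Om_trans ha₀ (D.mem_Omf.1 hx)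
    rw [D.inf_Q_smul N hN]
  have hdc := D.dc N
  rw [D.Ucnt_eq, Finset.sum_congr rfl hconst2, Finset.sum_const, smul_eq_mul, hn,
    ← Finset.sum_sdiff D.Omf_subset, hsum (fun a => sc N a - 1) (fun g a => by simp only [sc_smul N hN]),
    Finset.sum_congr rfl hconst1, Finset.sum_const, smul_eq_mul, hn, hnb] at hdc
  rw [← hm₂] at hdc
  have hm1d : m₁ ∣ 6 := by
    rw [← hc]
    exact Subgroup.card_dvd_of_le inf_le_right
  have hm2d : m₂ = 1 ∨ m₂ = 5 := by
    apply (Nat.dvd_prime (by norm_num)).1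
    rw [← hcb]
    exact Subgroup.card_dvd_of_le inf_le_right
  have hud : u = 1 ∨ u = 3 := by
    apply (Nat.dvd_prime (by norm_num)).1
    rw [← hr]
    exact Subgroup.card_dvd_of_le inf_le_right
  have hum : u ∣ m₁ := Subgroup.card_dvd_of_le (inf_le_inf_left N (D.Q_le_stab a₀))
  have hNd : Nat.card N ∣ 60 := by
    rw [← hh]
    exact Subgroup.card_subgroup_dvd_card N
  have h3N : 3 ∣ Nat.card N ↔ u = 3 := by
    constructor
    · intro h
      haveI : Fact (Nat.Prime 3) := ⟨by norm_num⟩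
      obtain ⟨z, hz⟩ := exists_prime_orderOf_dvd_card' (G := N) 3 h
      have hz3 : orderOf (z : G) = 3 := by
        rw [Subgroup.orderOf_coe]
        exact hz
      have hz1 : (z : G) ≠ 1 := by
        intro h1
        rw [h1, orderOf_one] at hz3
        omega
      have hzp : (z : G) ^ p = 1 := by
        rw [hp3, ← hz3]
        exact pow_orderOf_eq_one _
      obtain ⟨x, hx⟩ := D.uni_fix (X := X) hz1 hzp
      have hxO : x ∈ Om G X p := ⟨z, hz1, (hx x).2 rfl, hzp⟩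
      have h5 : Nat.card (↥(N ⊓ D.Q x)) ≠ 1 := by
        intro h6
        haveI : Subsingleton (↥(N ⊓ D.Q x)) := (Nat.card_eq_one_iff_unique.1 h6).1
        have : (⟨z, z.2, (hx x).2 rfl, hzp⟩ : ↥(N ⊓ D.Q x)) = 1 := Subsingleton.elim _ _
        exact hz1 (congrArg Subtype.val this)
      obtain ⟨g, rfl⟩ := D.Om_trans ha₀ hxO
      rw [D.inf_Q_smul N hN] at h5
      rcases hud with h6 | h6
      · exact absurd h6 h5
      · exact h6
    · intro h
      rw [← h]
      exact Subgroup.card_dvd_of_le inf_le_left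
  have hNle : Nat.card N ≤ 60 := Nat.le_of_dvd (by norm_num) hNd
  have hNpos : 0 < Nat.card N := Nat.card_pos
  have hm1 : m₁ = 1 ∨ m₁ = 2 ∨ m₁ = 3 ∨ m₁ = 6 := by
    have hle : m₁ ≤ 6 := Nat.le_of_dvd (by norm_num) hm1d
    have hpos : 0 < m₁ := Nat.card_pos
    generalize m₁ = v at hm1d hle hpos ⊢
    interval_cases v <;> omega
  have hfin : Nat.card N = 1 ∨ Nat.card N = 60 := by
    generalize Nat.card N = v at hdc hNd hNle hNpos h3N
    have hum2 : u = 3 → 3 ∣ m₁ := fun h => h ▸ hum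
    interval_cases v <;> rcases hm1 with h1 | h1 | h1 | h1 <;> rcases hm2d with h2 | h2 <;> rcases hud with h3 | h3 <;> rw [h1, h2, h3] at hdc <;> omega
  rcases hfin with h | h
  · left
    exact Subgroup.eq_bot_of_card_eq N h
  · right
    apply Subgroup.eq_top_of_card_eq
    rw [h, hh]

/-- The main case distinction in the presence of elements of order `p`. -/
theorem main_P (hU : ∃ g : G, g ≠ 1 ∧ g ^ p = 1) :
    (∃ a : X, ∀ g : G, g • a = a) ∨
    (p = 2 ∧ ∃ (c : ℕ) (ρ : G), 2 ≤ c ∧ orderOf ρ = c ∧ ρ ^ p ≠ 1 ∧ Nonempty (G ≃* DihedralGroup c)) ∨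
    (p = 3 ∧ Nonempty (G ≃* alternatingGroup (Fin 5))) ∨
    (∃ (a b : X), a ∈ Om G X p ∧ b ∈ Om G X p ∧ a ≠ b ∧ ∀ x ∈ Om G X p, ∀ y ∈ Om G X p, ∀ z ∈ Om G X p, y ≠ x → z ≠ x →
      ∃ u : G, u ^ p = 1 ∧ u • x = x ∧ u • y = z) := by
  classical
  obtain ⟨u₀, hu₀1, hu₀p⟩ := hU
  obtain ⟨a₀, ha₀⟩ := D.uni_fix (X := X) hu₀1 hu₀p
  have ha₀O : a₀ ∈ Om G X p := ⟨u₀, hu₀1, (ha₀ a₀).2 rfl, hu₀p⟩
  have ha₀f : a₀ ∈ D.Omf := D.mem_Omf.2 ha₀O
  set r := Nat.card (D.Q a₀) with hr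
  set c := Nat.card (stabilizer G a₀) with hc
  set h := Nat.card G with hh
  set n := D.Omf.card with hn
  have hr2 : 2 ≤ r := by
    haveI : Nontrivial (D.Q a₀) := ⟨⟨⟨u₀, (ha₀ a₀).2 rfl, hu₀p⟩, 1, fun h => hu₀1 (congrArg Subtype.val h)⟩⟩
    exact Finite.one_lt_card
  have horb : (orbit G a₀).ncard = n := by
    rw [hn, ← Set.ncard_coe_finset]
    congr 1
    ext x
    simp only [Finset.mem_coe, D.mem_Omf]
    constructor
    · rintro ⟨g, rfl⟩
      exact D.Om_smul ha₀O g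
    · intro hx
      obtain ⟨g, hg⟩ := D.Om_trans ha₀O hx
      exact ⟨g, hg⟩
  have hnc : n * c = h := by
    rw [← horb]
    exact orbit_mul_stab a₀
  obtain ⟨R₀, hR₀S, hR₀cov, hR₀card⟩ := D.free_count ha₀O
  set k := R₀.card with hk
  have hn1 : n = 1 + k * r := by
    have := Finset.card_erase_of_mem ha₀f
    rw [hR₀card] at this
    have h1 : 1 ≤ n := Finset.card_pos.2 ⟨a₀, ha₀f⟩
    have h2 : k * r = n - 1 := this
    omega
  by_cases hk0 : k = 0
  · left
    refine ⟨a₀, fun g => ?_⟩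
    have h1 : g • a₀ ∈ D.Omf := D.mem_Omf.2 (D.Om_smul ha₀O g)
    have h2 : n = 1 := by rw [hn1, hk0]; simp
    obtain ⟨w, hw⟩ := Finset.card_eq_one.1 h2
    rw [hw, Finset.mem_singleton] at h1
    have h3 := ha₀f
    rw [hw, Finset.mem_singleton] at h3
    rw [h1, h3]
  right
  have hk1 : 1 ≤ k := Nat.one_le_iff_ne_zero.2 hk0
  obtain ⟨t, ht⟩ : r ∣ c := Subgroup.card_dvd_of_le (D.Q_le_stab a₀)
  have hc_le := D.stab_le ha₀O
  rw [← hr, ← hc, ht] at hc_le
  have htr : t ≤ r - 1 := Nat.le_of_mul_le_mul_left hc_le (by omega)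
  have ht0 : 1 ≤ t := by
    rcases Nat.eq_zero_or_pos t with h0 | h0
    · rw [h0, mul_zero] at ht
      have : 0 < c := Nat.card_pos
      omega
    · exact h0
  -- the remaining points
  have hS' : ∀ (g : G), ∀ a ∈ D.Sf \ D.Omf, g • a ∈ D.Sf \ D.Omf := by
    intro g a ha
    obtain ⟨h1, h2⟩ := Finset.mem_sdiff.1 ha
    refine Finset.mem_sdiff.2 ⟨D.Sf_smul h1 g, fun h3 => h2 ?_⟩
    have h4 := D.Om_smul (D.mem_Omf.1 h3) g⁻¹
    rw [inv_smul_smul] at h4
    exact D.mem_Omf.2 h4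
  obtain ⟨R', hR'S, hR'cov, hR'disj, hsum⟩ := exists_reps (G := G) (D.Sf \ D.Omf) hS'
  have hconst1 : ∀ x ∈ D.Omf, sc (⊤ : Subgroup G) x - 1 = c - 1 := by
    intro x hx
    obtain ⟨g, rfl⟩ := D.Om_trans ha₀O (D.mem_Omf.1 hx)
    rw [sc_smul ⊤ inferInstance, sc_top]
  have hconst2 : ∀ x ∈ D.Omf, Nat.card (↥((⊤ : Subgroup G) ⊓ D.Q x)) - 1 = r - 1 := by
    intro x hx
    obtain ⟨g, rfl⟩ := D.Om_trans ha₀O (D.mem_Omf.1 hx)
    rw [D.inf_Q_smul ⊤ inferInstance, top_inf_eq]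
  have hdc := D.dc (⊤ : Subgroup G)
  rw [D.Ucnt_eq, Finset.sum_congr rfl hconst2, Finset.sum_const, smul_eq_mul, ← hn,
    ← Finset.sum_sdiff D.Omf_subset, hsum (fun a => sc (⊤ : Subgroup G) a - 1) (fun g a => by simp only [sc_smul ⊤ inferInstance]),
    Finset.sum_congr rfl hconst1, Finset.sum_const, smul_eq_mul, ← hn, Subgroup.card_top, ← hh] at hdc
  simp only [sc_top] at hdc
  set nn : X → ℕ := fun b => (orbit G b).ncard with hnn
  set cc : X → ℕ := fun b => Nat.card (stabilizer G b) with hcc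
  have hncc : ∀ b, nn b * cc b = h := fun b => orbit_mul_stab b
  have hcc2 : ∀ b ∈ R', 2 ≤ cc b := fun b hb => D.two_le_stab (Finset.mem_sdiff.1 (hR'S hb)).1
  have hterm : ∀ b, nn b * (cc b - 1) = h - nn b := by
    intro b
    rw [Nat.mul_sub, mul_one, hncc]
  have hA : ∑ b ∈ R', (orbit G b).ncard * (Nat.card (stabilizer G b) - 1) = ∑ b ∈ R', (h - nn b) :=
    Finset.sum_congr rfl (fun b _ => hterm b)
  rw [hA] at hdc
  set A := ∑ b ∈ R', (h - nn b) with hAdef
  have hnnh : ∀ b ∈ R', 2 * nn b ≤ h := by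
    intro b hb
    rw [← hncc b, mul_comm]
    exact Nat.mul_le_mul_left _ (hcc2 b hb)
  -- simplification of the count
  have hnpos : 3 ≤ n := by
    rw [hn1]
    have : 1 * 2 ≤ k * r := Nat.mul_le_mul hk1 hr2
    omega
  have e1 : n * (c - 1) = h - n := by
    rw [Nat.mul_sub, mul_one, hnc]
  have hnh : n ≤ h := by
    rw [← hnc]
    have : 0 < c := Nat.card_pos
    exact Nat.le_mul_of_pos_right n this
  have e2 : n * (r - 1) = n * r - n := by
    rw [Nat.mul_sub, mul_one]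
  have hnr : 2 * n ≤ n * r := by
    rw [mul_comm 2]
    exact Nat.mul_le_mul_left n hr2
  have hEq : A + n * r + 2 = h + 2 * n := by
    rw [e1, e2] at hdc
    omega
  have hR'le : R'.card ≤ 1 := by
    by_contra h2
    have h3 : R'.card • (h / 2 + h % 2) ≤ A := by
      apply Finset.card_nsmul_le_sum
      intro b hb
      have := hnnh b hb
      omega
    rw [smul_eq_mul] at h3
    have h4 : 2 * (h / 2 + h % 2) ≤ R'.card * (h / 2 + h % 2) := Nat.mul_le_mul_right _ (by omega)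
    omega
  have hR'ne : R'.card ≠ 0 := by
    intro h0
    rw [Finset.card_eq_zero] at h0
    have hA0 : A = 0 := by rw [hAdef, h0, Finset.sum_empty]
    have h5 : n * r ≤ h := by
      rw [← hnc, ht]
      exact Nat.mul_le_mul_left n (Nat.le_mul_of_pos_right r ht0)
    omega
  obtain ⟨b, rfl⟩ := Finset.card_eq_one.1 (show R'.card = 1 by omega)
  have hbS : b ∈ D.Sf \ D.Omf := hR'S (Finset.mem_singleton_self b)
  rw [hAdef, Finset.sum_singleton] at hEq
  have hnb_le := hnnh b (Finset.mem_singleton_self b)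
  have hnb : nn b + 2 * n = n * r + 2 := by omega
  -- divisibility
  obtain ⟨s, hs⟩ : ∃ s, r = s + 2 := ⟨r - 2, by omega⟩
  have hnbe : nn b = r * (1 + k * s) := by
    have e3 : n * r = n * s + 2 * n := by rw [hs]; ring
    have e4 : nn b = n * s + 2 := by omega
    rw [e4, hn1, hs]
    ring
  have hdvd : (1 + k * (r - 2)) ∣ (1 + k * r) * t := by
    have e5 : r - 2 = s := by omega
    rw [e5]
    refine ⟨cc b, ?_⟩
    have e6 := hncc b
    rw [hnbe, ← hnc, ht, hn1] at e6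
    have hrpos : 0 < r := by omega
    apply Nat.eq_of_mul_eq_mul_left hrpos
    calc r * ((1 + k * r) * t) = (1 + k * r) * (r * t) := by ring
      _ = r * (1 + k * s) * cc b := e6.symm
      _ = r * ((1 + k * s) * cc b) := by ring
  have hpr : ∃ j, r = p ^ j := by
    obtain ⟨j, hj⟩ := IsPGroup.iff_card.1 (D.Q_isP a₀)
    exact ⟨j, hj⟩
  have hrp : ∀ q : ℕ, q.Prime → r = q → p = q := by
    intro q hq hrq
    obtain ⟨j, hj⟩ := hpr
    have hj0 : j ≠ 0 := by
      rintro rfl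
      rw [pow_zero] at hj
      omega
    have h7 : p ∣ q := by
      rw [← hrq, hj]
      exact dvd_pow_self p hj0
    exact (Nat.prime_dvd_prime_iff_eq Fact.out hq).1 h7
  rcases dk_case_num hr2 hk1 ht0 (by omega) hdvd with ⟨hr2', ht1⟩ | hk1' | ⟨hr3, hk3, ht2⟩
  · left
    refine ⟨hrp 2 Nat.prime_two hr2', ?_⟩
    apply D.dihedral_of_orbit_two (Finset.mem_sdiff.1 hbS).1
    have e4 : nn b = r * (1 + k * s) := hnbe
    have hs0 : s = 0 := by omega
    rw [hs0, hr2'] at e4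
    simpa using e4
  · right
    right
    -- transitivity
    have hnr1 : n = 1 + r := by rw [hn1, hk1', one_mul]
    obtain ⟨y₀, hy₀⟩ : ∃ y, y ∈ D.Omf.erase a₀ := by
      apply Finset.card_pos.1
      rw [Finset.card_erase_of_mem ha₀f]
      omega
    obtain ⟨hy₀a, hy₀O⟩ := Finset.mem_erase.1 hy₀
    refine ⟨a₀, y₀, ha₀O, D.mem_Omf.1 hy₀O, hy₀a.symm, ?_⟩
    intro x hx y hy z hz hyx hzx
    obtain ⟨Rx, hRxS, hRxcov, hRxcard⟩ := D.free_count hx
    have hrx : Nat.card (D.Q x) = r := by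
      obtain ⟨g, rfl⟩ := D.Om_trans ha₀O hx
      exact D.card_Q_smul a₀ g
    have hxf := D.mem_Omf.2 hx
    have hcard1 : Rx.card = 1 := by
      have := Finset.card_erase_of_mem hxf
      rw [hRxcard, hrx, ← hn, hnr1] at this
      have hrpos : 0 < r := by omega
      apply Nat.eq_of_mul_eq_mul_right hrpos
      omega
    obtain ⟨w, rfl⟩ := Finset.card_eq_one.1 hcard1
    obtain ⟨b₁, hb₁, u₁, hu₁, e₁⟩ := hRxcov y (Finset.mem_erase.2 ⟨hyx, D.mem_Omf.2 hy⟩)
    obtain ⟨b₂, hb₂, u₂, hu₂, e₂⟩ := hRxcov z (Finset.mem_erase.2 ⟨hzx, D.mem_Omf.2 hz⟩)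
    rw [Finset.mem_singleton] at hb₁ hb₂
    subst hb₁
    subst hb₂
    have hmem : u₂ * u₁⁻¹ ∈ D.Q x := (D.Q x).mul_mem hu₂ ((D.Q x).inv_mem hu₁)
    refine ⟨u₂ * u₁⁻¹, hmem.2, hmem.1, ?_⟩
    rw [← e₁, ← mul_smul, inv_mul_cancel_right, e₂]
  · right
    left
    have hp3 := hrp 3 (by norm_num) hr3
    refine ⟨hp3, ?_⟩
    have hn10 : n = 10 := by rw [hn1, hk3, hr3]
    have hc6 : c = 6 := by rw [ht, hr3, ht2]
    have hh60 : h = 60 := by rw [← hnc, hn10, hc6]
    have hnb12 : nn b = 12 := by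
      rw [hn10, hr3] at hnb
      omega
    have hcb5 : cc b = 5 := by
      have := hncc b
      rw [hnb12, hh60] at this
      omega
    haveI : IsSimpleGroup G := D.simple_P60 hp3 hh60 ha₀O hn10 hc6 hr3 (fun f hf => by
      rw [hsum f hf, Finset.sum_singleton]) hnb12 hcb5
    exact Cfsg.Agent.S0494.result hh60

end DGeom

/-- Summary: Dickson's case distinction for an abstract group action. -/
theorem DGeom.main {G X : Type*} [Group G] [Finite G] [MulAction G X] {p : ℕ} [Fact p.Prime] (D : DGeom G X p) :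
    ((∀ g : G, g ≠ 1 → g ^ p ≠ 1) ∧ (IsCyclic G ∨ Nonempty (G ≃* alternatingGroup (Fin 4)) ∨ Nonempty (G ≃* Equiv.Perm (Fin 4)))) ∨
    ((p = 2 ∨ ∀ g : G, g ≠ 1 → g ^ p ≠ 1) ∧ ∃ (c : ℕ) (ρ : G), 2 ≤ c ∧ orderOf ρ = c ∧ ρ ^ p ≠ 1 ∧ Nonempty (G ≃* DihedralGroup c)) ∨
    ((p = 3 ∨ ∀ g : G, g ≠ 1 → g ^ p ≠ 1) ∧ Nonempty (G ≃* alternatingGroup (Fin 5))) ∨
    ((∃ g : G, g ≠ 1 ∧ g ^ p = 1) ∧ ∃ a : X, ∀ g : G, g • a = a) ∨
    (∃ (a b : X), a ∈ DGeom.Om G X p ∧ b ∈ DGeom.Om G X p ∧ a ≠ b ∧ ∀ x ∈ DGeom.Om G X p, ∀ y ∈ DGeom.Om G X p, ∀ z ∈ DGeom.Om G X p, y ≠ x → z ≠ x →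
      ∃ u : G, u ^ p = 1 ∧ u • x = x ∧ u • y = z) := by
  by_cases hU : ∃ g : G, g ≠ 1 ∧ g ^ p = 1
  · rcases D.main_P hU with h | ⟨h1, h2⟩ | ⟨h1, h2⟩ | h
    · right; right; right; left
      exact ⟨hU, h⟩
    · right; left
      exact ⟨Or.inl h1, h2⟩
    · right; right; left
      exact ⟨Or.inl h1, h2⟩
    · right; right; right; right
      exact h
  · have hnoP : ∀ g : G, g ≠ 1 → g ^ p ≠ 1 := fun g h1 h2 => hU ⟨g, h1, h2⟩
    rcases D.main_noP hnoP with h | h | h | h | h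
    · left
      exact ⟨hnoP, Or.inl h⟩
    · right; left
      exact ⟨Or.inr hnoP, h⟩
    · left
      exact ⟨hnoP, Or.inr (Or.inl h)⟩
    · left
      exact ⟨hnoP, Or.inr (Or.inr h)⟩
    · right; right; left
      exact ⟨Or.inr hnoP, h⟩

end Cfsg.Agent.Lib.Classical
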