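import Mathlib
import Cfsg.Agent.Lib.Classical.DGeomP
import Cfsg.Agent.Lib.Classical.ProjLine
import Cfsg.Agent.Lib.Classical.SL2Local

/-! The action of finite subgroups of `PSL₂` over an algebraically closed field on the projective line. -/

set_option autoImplicit false
set_option linter.unusedSimpArgs false
set_option linter.unusedVariables false
set_option linter.unusedSectionVars false
set_option linter.style.haveILetI false

namespace Cfsg.Agent.Lib.Classical

open Matrix MulAction Projectivization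
open scoped MatrixGroups LinearAlgebra.Projectivization

variable {E : Type*} [Field E]

/-- `PSL₂`. -/
abbrev Pe (E : Type*) [Field E] := Matrix.ProjectiveSpecialLinearGroup (Fin 2) E

/-- The projection. -/
abbrev mkP (A : SL(2, E)) : Pe E := (QuotientGroup.mk A)

theorem mkP_surj (g : Pe E) : ∃ A : SL(2, E), mkP A = g := QuotientGroup.mk_surjective g

theorem mkP_mul (A B : SL(2, E)) : mkP (A * B) = mkP A * mkP B := rfl

theorem mkP_pow (A : SL(2, E)) (n : ℕ) : mkP (A ^ n) = mkP A ^ n := rfl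

theorem mkP_inv (A : SL(2, E)) : mkP (A⁻¹) = (mkP A)⁻¹ := rfl

theorem dt_mulVec (M : Matrix (Fin 2) (Fin 2) E) (u v : Fin 2 → E) :
    dt (M *ᵥ u) (M *ᵥ v) = M.det * dt u v := by
  simp only [dt, Matrix.det_fin_two, Matrix.mulVec, dotProduct, Fin.sum_univ_two]
  ring

theorem dt_smul_left (c : E) (u v : Fin 2 → E) : dt (c • u) v = c * dt u v := by
  simp [dt]; ring

theorem dt_smul_right (c : E) (u v : Fin 2 → E) : dt u (c • v) = c * dt u v := by
  simp [dt]; ring

theorem dt_add_right (u v w : Fin 2 → E) : dt u (v + w) = dt u v + dt u w := by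
  simp [dt]; ring

theorem dt_add_left (u v w : Fin 2 → E) : dt (u + v) w = dt u w + dt v w := by
  simp [dt]; ring

theorem dt_self (u : Fin 2 → E) : dt u u = 0 := by
  simp [dt]; ring

theorem dt_swap (u v : Fin 2 → E) : dt v u = - dt u v := by
  simp [dt]; ring

theorem ne_zero_of_dt_left {u v : Fin 2 → E} (h : dt u v ≠ 0) : u ≠ 0 := by
  rintro rfl
  simp [dt] at h

theorem ne_zero_of_dt_right {u v : Fin 2 → E} (h : dt u v ≠ 0) : v ≠ 0 := by
  rintro rfl
  simp [dt] at h

/-- Two matrices which agree on a basis are equal. -/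
theorem mat_ext_basis {M M' : Matrix (Fin 2) (Fin 2) E} {u v : Fin 2 → E} (h : dt u v ≠ 0)
    (hu : M *ᵥ u = M' *ᵥ u) (hv : M *ᵥ v = M' *ᵥ v) : M = M' := by
  ext i j
  have key : M *ᵥ (Pi.single j 1) = M' *ᵥ (Pi.single j 1) := by
    rw [eq_add_of_dt_ne h (Pi.single j 1)]
    rw [Matrix.mulVec_add, Matrix.mulVec_smul, Matrix.mulVec_smul, hu, hv, Matrix.mulVec_add,
      Matrix.mulVec_smul, Matrix.mulVec_smul]
  have := congrFun key i
  simpa using this

theorem mkP_smul_mk (A : SL(2, E)) {v : Fin 2 → E} (hv : v ≠ 0) :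
    ∃ h, mkP A • mk E v hv = mk E ((A : Matrix (Fin 2) (Fin 2) E) *ᵥ v) h := by
  have h1 : mkP A • mk E v hv = A • mk E v hv := rfl
  rw [h1, smul_mk]
  exact ⟨_, rfl⟩

/-- Fixed points and eigenvectors. -/
theorem mkP_fix_iff (A : SL(2, E)) {v : Fin 2 → E} (hv : v ≠ 0) :
    mkP A • mk E v hv = mk E v hv ↔ ∃ l : E, (A : Matrix (Fin 2) (Fin 2) E) *ᵥ v = l • v := by
  obtain ⟨h, e⟩ := mkP_smul_mk A hv
  rw [e, mk_eq_mk_iff']
  constructor
  · rintro ⟨a, ha⟩
    exact ⟨a, ha.symm⟩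
  · rintro ⟨a, ha⟩
    exact ⟨a, ha.symm⟩

theorem mkP_smul_eq_iff (A : SL(2, E)) {v w : Fin 2 → E} (hv : v ≠ 0) (hw : w ≠ 0) :
    mkP A • mk E v hv = mk E w hw ↔ ∃ l : E, (A : Matrix (Fin 2) (Fin 2) E) *ᵥ v = l • w := by
  obtain ⟨h, e⟩ := mkP_smul_mk A hv
  rw [e, mk_eq_mk_iff']
  constructor
  · rintro ⟨a, ha⟩
    exact ⟨a, ha.symm⟩
  · rintro ⟨a, ha⟩
    exact ⟨a, ha.symm⟩

theorem mkP_eq_one_iff (A : SL(2, E)) : mkP A = 1 ↔ A = 1 ∨ (A : Matrix (Fin 2) (Fin 2) E) = -1 := by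
  rw [QuotientGroup.eq_one_iff, sl2_center_iff]

theorem mkP_eq_one_of_scalar (A : SL(2, E)) {l : E} (h : (A : Matrix (Fin 2) (Fin 2) E) = l • 1) : mkP A = 1 := by
  rw [mkP_eq_one_iff]
  have hdet : (A : Matrix (Fin 2) (Fin 2) E).det = 1 := A.2
  rw [h, Matrix.det_fin_two] at hdet
  simp at hdet
  have h2 : (l - 1) * (l + 1) = 0 := by linear_combination hdet
  rcases mul_eq_zero.1 h2 with h3 | h3
  · left
    apply Subtype.ext
    rw [h, sub_eq_zero.1 h3]
    simp
  · right
    rw [h, eq_neg_of_add_eq_zero_left h3]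
    simp

/-- Scalar on a basis means trivial. -/
theorem mkP_eq_one_of_eig (A : SL(2, E)) {v w : Fin 2 → E} {l : E} (h : dt v w ≠ 0)
    (hv : (A : Matrix (Fin 2) (Fin 2) E) *ᵥ v = l • v) (hw : (A : Matrix (Fin 2) (Fin 2) E) *ᵥ w = l • w) : mkP A = 1 := by
  apply mkP_eq_one_of_scalar A (l := l)
  apply mat_ext_basis h
  · rw [hv, Matrix.smul_mulVec, Matrix.one_mulVec]
  · rw [hw, Matrix.smul_mulVec, Matrix.one_mulVec]

theorem exists_compl {v : Fin 2 → E} (hv : v ≠ 0) : ∃ w : Fin 2 → E, dt v w = 1 := by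
  rcases (vec_ne_zero_iff v).1 hv with h | h
  · refine ⟨![0, (v 0)⁻¹], ?_⟩
    simp [dt, h]
  · refine ⟨![-(v 1)⁻¹, 0], ?_⟩
    simp [dt, h]

theorem exists_eigvec [IsAlgClosed E] (A : SL(2, E)) :
    ∃ (v : Fin 2 → E) (l : E), v ≠ 0 ∧ (A : Matrix (Fin 2) (Fin 2) E) *ᵥ v = l • v := by
  obtain ⟨x, hx⟩ := IsAlgClosed.exists_root (k := E)
    ((Polynomial.X ^ 2 - Polynomial.C ((A : Matrix (Fin 2) (Fin 2) E).trace) * Polynomial.X + 1 :
      Polynomial E)) (by
      have : (Polynomial.X ^ 2 - Polynomial.C ((A : Matrix (Fin 2) (Fin 2) E).trace) * Polynomial.X + 1 :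
      Polynomial E).degree = 2 := by
        compute_degree!
      rw [this]
      norm_num)
  have hx' : x ^ 2 - (A : Matrix (Fin 2) (Fin 2) E).trace * x + 1 = 0 := by
    simpa [Polynomial.IsRoot] using hx
  have hdet : (A : Matrix (Fin 2) (Fin 2) E).det = 1 := A.2
  have h0 : ((A : Matrix (Fin 2) (Fin 2) E) - x • 1).det = 0 := by
    rw [Matrix.det_fin_two] at hdet ⊢
    rw [Matrix.trace_fin_two] at hx'
    simp
    linear_combination hx' + hdet
  obtain ⟨v, hv, e⟩ := Matrix.exists_mulVec_eq_zero_iff.2 h0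
  refine ⟨v, x, hv, ?_⟩
  rw [Matrix.sub_mulVec, Matrix.smul_mulVec, Matrix.one_mulVec] at e
  exact sub_eq_zero.1 e

/-- Triangular form. -/
theorem triang (A : SL(2, E)) {v w : Fin 2 → E} {l : E} (h : dt v w ≠ 0)
    (hv : (A : Matrix (Fin 2) (Fin 2) E) *ᵥ v = l • v) :
    l ≠ 0 ∧ ∃ μ : E, (A : Matrix (Fin 2) (Fin 2) E) *ᵥ w = μ • v + l⁻¹ • w := by
  have hdet : (A : Matrix (Fin 2) (Fin 2) E).det = 1 := A.2
  have h1 := dt_mulVec (A : Matrix (Fin 2) (Fin 2) E) v w
  rw [hv, hdet, one_mul, dt_smul_left] at h1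
  have hl : l ≠ 0 := by
    rintro rfl
    rw [zero_mul] at h1
    exact h h1.symm
  refine ⟨hl, dt ((A : Matrix (Fin 2) (Fin 2) E) *ᵥ w) w / dt v w, ?_⟩
  have h2 := eq_add_of_dt_ne h ((A : Matrix (Fin 2) (Fin 2) E) *ᵥ w)
  have h3 : dt v ((A : Matrix (Fin 2) (Fin 2) E) *ᵥ w) / dt v w = l⁻¹ := by
    rw [div_eq_iff h, inv_mul_eq_div, eq_div_iff hl]
    linear_combination h1
  rw [h3] at h2
  exact h2

/-- A second eigenvector. -/
theorem exists_second_eig (A : SL(2, E)) {v : Fin 2 → E} {l : E} (h0 : v ≠ 0)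
    (hv : (A : Matrix (Fin 2) (Fin 2) E) *ᵥ v = l • v) (hl : l ^ 2 ≠ 1) :
    ∃ w : Fin 2 → E, dt v w = 1 ∧ (A : Matrix (Fin 2) (Fin 2) E) *ᵥ w = l⁻¹ • w := by
  obtain ⟨w, hw⟩ := exists_compl h0
  obtain ⟨hl0, μ, hμ⟩ := triang A (w := w) (by rw [hw]; exact one_ne_zero) hv
  have hne : l⁻¹ - l ≠ 0 := by
    intro h
    apply hl
    have : l⁻¹ = l := sub_eq_zero.1 h
    rw [pow_two]
    nth_rw 1 [← this]
    exact inv_mul_cancel₀ hl0
  refine ⟨(μ / (l⁻¹ - l)) • v + w, ?_, ?_⟩
  · rw [dt_add_right, dt_smul_right, dt_self, mul_zero, zero_add, hw]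
  · rw [Matrix.mulVec_add, Matrix.mulVec_smul, hv, hμ]
    ext i
    simp only [Pi.add_apply, Pi.smul_apply, smul_eq_mul]
    field_simp
    ring

/-- The fixed points of a semisimple element. -/
theorem fix_ss (A : SL(2, E)) {v w : Fin 2 → E} {l : E} (h : dt v w ≠ 0) (hl : l ^ 2 ≠ 1)
    (hv : (A : Matrix (Fin 2) (Fin 2) E) *ᵥ v = l • v) (hw : (A : Matrix (Fin 2) (Fin 2) E) *ᵥ w = l⁻¹ • w)
    (x : ℙ E (Fin 2 → E)) :
    mkP A • x = x ↔ x = mk E v (ne_zero_of_dt_left h) ∨ x = mk E w (ne_zero_of_dt_right h) := by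
  induction x using Projectivization.ind with | _ u hu =>
  have hl0 : l ≠ 0 := (triang A h hv).1
  rw [mkP_fix_iff, mk_eq_mk_iff_dt hu (ne_zero_of_dt_left h), mk_eq_mk_iff_dt hu (ne_zero_of_dt_right h)]
  constructor
  · rintro ⟨κ, hκ⟩
    have hu' := eq_add_of_dt_ne h u
    set a := dt u w / dt v w with ha
    set b := dt v u / dt v w with hb
    have e1 : (A : Matrix (Fin 2) (Fin 2) E) *ᵥ u = (a * l) • v + (b * l⁻¹) • w := by
      rw [hu', Matrix.mulVec_add, Matrix.mulVec_smul, Matrix.mulVec_smul, hv, hw, smul_smul, smul_smul]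
    have e2 : ((a * l) - κ * a) • v + ((b * l⁻¹) - κ * b) • w = 0 := by
      rw [e1] at hκ
      have e3 : κ • u = (κ * a) • v + (κ * b) • w := by
        conv_lhs => rw [hu']
        rw [smul_add, smul_smul, smul_smul]
      rw [e3] at hκ
      linear_combination (norm := module) hκ
    have e4 : a * (l - κ) = 0 := by
      have := congrArg (fun z => dt z w) e2
      simp only [dt_add_left, dt_smul_left, dt_self, mul_zero, add_zero] at this
      have h0 : dt (0 : Fin 2 → E) w = 0 := by simp [dt]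
      rw [h0] at this
      have := (mul_eq_zero.1 this).resolve_right h
      linear_combination this
    have e5 : b * (l⁻¹ - κ) = 0 := by
      have := congrArg (fun z => dt v z) e2
      simp only [dt_add_right, dt_smul_right, dt_self, mul_zero, zero_add] at this
      have h0 : dt v (0 : Fin 2 → E) = 0 := by simp [dt]
      rw [h0] at this
      have := (mul_eq_zero.1 this).resolve_right h
      linear_combination this
    by_cases ha0 : a = 0
    · right
      have := (div_eq_zero_iff.1 ha0).resolve_right h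
      exact this
    · left
      have hb0 : b = 0 := by
        by_contra hb0
        have e6 : l = κ := sub_eq_zero.1 ((mul_eq_zero.1 e4).resolve_left ha0)
        have e7 : l⁻¹ = κ := sub_eq_zero.1 ((mul_eq_zero.1 e5).resolve_left hb0)
        apply hl
        rw [pow_two]
        nth_rw 1 [e6, ← e7]
        exact inv_mul_cancel₀ hl0
      have := (div_eq_zero_iff.1 hb0).resolve_right h
      rw [dt_swap, neg_eq_zero]
      exact this
  · rintro (h1 | h1)
    · have : (mk E u hu) = mk E v (ne_zero_of_dt_left h) := (mk_eq_mk_iff_dt _ _).2 h1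
      obtain ⟨a, ha⟩ := (mk_eq_mk_iff' _ _ _ _ _).1 this
      refine ⟨l, ?_⟩
      rw [← ha, Matrix.mulVec_smul, hv, smul_comm]
    · have : (mk E u hu) = mk E w (ne_zero_of_dt_right h) := (mk_eq_mk_iff_dt _ _).2 h1
      obtain ⟨a, ha⟩ := (mk_eq_mk_iff' _ _ _ _ _).1 this
      refine ⟨l⁻¹, ?_⟩
      rw [← ha, Matrix.mulVec_smul, hw, smul_comm]

/-- The unique fixed point of a non-semisimple element. -/
theorem fix_uni (A : SL(2, E)) {v : Fin 2 → E} {l : E} (h0 : v ≠ 0) (hl : l ^ 2 = 1)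
    (hv : (A : Matrix (Fin 2) (Fin 2) E) *ᵥ v = l • v) (h1 : mkP A ≠ 1)
    (x : ℙ E (Fin 2 → E)) : mkP A • x = x ↔ x = mk E v h0 := by
  induction x using Projectivization.ind with | _ u hu =>
  obtain ⟨w, hw⟩ := exists_compl h0
  have hd : dt v w ≠ 0 := by rw [hw]; exact one_ne_zero
  obtain ⟨hl0, μ, hμ⟩ := triang A hd hv
  have hinv : l⁻¹ = l := inv_eq_of_mul_eq_one_right (by rw [← pow_two, hl])
  rw [hinv] at hμ
  have hμ0 : μ ≠ 0 := by
    rintro rfl
    apply h1
    apply mkP_eq_one_of_eig A hd hv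
    rw [hμ, zero_smul, zero_add]
  rw [mkP_fix_iff, mk_eq_mk_iff_dt hu h0]
  constructor
  · rintro ⟨κ, hκ⟩
    have hu' := eq_add_of_dt_ne hd u
    set a := dt u w / dt v w with ha
    set b := dt v u / dt v w with hb
    have e1 : (A : Matrix (Fin 2) (Fin 2) E) *ᵥ u = (a * l + b * μ) • v + (b * l) • w := by
      rw [hu', Matrix.mulVec_add, Matrix.mulVec_smul, Matrix.mulVec_smul, hv, hμ]
      module
    have e2 : ((a * l + b * μ) - κ * a) • v + ((b * l) - κ * b) • w = 0 := by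
      rw [e1] at hκ
      have e3 : κ • u = (κ * a) • v + (κ * b) • w := by
        conv_lhs => rw [hu']
        rw [smul_add, smul_smul, smul_smul]
      rw [e3] at hκ
      linear_combination (norm := module) hκ
    have e4 : (a * l + b * μ) - κ * a = 0 := by
      have := congrArg (fun z => dt z w) e2
      simp only [dt_add_left, dt_smul_left, dt_self, mul_zero, add_zero] at this
      have h0 : dt (0 : Fin 2 → E) w = 0 := by simp [dt]
      rw [h0] at this
      exact (mul_eq_zero.1 this).resolve_right hd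
    have e5 : (b * l) - κ * b = 0 := by
      have := congrArg (fun z => dt v z) e2
      simp only [dt_add_right, dt_smul_right, dt_self, mul_zero, zero_add] at this
      have h0 : dt v (0 : Fin 2 → E) = 0 := by simp [dt]
      rw [h0] at this
      exact (mul_eq_zero.1 this).resolve_right hd
    have hb0 : b = 0 := by
      by_contra hb0
      have e6 : l = κ := by
        have : b * (l - κ) = 0 := by linear_combination e5
        exact sub_eq_zero.1 ((mul_eq_zero.1 this).resolve_left hb0)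
      rw [← e6] at e4
      have : b * μ = 0 := by linear_combination e4
      rcases mul_eq_zero.1 this with h3 | h3
      · exact hb0 h3
      · exact hμ0 h3
    have := (div_eq_zero_iff.1 hb0).resolve_right hd
    rw [dt_swap, neg_eq_zero]
    exact this
  · intro h1
    have : (mk E u hu) = mk E v h0 := (mk_eq_mk_iff_dt _ _).2 h1
    obtain ⟨a, ha⟩ := (mk_eq_mk_iff' _ _ _ _ _).1 this
    refine ⟨l, ?_⟩
    rw [← ha, Matrix.mulVec_smul, hv, smul_comm]

section CharP

variable (p : ℕ) [hp : Fact p.Prime] [CharP E p]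

/-- An eigenvalue `±1` gives order dividing `p`. -/
theorem pow_char_of_eig (A : SL(2, E)) {v : Fin 2 → E} {l : E} (h0 : v ≠ 0) (hl : l ^ 2 = 1)
    (hv : (A : Matrix (Fin 2) (Fin 2) E) *ᵥ v = l • v) : mkP A ^ p = 1 := by
  obtain ⟨w, hw⟩ := exists_compl h0
  have hd : dt v w ≠ 0 := by rw [hw]; exact one_ne_zero
  obtain ⟨hl0, μ, hμ⟩ := triang A hd hv
  have hinv : l⁻¹ = l := inv_eq_of_mul_eq_one_right (by rw [← pow_two, hl])
  rw [hinv] at hμ
  set M : Matrix (Fin 2) (Fin 2) E := (A : Matrix (Fin 2) (Fin 2) E) with hM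
  set N : Matrix (Fin 2) (Fin 2) E := l • M - 1 with hN
  have hNv : N *ᵥ v = 0 := by
    rw [hN, Matrix.sub_mulVec, Matrix.smul_mulVec, hv, Matrix.one_mulVec, smul_smul, ← pow_two, hl, one_smul, sub_self]
  have hNw : N *ᵥ w = (l * μ) • v := by
    rw [hN, Matrix.sub_mulVec, Matrix.smul_mulVec, hμ, Matrix.one_mulVec, smul_add, smul_smul, smul_smul, ← pow_two, hl, one_smul, add_sub_cancel_right]
  have hNN : N * N = 0 := by
    apply mat_ext_basis hd
    · rw [← Matrix.mulVec_mulVec, hNv, Matrix.mulVec_zero, Matrix.zero_mulVec]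
    · rw [← Matrix.mulVec_mulVec, hNw, Matrix.mulVec_smul, hNv, smul_zero, Matrix.zero_mulVec]
  have hp2 : 2 ≤ p := hp.out.two_le
  have hNp : N ^ p = 0 := by
    obtain ⟨k, hk⟩ : ∃ k, p = k + 2 := ⟨p - 2, by omega⟩
    rw [hk, pow_add, pow_two, hNN, mul_zero]
  have e1 : (l • M) = 1 + N := by rw [hN]; abel
  have e2 : (l • M) ^ p = 1 := by
    rw [e1, add_pow_char_of_commute p (Commute.one_left N), one_pow, hNp, add_zero]
  rw [smul_pow] at e2
  have e3 : (l ^ p) * (l ^ p) = 1 := by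
    rw [← pow_add, ← two_mul, pow_mul, hl, one_pow]
  have e4 : ((A ^ p : SL(2, E)) : Matrix (Fin 2) (Fin 2) E) = (l ^ p) • 1 := by
    have : ((A ^ p : SL(2, E)) : Matrix (Fin 2) (Fin 2) E) = M ^ p := by simp [hM]
    rw [this]
    calc M ^ p = ((l ^ p) * (l ^ p)) • M ^ p := by rw [e3, one_smul]
      _ = (l ^ p) • ((l ^ p) • M ^ p) := by rw [smul_smul]
      _ = _ := by rw [e2]
  rw [← mkP_pow]
  exact mkP_eq_one_of_scalar _ e4

/-- If `mkP A ^ n = 1` and `v` is an eigenvector, then the eigenvalue to the power `n` squares to `1`. -/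
theorem eig_pow_sq (A : SL(2, E)) {v : Fin 2 → E} {l : E} (h0 : v ≠ 0) (n : ℕ) (h : mkP A ^ n = 1)
    (hv : (A : Matrix (Fin 2) (Fin 2) E) *ᵥ v = l • v) : (l ^ n) ^ 2 = 1 := by
  have e1 : ∀ k : ℕ, ((A ^ k : SL(2, E)) : Matrix (Fin 2) (Fin 2) E) *ᵥ v = (l ^ k) • v := by
    intro k
    induction k with
    | zero => simp
    | succ k ih =>
      rw [pow_succ, Matrix.SpecialLinearGroup.coe_mul, ← Matrix.mulVec_mulVec, hv, Matrix.mulVec_smul, ih, smul_smul, pow_succ, mul_comm]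
  have e2 := e1 n
  rw [← mkP_pow, mkP_eq_one_iff] at h
  obtain ⟨i, hi⟩ : ∃ i, v i ≠ 0 := by
    by_contra hcon
    push Not at hcon
    exact h0 (funext hcon)
  rcases h with h | h
  · rw [h] at e2
    have := congrFun e2 i
    simp at this
    have h1 : l ^ n = 1 := by
      have h2 : (l ^ n - 1) * v i = 0 := by linear_combination -this
      exact sub_eq_zero.1 ((mul_eq_zero.1 h2).resolve_right hi)
    rw [h1, one_pow]
  · rw [h] at e2
    have := congrFun e2 i
    simp [Matrix.neg_mulVec] at this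
    have h1 : l ^ n = -1 := by
      have h2 : (l ^ n + 1) * v i = 0 := by linear_combination -this
      exact eq_neg_of_add_eq_zero_left ((mul_eq_zero.1 h2).resolve_right hi)
    rw [h1]
    ring

include hp in
theorem sq_eq_one_of_pow_char {x : E} (h : (x ^ p) ^ 2 = 1) : x ^ 2 = 1 := by
  apply frobenius_inj E p
  simp only [frobenius_def, one_pow]
  rw [← pow_mul, mul_comm, pow_mul, h]

/-- Characterisation of `p`-elements via eigenvalues. -/
theorem pow_char_iff (A : SL(2, E)) {v : Fin 2 → E} {l : E} (h0 : v ≠ 0)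
    (hv : (A : Matrix (Fin 2) (Fin 2) E) *ᵥ v = l • v) : mkP A ^ p = 1 ↔ l ^ 2 = 1 :=
  ⟨fun h => sq_eq_one_of_pow_char p (eig_pow_sq A h0 p h hv), fun h => pow_char_of_eig p A h0 h hv⟩

end CharP

/-- Powers of semisimple elements. -/
theorem pow_eq_one_of_eig (A : SL(2, E)) {v w : Fin 2 → E} {l : E} (h : dt v w ≠ 0) (n : ℕ) (hn : (l ^ n) ^ 2 = 1)
    (hv : (A : Matrix (Fin 2) (Fin 2) E) *ᵥ v = l • v) (hw : (A : Matrix (Fin 2) (Fin 2) E) *ᵥ w = l⁻¹ • w) :
    mkP A ^ n = 1 := by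
  have e1 : ∀ (k : ℕ) (u : Fin 2 → E) (c : E), (A : Matrix (Fin 2) (Fin 2) E) *ᵥ u = c • u →
      ((A ^ k : SL(2, E)) : Matrix (Fin 2) (Fin 2) E) *ᵥ u = (c ^ k) • u := by
    intro k u c hu
    induction k with
    | zero => simp
    | succ k ih =>
      rw [pow_succ, Matrix.SpecialLinearGroup.coe_mul, ← Matrix.mulVec_mulVec, hu, Matrix.mulVec_smul, ih, smul_smul, pow_succ, mul_comm]
  have h1 := e1 n v l hv
  have h2 := e1 n w l⁻¹ hw
  have hl0 : l ^ n ≠ 0 := by
    intro h0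
    rw [h0] at hn
    simp at hn
  have h3 : (l⁻¹) ^ n = l ^ n := by
    rw [inv_pow]
    exact inv_eq_of_mul_eq_one_right (by rw [← pow_two, hn])
  rw [h3] at h2
  rw [← mkP_pow]
  exact mkP_eq_one_of_eig _ h h1 h2

theorem mkP_eq_iff (A B : SL(2, E)) : mkP A = mkP B ↔ A = B ∨ (B : Matrix (Fin 2) (Fin 2) E) = -(A : Matrix (Fin 2) (Fin 2) E) := by
  rw [QuotientGroup.eq, sl2_center_iff]
  constructor
  · rintro (h | h)
    · left
      exact (inv_mul_eq_one.1 h)
    · right
      have e : (B : Matrix (Fin 2) (Fin 2) E) = (A : Matrix (Fin 2) (Fin 2) E) * ((A⁻¹ * B : SL(2, E)) : Matrix (Fin 2) (Fin 2) E) := by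
        rw [← Matrix.SpecialLinearGroup.coe_mul, mul_inv_cancel_left]
      rw [e, h]
      simp
  · rintro (h | h)
    · left
      rw [h, inv_mul_cancel]
    · right
      have e : (A : Matrix (Fin 2) (Fin 2) E) * ((A⁻¹ * B : SL(2, E)) : Matrix (Fin 2) (Fin 2) E) = (B : Matrix (Fin 2) (Fin 2) E) := by
        rw [← Matrix.SpecialLinearGroup.coe_mul, mul_inv_cancel_left]
      have e2 : ((A⁻¹ * B : SL(2, E)) : Matrix (Fin 2) (Fin 2) E) = ((A⁻¹ : SL(2, E)) : Matrix (Fin 2) (Fin 2) E) * (B : Matrix (Fin 2) (Fin 2) E) := by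
        rw [Matrix.SpecialLinearGroup.coe_mul]
      have e3 : ((A⁻¹ : SL(2, E)) : Matrix (Fin 2) (Fin 2) E) * (A : Matrix (Fin 2) (Fin 2) E) = 1 := by
        rw [← Matrix.SpecialLinearGroup.coe_mul, inv_mul_cancel]
        simp
      rw [e2, h, mul_neg, e3]

/-- The square of the eigenvalue only depends on the image in `PSL₂`. -/
theorem eig_sq_well_def {A B : SL(2, E)} {v : Fin 2 → E} {l l' : E} (h0 : v ≠ 0) (h : mkP A = mkP B)
    (hA : (A : Matrix (Fin 2) (Fin 2) E) *ᵥ v = l • v) (hB : (B : Matrix (Fin 2) (Fin 2) E) *ᵥ v = l' • v) : l ^ 2 = l' ^ 2 := by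
  obtain ⟨i, hi⟩ : ∃ i, v i ≠ 0 := by
    by_contra hcon
    push Not at hcon
    exact h0 (funext hcon)
  rcases (mkP_eq_iff A B).1 h with h | h
  · subst h
    rw [hA] at hB
    have := congrFun hB i
    simp only [Pi.smul_apply, smul_eq_mul] at this
    have h2 : (l - l') * v i = 0 := by linear_combination this
    rw [sub_eq_zero.1 ((mul_eq_zero.1 h2).resolve_right hi)]
  · rw [h, Matrix.neg_mulVec, hA] at hB
    have := congrFun hB i
    simp only [Pi.neg_apply, Pi.smul_apply, smul_eq_mul] at this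
    have h2 : (l + l') * v i = 0 := by linear_combination -this
    rw [eq_neg_of_add_eq_zero_left ((mul_eq_zero.1 h2).resolve_right hi)]
    ring

/-- Two common eigenvectors: the eigenvalues are inverse to each other. -/
theorem eig_mul_eig {A : SL(2, E)} {v w : Fin 2 → E} {l l' : E} (h : dt v w ≠ 0)
    (hv : (A : Matrix (Fin 2) (Fin 2) E) *ᵥ v = l • v) (hw : (A : Matrix (Fin 2) (Fin 2) E) *ᵥ w = l' • w) : l * l' = 1 := by
  have h1 := dt_mulVec (A : Matrix (Fin 2) (Fin 2) E) v w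
  have hdet : (A : Matrix (Fin 2) (Fin 2) E).det = 1 := A.2
  rw [hv, hw, hdet, one_mul, dt_smul_left, dt_smul_right] at h1
  apply mul_right_cancel₀ h
  linear_combination h1

/-- A finite group fixing two points on the line is cyclic. -/
theorem isCyclic_of_two_fix {T : Type*} [Group T] [Finite T] (φ : T →* Pe E) (hφ : Function.Injective φ)
    {v w : Fin 2 → E} (h : dt v w ≠ 0)
    (hT : ∀ t, φ t • mk E v (ne_zero_of_dt_left h) = mk E v (ne_zero_of_dt_left h) ∧
      φ t • mk E w (ne_zero_of_dt_right h) = mk E w (ne_zero_of_dt_right h)) : IsCyclic T := by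
  have h0 := ne_zero_of_dt_left h
  have h1 : ∀ t : T, ∃ c : E, ∀ (A : SL(2, E)) (l : E), mkP A = φ t → (A : Matrix (Fin 2) (Fin 2) E) *ᵥ v = l • v → l ^ 2 = c := by
    intro t
    obtain ⟨A₀, hA₀⟩ := mkP_surj (φ t)
    have := (hT t).1
    rw [← hA₀, mkP_fix_iff] at this
    obtain ⟨l₀, hl₀⟩ := this
    refine ⟨l₀ ^ 2, fun A l hA hl => ?_⟩
    exact eig_sq_well_def h0 (hA.trans hA₀.symm) hl hl₀
  choose c hc using h1
  have hlift : ∀ t : T, ∃ (A : SL(2, E)) (l : E), mkP A = φ t ∧ (A : Matrix (Fin 2) (Fin 2) E) *ᵥ v = l • v := by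
    intro t
    obtain ⟨A₀, hA₀⟩ := mkP_surj (φ t)
    have := (hT t).1
    rw [← hA₀, mkP_fix_iff] at this
    obtain ⟨l₀, hl₀⟩ := this
    exact ⟨A₀, l₀, hA₀, hl₀⟩
  have hc1 : c 1 = 1 := by
    have := hc 1 1 1 (by rw [map_one]; rfl) (by simp)
    rw [← this, one_pow]
  have hcm : ∀ s t : T, c (s * t) = c s * c t := by
    intro s t
    obtain ⟨A, l, hA, hl⟩ := hlift s
    obtain ⟨B, l', hB, hl'⟩ := hlift t
    rw [← hc s A l hA hl, ← hc t B l' hB hl', ← mul_pow]
    symm
    apply hc (s * t) (A * B) (l * l')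
    · rw [mkP_mul, hA, hB, map_mul]
    · rw [Matrix.SpecialLinearGroup.coe_mul, ← Matrix.mulVec_mulVec, hl', Matrix.mulVec_smul, hl, smul_smul, mul_comm]
  let f : T →* E := { toFun := c, map_one' := hc1, map_mul' := hcm }
  have hker : ∀ t : T, c t = 1 → t = 1 := by
    intro t ht
    apply hφ
    rw [map_one]
    obtain ⟨A, l, hA, hl⟩ := hlift t
    have e1 := (hT t).2
    rw [← hA, mkP_fix_iff] at e1
    obtain ⟨l', hl'⟩ := e1
    have e2 := eig_mul_eig h hl hl'
    have e3 : l ^ 2 = 1 := by rw [hc t A l hA hl, ht]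
    have e4 : l' = l := by
      have : l * (l' - l) = 0 := by linear_combination e2 - e3
      have hl0 : l ≠ 0 := by
        rintro rfl
        simp at e2
      exact sub_eq_zero.1 ((mul_eq_zero.1 this).resolve_left hl0)
    rw [e4] at hl'
    rw [← hA]
    exact mkP_eq_one_of_eig A h hl hl'
  have hf : Function.Injective f := by
    intro s t hst
    have e1 : c (s * t⁻¹) = 1 := by
      rw [hcm]
      have : c s = c t := hst
      rw [this, ← hcm, mul_inv_cancel, hc1]
    have := hker _ e1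
    exact mul_inv_eq_one.1 this
  exact isCyclic_of_subgroup_isDomain f hf

section Main

variable (p : ℕ) [hp : Fact p.Prime] [CharP E p]

theorem fix_main [IsAlgClosed E] (g : Pe E) (hfin : IsOfFinOrder g) (h1 : g ≠ 1) :
    (g ^ p = 1 ∧ ∃ a : ℙ E (Fin 2 → E), ∀ x, g • x = x ↔ x = a) ∨
    (¬ p ∣ orderOf g ∧ ∃ a b : ℙ E (Fin 2 → E), a ≠ b ∧ ∀ x, g • x = x ↔ x = a ∨ x = b) := by
  obtain ⟨A, rfl⟩ := mkP_surj g
  obtain ⟨v, l, h0, hv⟩ := exists_eigvec A
  by_cases hl : l ^ 2 = 1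
  · left
    exact ⟨pow_char_of_eig p A h0 hl hv, mk E v h0, fix_uni A h0 hl hv h1⟩
  · right
    obtain ⟨w, hd, hw⟩ := exists_second_eig A h0 hv hl
    have hd' : dt v w ≠ 0 := by rw [hd]; exact one_ne_zero
    refine ⟨?_, mk E v h0, mk E w (ne_zero_of_dt_right hd'), ?_, fix_ss A hd' hl hv hw⟩
    · rintro ⟨m, hm⟩
      have hpos : 0 < orderOf (mkP A) := hfin.orderOf_pos
      have hm0 : 0 < m := by
        rcases Nat.eq_zero_or_pos m with h | h
        · rw [h, mul_zero] at hm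
          omega
        · exact h
      have e1 : mkP A ^ (p * m) = 1 := by rw [← hm]; exact pow_orderOf_eq_one _
      have e2 := eig_pow_sq A h0 _ e1 hv
      have e3 : (l ^ m) ^ 2 = 1 := by
        apply sq_eq_one_of_pow_char p
        rw [← pow_mul l m p, mul_comm m p]
        exact e2
      have e4 := pow_eq_one_of_eig A hd' m e3 hv hw
      have e5 := orderOf_dvd_of_pow_eq_one e4
      rw [hm] at e5
      have e6 := Nat.le_of_dvd hm0 e5
      have := hp.out.two_le
      nlinarith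
    · rw [Ne, mk_eq_mk_iff_dt]
      exact hd'

theorem qsub_main (a : ℙ E (Fin 2 → E)) (g g' : Pe E) (h1 : g • a = a) (h2 : g' • a = a) (h3 : g ^ p = 1) (h4 : g' ^ p = 1) :
    (g * g') ^ p = 1 := by
  induction a using Projectivization.ind with | _ v h0 =>
  obtain ⟨A, rfl⟩ := mkP_surj g
  obtain ⟨B, rfl⟩ := mkP_surj g'
  rw [mkP_fix_iff] at h1 h2
  obtain ⟨l, hl⟩ := h1
  obtain ⟨l', hl'⟩ := h2
  have e1 := (pow_char_iff p A h0 hl).1 h3
  have e2 := (pow_char_iff p B h0 hl').1 h4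
  rw [← mkP_mul]
  apply pow_char_of_eig p (A * B) h0 (l := l * l')
  · rw [mul_pow, e1, e2, one_mul]
  · rw [Matrix.SpecialLinearGroup.coe_mul, ← Matrix.mulVec_mulVec, hl', Matrix.mulVec_smul, hl, smul_smul, mul_comm]

end Main

theorem swap_main (a b : ℙ E (Fin 2 → E)) (x : Pe E) (hab : a ≠ b) (h1 : x • a = b) (h2 : x • b = a) :
    x ^ 2 = 1 ∧ ∀ g : Pe E, g • a = a → g • b = b → x * g * x⁻¹ = g⁻¹ := by
  induction a using Projectivization.ind with | _ v hv0 =>
  induction b using Projectivization.ind with | _ w hw0 =>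
  obtain ⟨X, rfl⟩ := mkP_surj x
  have hd : dt v w ≠ 0 := fun h => hab ((mk_eq_mk_iff_dt hv0 hw0).2 h)
  rw [mkP_smul_eq_iff] at h1 h2
  obtain ⟨α, hα⟩ := h1
  obtain ⟨β, hβ⟩ := h2
  have hdet := dt_mulVec (X : Matrix (Fin 2) (Fin 2) E) v w
  have hdetX : (X : Matrix (Fin 2) (Fin 2) E).det = 1 := X.2
  rw [hα, hβ, hdetX, one_mul, dt_smul_left, dt_smul_right, dt_swap] at hdet
  have hαβ : α * β = -1 := by
    apply mul_right_cancel₀ hd
    linear_combination -hdet
  constructor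
  · rw [← mkP_pow]
    apply mkP_eq_one_of_eig _ hd (l := α * β)
    · rw [pow_two, Matrix.SpecialLinearGroup.coe_mul, ← Matrix.mulVec_mulVec, hα, Matrix.mulVec_smul, hβ, smul_smul]
    · rw [pow_two, Matrix.SpecialLinearGroup.coe_mul, ← Matrix.mulVec_mulVec, hβ, Matrix.mulVec_smul, hα, smul_smul, mul_comm]
  · intro g hg1 hg2
    obtain ⟨A, rfl⟩ := mkP_surj g
    rw [mkP_fix_iff] at hg1 hg2
    obtain ⟨l, hl⟩ := hg1
    obtain ⟨l', hl'⟩ := hg2
    have hll := eig_mul_eig hd hl hl'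
    have key : (A : Matrix (Fin 2) (Fin 2) E) * (X : Matrix (Fin 2) (Fin 2) E) * (A : Matrix (Fin 2) (Fin 2) E) = (X : Matrix (Fin 2) (Fin 2) E) := by
      apply mat_ext_basis hd
      · rw [← Matrix.mulVec_mulVec, hl, Matrix.mulVec_smul, ← Matrix.mulVec_mulVec, hα, Matrix.mulVec_smul, hl', smul_smul, smul_smul]
        congr 1
        linear_combination α * hll
      · rw [← Matrix.mulVec_mulVec, hl', Matrix.mulVec_smul, ← Matrix.mulVec_mulVec, hβ, Matrix.mulVec_smul, hl, smul_smul, smul_smul]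
        congr 1
        linear_combination β * hll
    have key2 : A * X * A = X := Subtype.ext (by simpa using key)
    have key3 : mkP A * mkP X * mkP A = mkP X := by
      rw [← mkP_mul, ← mkP_mul, key2]
    have key4 : mkP X * mkP A = (mkP A)⁻¹ * mkP X := by
      rw [eq_inv_mul_iff_mul_eq, ← mul_assoc]
      exact key3
    rw [key4, mul_inv_cancel_right]

section Sub

variable (p : ℕ) [hp : Fact p.Prime] [CharP E p] [IsAlgClosed E]

/-- Finite subgroups of `PSL₂` satisfy the geometric hypotheses. -/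
theorem dgeom_sub (H : Subgroup (Pe E)) [Finite H] : DGeom H (ℙ E (Fin 2 → E)) p where
  fix := by
    intro g h1
    have hfin : IsOfFinOrder (g : Pe E) := H.subtype.isOfFinOrder (isOfFinOrder_of_finite g)
    have h1' : (g : Pe E) ≠ 1 := fun h => h1 (Subtype.ext h)
    rcases fix_main p (g : Pe E) hfin h1' with ⟨h2, h3⟩ | ⟨h2, h3⟩
    · left
      exact ⟨Subtype.ext (by simpa using h2), h3⟩
    · right
      rw [Subgroup.orderOf_coe] at h2
      exact ⟨h2, h3⟩
  qsub := by
    intro a g g' h1 h2 h3 h4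
    apply Subtype.ext
    have h3' : (g : Pe E) ^ p = 1 := by simpa using congrArg Subtype.val h3
    have h4' : (g' : Pe E) ^ p = 1 := by simpa using congrArg Subtype.val h4
    simpa using qsub_main p a (g : Pe E) (g' : Pe E) h1 h2 h3' h4'
  cyc := by
    intro a b hab
    induction a using Projectivization.ind with | _ v hv0 =>
    induction b using Projectivization.ind with | _ w hw0 =>
    have hd : dt v w ≠ 0 := fun h => hab ((mk_eq_mk_iff_dt hv0 hw0).2 h)
    apply isCyclic_of_two_fix (H.subtype.comp (Subgroup.subtype _)) _ hd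
    · rintro ⟨t, ht1, ht2⟩
      exact ⟨ht1, ht2⟩
    · exact H.subtype_injective.comp (Subgroup.subtype_injective _)
  swap := by
    intro a b x hab h1 h2
    obtain ⟨h3, h4⟩ := swap_main a b (x : Pe E) hab h1 h2
    refine ⟨Subtype.ext (by simpa using h3), fun g hg1 hg2 => Subtype.ext ?_⟩
    simpa using h4 (g : Pe E) hg1 hg2

end Sub

end Cfsg.Agent.Lib.Classical
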