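import Mathlib
import Cfsg.Agent.Lib.Classical.SL2Local
import Cfsg.Agent.Lib.Classical.SylowSL2
import Cfsg.Agent.Lib.Classical.Card2

/-! Subfield subgroups of `PSL₂`. -/

set_option autoImplicit false
set_option linter.unusedSimpArgs false
set_option linter.unusedVariables false
set_option linter.unusedSectionVars false
set_option linter.style.haveILetI false

namespace Cfsg.Agent.Lib.Classical

open Matrix Module
open scoped MatrixGroups

/-- A field embedding from the order. -/
theorem exists_ringHom_of_card_pow {K F : Type*} [Field K] [Fintype K] [Field F] [Fintype F] {m : ℕ} (hm : 1 ≤ m)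
    (h : Fintype.card K ^ m = Fintype.card F) : Nonempty (K →+* F) := by
  classical
  obtain ⟨p, hp⟩ := CharP.exists F
  haveI : Fact p.Prime := ⟨CharP.char_is_prime F p⟩
  obtain ⟨n, hprime, hn⟩ := FiniteField.card F p
  obtain ⟨p', hp'⟩ := CharP.exists K
  haveI : Fact p'.Prime := ⟨CharP.char_is_prime K p'⟩
  obtain ⟨e, hprime', he⟩ := FiniteField.card K p'
  have hpp : p' = p := by
    have h1 : p' ∣ p ^ (n : ℕ) := by
      rw [← hn, ← h, he]
      exact dvd_pow (dvd_pow_self _ e.ne_zero) (by omega)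
    exact (Nat.prime_dvd_prime_iff_eq hprime' hprime).1 (hprime'.dvd_of_dvd_pow h1)
  subst hpp
  letI := ZMod.algebra K p'
  letI := ZMod.algebra F p'
  have hfrK : finrank (ZMod p') K = e := by
    have h1 := Module.card_eq_pow_finrank (K := ZMod p') (V := K)
    rw [he, ZMod.card] at h1
    exact (Nat.pow_right_injective hprime.two_le h1).symm
  have hfrF : finrank (ZMod p') F = n := by
    have h1 := Module.card_eq_pow_finrank (K := ZMod p') (V := F)
    rw [hn, ZMod.card] at h1
    exact (Nat.pow_right_injective hprime.two_le h1).symm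
  have hnm : (n : ℕ) = e * m := by
    rw [he, hn, ← pow_mul] at h
    exact (Nat.pow_right_injective hprime.two_le h).symm
  obtain ⟨f⟩ : Nonempty (K →ₐ[ZMod p'] F) := FiniteField.nonempty_algHom_of_finrank_dvd (by
    rw [hfrK, hfrF, hnm]
    exact dvd_mul_right _ _)
  exact ⟨f.toRingHom⟩

variable {K F : Type*} [Field K] [Field F] (ι : K →+* F)

/-- The map `SL₂(K) → PSL₂(F)`. -/
noncomputable def slToPsl : SL(2, K) →* Matrix.ProjectiveSpecialLinearGroup (Fin 2) F :=
  (QuotientGroup.mk' _).comp (Matrix.SpecialLinearGroup.map ι)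

theorem slToPsl_ker : (slToPsl ι).ker = Subgroup.center SL(2, K) := by
  ext g
  rw [MonoidHom.mem_ker, slToPsl, MonoidHom.comp_apply, QuotientGroup.mk'_apply, QuotientGroup.eq_one_iff, sl2_center_iff, sl2_center_iff]
  have hinj : Function.Injective (Matrix.map · ι : Matrix (Fin 2) (Fin 2) K → Matrix (Fin 2) (Fin 2) F) :=
    Matrix.map_injective ι.injective
  have hcoe : ∀ g : SL(2, K), ((Matrix.SpecialLinearGroup.map ι g : SL(2, F)) : Matrix (Fin 2) (Fin 2) F) = (g : Matrix (Fin 2) (Fin 2) K).map ι := fun g => rfl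
  constructor
  · rintro (h | h)
    · left
      apply Subtype.ext
      apply hinj
      have : ((Matrix.SpecialLinearGroup.map ι g : SL(2, F)) : Matrix (Fin 2) (Fin 2) F) = 1 := by rw [h]; rfl
      rw [hcoe] at this
      change (g : Matrix (Fin 2) (Fin 2) K).map ι = (1 : Matrix (Fin 2) (Fin 2) K).map ι
      rw [this]
      simp
    · right
      apply hinj
      have : ((Matrix.SpecialLinearGroup.map ι g : SL(2, F)) : Matrix (Fin 2) (Fin 2) F) = -1 := h
      rw [hcoe] at this
      change (g : Matrix (Fin 2) (Fin 2) K).map ι = _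
      rw [this]
      ext i j
      fin_cases i <;> fin_cases j <;> simp
  · rintro (h | h)
    · left
      rw [h, map_one]
    · right
      change (g : Matrix (Fin 2) (Fin 2) K).map ι = -1
      rw [h]
      ext i j
      fin_cases i <;> fin_cases j <;> simp

/-- The embedding `PSL₂(K) → PSL₂(F)`. -/
noncomputable def pslEmbed : Matrix.ProjectiveSpecialLinearGroup (Fin 2) K →* Matrix.ProjectiveSpecialLinearGroup (Fin 2) F :=
  QuotientGroup.lift _ (slToPsl ι) (le_of_eq (slToPsl_ker ι).symm)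

theorem pslEmbed_injective : Function.Injective (pslEmbed ι) := by
  rw [injective_iff_map_eq_one]
  intro x hx
  obtain ⟨g, rfl⟩ := QuotientGroup.mk_surjective x
  have h : slToPsl ι g = 1 := hx
  rw [← MonoidHom.mem_ker, slToPsl_ker] at h
  exact (QuotientGroup.eq_one_iff _).2 h

include ι in
/-- The subgroup isomorphic to `PSL₂(K)`. -/
theorem exists_psl_subgroup : ∃ H : Subgroup (Matrix.ProjectiveSpecialLinearGroup (Fin 2) F),
    Nonempty (H ≃* Matrix.ProjectiveSpecialLinearGroup (Fin 2) K) :=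
  ⟨(pslEmbed ι).range, ⟨(MonoidHom.ofInjective (pslEmbed_injective ι)).symm⟩⟩

section PGL

variable (hsq : ∀ a : K, a ≠ 0 → IsSquare (ι a))

/-- The lift with a given root of the determinant. -/
noncomputable def pglLift (g : GL (Fin 2) K) (s : F) (hs : s * s = ι (g : Matrix (Fin 2) (Fin 2) K).det) : SL(2, F) :=
  ⟨s⁻¹ • (g : Matrix (Fin 2) (Fin 2) K).map ι, by
    have hdet0 : (g : Matrix (Fin 2) (Fin 2) K).det ≠ 0 := by
      have := (Matrix.isUnit_iff_isUnit_det _).1 g.isUnit
      exact this.ne_zero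
    have hs0 : s ≠ 0 := by
      rintro rfl
      rw [mul_zero] at hs
      exact ι.injective (by rw [map_zero]; exact hs.symm) |> hdet0
    have hd : ((g : Matrix (Fin 2) (Fin 2) K).map ι).det = ι (g : Matrix (Fin 2) (Fin 2) K).det := by
      rw [RingHom.map_det]
      rfl
    rw [Matrix.det_smul, hd, ← hs]
    simp only [Fintype.card_fin]
    field_simp⟩

theorem pglLift_coe (g : GL (Fin 2) K) (s : F) (hs : s * s = ι (g : Matrix (Fin 2) (Fin 2) K).det) :
    (pglLift ι g s hs : Matrix (Fin 2) (Fin 2) F) = s⁻¹ • (g : Matrix (Fin 2) (Fin 2) K).map ι := rfl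

/-- Two lifts with scalar-related data agree in `PSL₂`. -/
theorem mk_eq_of_mul_eq (A B : SL(2, F)) {c : F} (hc : c * c = 1) (h : (A : Matrix (Fin 2) (Fin 2) F) = c • (B : Matrix (Fin 2) (Fin 2) F)) :
    (QuotientGroup.mk A : Matrix.ProjectiveSpecialLinearGroup (Fin 2) F) = QuotientGroup.mk B := by
  rw [QuotientGroup.eq, sl2_center_iff]
  have hc1 : c = 1 ∨ c = -1 := mul_self_eq_one_iff.1 hc
  have hAA : ((A⁻¹ : SL(2, F)) : Matrix (Fin 2) (Fin 2) F) * (A : Matrix (Fin 2) (Fin 2) F) = 1 :=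
    congrArg Subtype.val (inv_mul_cancel A)
  rcases hc1 with rfl | rfl
  · left
    have : A = B := Subtype.ext (by rw [h, one_smul])
    rw [this, inv_mul_cancel]
  · right
    have h2 : (B : Matrix (Fin 2) (Fin 2) F) = - (A : Matrix (Fin 2) (Fin 2) F) := by
      rw [h]
      simp
    change ((A⁻¹ : SL(2, F)) : Matrix (Fin 2) (Fin 2) F) * (B : Matrix (Fin 2) (Fin 2) F) = -1
    rw [h2, Matrix.mul_neg, hAA]

include hsq in
theorem exists_root (g : GL (Fin 2) K) : ∃ s : F, s * s = ι (g : Matrix (Fin 2) (Fin 2) K).det := by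
  have hdet0 : (g : Matrix (Fin 2) (Fin 2) K).det ≠ 0 := ((Matrix.isUnit_iff_isUnit_det _).1 g.isUnit).ne_zero
  obtain ⟨s, hs⟩ := hsq _ hdet0
  exact ⟨s, hs.symm⟩

theorem pglLift_mul (g h : GL (Fin 2) K) (s t u : F) (hs : s * s = ι (g : Matrix (Fin 2) (Fin 2) K).det)
    (ht : t * t = ι (h : Matrix (Fin 2) (Fin 2) K).det) (hu : u * u = ι ((g * h : GL (Fin 2) K) : Matrix (Fin 2) (Fin 2) K).det) :
    (QuotientGroup.mk (pglLift ι (g * h) u hu) : Matrix.ProjectiveSpecialLinearGroup (Fin 2) F) =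
      QuotientGroup.mk (pglLift ι g s hs) * QuotientGroup.mk (pglLift ι h t ht) := by
  have hdet : ι ((g * h : GL (Fin 2) K) : Matrix (Fin 2) (Fin 2) K).det = (s * s) * (t * t) := by
    rw [hs, ht, Matrix.GeneralLinearGroup.coe_mul, Matrix.det_mul, map_mul]
  have hs0 : s ≠ 0 := by
    intro h0
    rw [h0, mul_zero] at hs
    exact ((Matrix.isUnit_iff_isUnit_det _).1 g.isUnit).ne_zero (ι.injective (by rw [map_zero]; exact hs.symm))
  have ht0 : t ≠ 0 := by
    intro h0
    rw [h0, mul_zero] at ht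
    exact ((Matrix.isUnit_iff_isUnit_det _).1 h.isUnit).ne_zero (ι.injective (by rw [map_zero]; exact ht.symm))
  have hu0 : u ≠ 0 := by
    intro h0
    rw [h0, mul_zero, hdet] at hu
    exact mul_ne_zero (mul_ne_zero hs0 hs0) (mul_ne_zero ht0 ht0) hu.symm
  rw [← QuotientGroup.mk_mul]
  apply mk_eq_of_mul_eq _ _ (c := u⁻¹ * s * t)
  · have : u * u = (s * t) * (s * t) := by
      rw [hu, hdet]
      ring
    field_simp
    linear_combination -this
  · rw [Matrix.SpecialLinearGroup.coe_mul, pglLift_coe, pglLift_coe, pglLift_coe, Matrix.GeneralLinearGroup.coe_mul, Matrix.map_mul,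
      Matrix.smul_mul, Matrix.mul_smul, smul_smul, smul_smul]
    congr 1
    field_simp

theorem pglLift_one (s : F) (hs : s * s = ι ((1 : GL (Fin 2) K) : Matrix (Fin 2) (Fin 2) K).det) :
    (QuotientGroup.mk (pglLift ι 1 s hs) : Matrix.ProjectiveSpecialLinearGroup (Fin 2) F) = 1 := by
  have hdet : ι ((1 : GL (Fin 2) K) : Matrix (Fin 2) (Fin 2) K).det = 1 := by simp
  rw [hdet] at hs
  have h0 : s ≠ 0 := by
    rintro h
    rw [h, mul_zero] at hs
    exact zero_ne_one hs
  change _ = QuotientGroup.mk 1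
  apply mk_eq_of_mul_eq _ _ (c := s⁻¹)
  · rw [← mul_inv, hs, inv_one]
  · rw [pglLift_coe]
    congr 1
    ext i j
    fin_cases i <;> fin_cases j <;> simp

/-- The map `GL₂(K) → PSL₂(F)`. -/
noncomputable def glToPsl : GL (Fin 2) K →* Matrix.ProjectiveSpecialLinearGroup (Fin 2) F where
  toFun g := QuotientGroup.mk (pglLift ι g (Classical.choose (exists_root ι hsq g)) (Classical.choose_spec (exists_root ι hsq g)))
  map_one' := pglLift_one ι _ _
  map_mul' g h := pglLift_mul ι g h _ _ _ _ _ _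

theorem pglLift_eq (g : GL (Fin 2) K) (s s' : F) (hs : s * s = ι (g : Matrix (Fin 2) (Fin 2) K).det)
    (hs' : s' * s' = ι (g : Matrix (Fin 2) (Fin 2) K).det) :
    (QuotientGroup.mk (pglLift ι g s' hs') : Matrix.ProjectiveSpecialLinearGroup (Fin 2) F) = QuotientGroup.mk (pglLift ι g s hs) := by
  have hdet0 : (g : Matrix (Fin 2) (Fin 2) K).det ≠ 0 := ((Matrix.isUnit_iff_isUnit_det _).1 g.isUnit).ne_zero
  have hs0 : s ≠ 0 := by
    intro h0
    rw [h0, mul_zero] at hs
    exact hdet0 (ι.injective (by rw [map_zero]; exact hs.symm))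
  have hs'0 : s' ≠ 0 := by
    intro h0
    rw [h0, mul_zero] at hs'
    exact hdet0 (ι.injective (by rw [map_zero]; exact hs'.symm))
  apply mk_eq_of_mul_eq _ _ (c := s * s'⁻¹)
  · have : s' * s' = s * s := by rw [hs, hs']
    field_simp
    linear_combination -this
  · rw [pglLift_coe, pglLift_coe, smul_smul]
    congr 1
    field_simp

theorem glToPsl_apply (g : GL (Fin 2) K) (s : F) (hs : s * s = ι (g : Matrix (Fin 2) (Fin 2) K).det) :
    glToPsl ι hsq g = QuotientGroup.mk (pglLift ι g s hs) :=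
  pglLift_eq ι g s _ hs _

theorem glToPsl_ker : (glToPsl ι hsq).ker = Subgroup.center (GL (Fin 2) K) := by
  ext g
  rw [MonoidHom.mem_ker, Matrix.GeneralLinearGroup.center_eq_range_scalar]
  obtain ⟨s, hs⟩ := exists_root ι hsq g
  rw [glToPsl_apply ι hsq g s hs, QuotientGroup.eq_one_iff, sl2_center_iff]
  have hdet0 : (g : Matrix (Fin 2) (Fin 2) K).det ≠ 0 := ((Matrix.isUnit_iff_isUnit_det _).1 g.isUnit).ne_zero
  have hs0 : s ≠ 0 := by
    intro h0
    rw [h0, mul_zero] at hs
    exact hdet0 (ι.injective (by rw [map_zero]; exact hs.symm))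
  constructor
  · intro h
    have hsc : ∃ c : F, c ≠ 0 ∧ (g : Matrix (Fin 2) (Fin 2) K).map ι = c • 1 := by
      rcases h with h | h
      · refine ⟨s, hs0, ?_⟩
        have h1 : (pglLift ι g s hs : Matrix (Fin 2) (Fin 2) F) = 1 := by rw [h]; rfl
        rw [pglLift_coe] at h1
        rw [← h1, smul_smul, mul_inv_cancel₀ hs0, one_smul]
      · refine ⟨-s, neg_ne_zero.2 hs0, ?_⟩
        rw [pglLift_coe] at h
        rw [neg_smul, ← smul_neg, ← h, smul_smul, mul_inv_cancel₀ hs0, one_smul]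
    obtain ⟨c, hc0, hc⟩ := hsc
    have e01 := congrFun (congrFun hc 0) 1
    have e10 := congrFun (congrFun hc 1) 0
    have e00 := congrFun (congrFun hc 0) 0
    have e11 := congrFun (congrFun hc 1) 1
    simp only [Matrix.map_apply, Matrix.smul_apply, Matrix.one_apply, smul_eq_mul, Fin.isValue] at e01 e10 e00 e11
    simp at e01 e10 e00 e11
    have e3 : (g : Matrix (Fin 2) (Fin 2) K) 0 0 = (g : Matrix (Fin 2) (Fin 2) K) 1 1 := ι.injective (by rw [e00, e11])
    have e4 : (g : Matrix (Fin 2) (Fin 2) K) 0 0 ≠ 0 := by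
      intro h0
      rw [h0, map_zero] at e00
      exact hc0 e00.symm
    refine ⟨Units.mk0 _ e4, ?_⟩
    apply Units.ext
    ext i j
    fin_cases i <;> fin_cases j <;> simp [e01, e10, e3]
  · rintro ⟨u, rfl⟩
    have hmat : ((Matrix.GeneralLinearGroup.scalar (Fin 2) u : GL (Fin 2) K) : Matrix (Fin 2) (Fin 2) K) = (u : K) • 1 := by
      ext i j
      simp [Matrix.GeneralLinearGroup.scalar, Matrix.scalar_apply, Matrix.diagonal_apply, Matrix.one_apply]
    have hss : s * s = (ι u) * (ι u) := by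
      rw [hs, hmat]
      simp [Matrix.det_fin_two]
      ring
    have hu0 : ι (u : K) ≠ 0 := (map_ne_zero ι).2 u.ne_zero
    have hsu : (s - ι u) * (s + ι u) = 0 := by linear_combination hss
    rcases mul_eq_zero.1 hsu with h | h
    · left
      apply Subtype.ext
      rw [pglLift_coe, hmat, sub_eq_zero.1 h]
      ext i j
      fin_cases i <;> fin_cases j <;> simp [hu0]
    · right
      rw [pglLift_coe, hmat, eq_neg_of_add_eq_zero_left h]
      ext i j
      fin_cases i <;> fin_cases j <;> simp [hu0]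

/-- The embedding `PGL₂(K) → PSL₂(F)`. -/
noncomputable def pglEmbed : Matrix.ProjGenLinGroup (Fin 2) K →* Matrix.ProjectiveSpecialLinearGroup (Fin 2) F :=
  QuotientGroup.lift (Subgroup.center (GL (Fin 2) K)) (glToPsl ι hsq) (le_of_eq (glToPsl_ker ι hsq).symm)

theorem pglEmbed_injective : Function.Injective (pglEmbed ι hsq) := by
  rw [injective_iff_map_eq_one]
  intro x hx
  obtain ⟨g, rfl⟩ := Matrix.ProjGenLinGroup.mk_surjective x
  have h : glToPsl ι hsq g = 1 := hx
  rw [← MonoidHom.mem_ker, glToPsl_ker] at h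
  exact Matrix.ProjGenLinGroup.mk_eq_one.2 h

include ι hsq in
theorem exists_pgl_subgroup : ∃ H : Subgroup (Matrix.ProjectiveSpecialLinearGroup (Fin 2) F),
    Nonempty (H ≃* Matrix.ProjGenLinGroup (Fin 2) K) :=
  ⟨(pglEmbed ι hsq).range, ⟨(MonoidHom.ofInjective (pglEmbed_injective ι hsq)).symm⟩⟩

end PGL

theorem geom_sum_mod_two (y : ℕ) (hy : Odd y) (m : ℕ) : (∑ i ∈ Finset.range m, y ^ i) % 2 = m % 2 := by
  induction m with
  | zero => simp
  | succ m ih =>
    rw [Finset.sum_range_succ, Nat.add_mod, ih, Nat.pow_mod, Nat.odd_iff.1 hy]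
    simp

theorem sq_sub_one_nat (r : ℕ) (hr : 1 ≤ r) : r ^ 2 - 1 = (r - 1) * (r + 1) := by
  obtain ⟨t, rfl⟩ : ∃ t, r = t + 1 := ⟨r - 1, by omega⟩
  have : (t + 1) ^ 2 = t * (t + 1 + 1) + 1 := by ring
  simp [this]

theorem geom_mul_aux {r : ℕ} (hr : 2 ≤ r) (m q : ℕ) (hK : r ^ m = q) :
    (∑ i ∈ Finset.range m, (r ^ 2) ^ i) * (r ^ 2 - 1) = q ^ 2 - 1 := by
  have hle1 : 1 ≤ r ^ 2 := Nat.one_le_pow _ _ (by omega)
  have hle2 : 1 ≤ q ^ 2 := by
    rw [← hK]
    exact Nat.one_le_pow _ _ (Nat.pow_pos (by omega))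
  zify [hle1, hle2]
  have := geom_sum_mul ((r : ℤ) ^ 2) m
  rw [← hK]
  push_cast
  rw [this]
  ring

/-- The main statement. -/
theorem subfield_psl_main {K F : Type*} [Field F] [Fintype F] [Field K] [Fintype K] {q : ℕ} (hF : Fintype.card F = q) (hodd : Odd q) (m : ℕ) (hm : 1 ≤ m)
    (hK : Fintype.card K ^ m = q) :
    (∃ H : Subgroup (Matrix.ProjectiveSpecialLinearGroup (Fin 2) F), Nonempty (H ≃* Matrix.ProjectiveSpecialLinearGroup (Fin 2) K)) ∧
    ((∃ H : Subgroup (Matrix.ProjectiveSpecialLinearGroup (Fin 2) F), Nonempty (H ≃* Matrix.ProjGenLinGroup (Fin 2) K)) ↔ Even m) := by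
  classical
  obtain ⟨ι⟩ := exists_ringHom_of_card_pow hm (hK.trans hF.symm)
  refine ⟨exists_psl_subgroup ι, ?_⟩
  set r := Fintype.card K with hr
  have hr2 : 2 ≤ r := Fintype.one_lt_card
  have hrodd : Odd r := by
    rw [← hK] at hodd
    exact (Nat.odd_pow_iff (by omega)).1 hodd
  constructor
  · rintro ⟨H, ⟨e⟩⟩
    by_contra hm'
    have hmo : Odd m := Nat.not_even_iff_odd.1 hm'
    have h1 : Nat.card H ∣ Nat.card (Matrix.ProjectiveSpecialLinearGroup (Fin 2) F) := Subgroup.card_subgroup_dvd_card H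
    rw [Nat.card_congr e.toEquiv, card_PGL_eq_card_SL, card_SL2_eq, ← hr] at h1
    have h2 := card_psl2_odd hF hodd
    obtain ⟨c, hc⟩ := h1
    rw [hc] at h2
    have h3 : (∑ i ∈ Finset.range m, (r ^ 2) ^ i) * (r ^ 2 - 1) = q ^ 2 - 1 := by
      exact geom_mul_aux hr2 m q hK
    have hw := geom_sum_mod_two (r ^ 2) (hrodd.pow) m
    rw [Nat.odd_iff.1 hmo] at hw
    set w := ∑ i ∈ Finset.range m, (r ^ 2) ^ i with hwdef
    have hx : 0 < r ^ 2 - 1 := by
      have : 4 ≤ r ^ 2 := by nlinarith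
      omega
    obtain ⟨m', rfl⟩ : ∃ m', m = m' + 1 := ⟨m - 1, by omega⟩
    have h4 : (r * (r ^ 2 - 1)) * (2 * c) = (r * (r ^ 2 - 1)) * (r ^ m' * w) := by
      have e : q = r * r ^ m' := by rw [← hK]; ring
      calc (r * (r ^ 2 - 1)) * (2 * c) = 2 * (r * (r ^ 2 - 1) * c) := by ring
        _ = q * (q ^ 2 - 1) := h2
        _ = (r * r ^ m') * (w * (r ^ 2 - 1)) := by rw [h3, ← e]
        _ = _ := by ring
    have h5 := Nat.eq_of_mul_eq_mul_left (Nat.mul_pos (by omega) hx) h4
    have h6 : (r ^ m' * w) % 2 = 1 := by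
      rw [Nat.mul_mod, hw, Nat.pow_mod, Nat.odd_iff.1 hrodd]
      simp
    omega
  · rintro ⟨k, rfl⟩
    refine exists_pgl_subgroup ι ?_
    intro a ha
    have hringChar : ringChar F ≠ 2 := by
      intro h
      have h1 := ringChar.Nat.cast_ringChar (R := F)
      rw [h] at h1
      exact two_ne_zero_of_odd (by rwa [hF]) (by exact_mod_cast h1)
    rw [FiniteField.isSquare_iff hringChar ((map_ne_zero ι).2 ha)]
    have hpow : a ^ (r - 1) = 1 := FiniteField.pow_card_sub_one_eq_one a ha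
    have h3 := geom_mul_aux hr2 k (r ^ k) rfl
    obtain ⟨s, hs⟩ : ∃ s, r + 1 = 2 * s := by
      obtain ⟨l, hl⟩ := hrodd
      exact ⟨l + 1, by omega⟩
    have hq : Fintype.card F = r ^ (k + k) := by rw [hF, hK]
    have hq2 : (r ^ k) ^ 2 = r ^ (k + k) := by ring
    have hre : r ^ 2 - 1 = (r - 1) * (r + 1) := sq_sub_one_nat r (by omega)
    set w := ∑ i ∈ Finset.range k, (r ^ 2) ^ i with hwdef
    have e : Fintype.card F / 2 = (r - 1) * (w * s) := by
      have h7 : Fintype.card F - 1 = 2 * ((r - 1) * (w * s)) := by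
        rw [hq, ← hq2, ← h3, hre, hs]
        ring
      have h8 : Fintype.card F = 2 * ((r - 1) * (w * s)) + 1 := by
        have := Fintype.card_pos (α := F)
        omega
      omega
    rw [e, pow_mul, ← map_pow, hpow, map_one, one_pow]

end Cfsg.Agent.Lib.Classical
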