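import Mathlib
import Cfsg.Agent.Lib.Classical.DLine
import Cfsg.Agent.Lib.Classical.SubfieldPSL

/-! Subgroups of `PSL₂(F)` containing enough root elements: Hua's argument. -/

set_option autoImplicit false
set_option linter.unusedSimpArgs false
set_option linter.unusedVariables false
set_option linter.unusedSectionVars false
set_option linter.style.haveILetI false

namespace Cfsg.Agent.Lib.Classical

open Matrix
open scoped MatrixGroups

variable {F : Type*} [Field F]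

/-- Upper unitriangular. -/
def uu (x : F) : SL(2, F) := ⟨!![1, x; 0, 1], by simp [Matrix.det_fin_two]⟩

/-- Lower unitriangular. -/
def ll (y : F) : SL(2, F) := ⟨!![1, 0; y, 1], by simp [Matrix.det_fin_two]⟩

/-- Diagonal. -/
def dg (c : F) (hc : c ≠ 0) : SL(2, F) := ⟨!![c, 0; 0, c⁻¹], by simp [Matrix.det_fin_two, hc]⟩

/-- The Weyl element. -/
def wz : SL(2, F) := ⟨!![0, 1; -1, 0], by simp [Matrix.det_fin_two]⟩

theorem sl_ext {A B : SL(2, F)} (h00 : A.1 0 0 = B.1 0 0) (h01 : A.1 0 1 = B.1 0 1) (h10 : A.1 1 0 = B.1 1 0)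
    (h11 : A.1 1 1 = B.1 1 1) : A = B := by
  apply Subtype.ext
  ext i j
  fin_cases i <;> fin_cases j <;> assumption

theorem sl_det (A : SL(2, F)) : A.1 0 0 * A.1 1 1 - A.1 0 1 * A.1 1 0 = 1 := by
  have := A.2
  rwa [Matrix.det_fin_two] at this

@[simp] theorem uu_00 (x : F) : (uu x).1 0 0 = 1 := rfl
@[simp] theorem uu_01 (x : F) : (uu x).1 0 1 = x := rfl
@[simp] theorem uu_10 (x : F) : (uu x).1 1 0 = 0 := rfl
@[simp] theorem uu_11 (x : F) : (uu x).1 1 1 = 1 := rfl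
@[simp] theorem ll_00 (x : F) : (ll x).1 0 0 = 1 := rfl
@[simp] theorem ll_01 (x : F) : (ll x).1 0 1 = 0 := rfl
@[simp] theorem ll_10 (x : F) : (ll x).1 1 0 = x := rfl
@[simp] theorem ll_11 (x : F) : (ll x).1 1 1 = 1 := rfl
@[simp] theorem dg_00 (c : F) (hc : c ≠ 0) : (dg c hc).1 0 0 = c := rfl
@[simp] theorem dg_01 (c : F) (hc : c ≠ 0) : (dg c hc).1 0 1 = 0 := rfl
@[simp] theorem dg_10 (c : F) (hc : c ≠ 0) : (dg c hc).1 1 0 = 0 := rfl
@[simp] theorem dg_11 (c : F) (hc : c ≠ 0) : (dg c hc).1 1 1 = c⁻¹ := rfl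
@[simp] theorem wz_00 : (wz : SL(2, F)).1 0 0 = 0 := rfl
@[simp] theorem wz_01 : (wz : SL(2, F)).1 0 1 = 1 := rfl
@[simp] theorem wz_10 : (wz : SL(2, F)).1 1 0 = -1 := rfl
@[simp] theorem wz_11 : (wz : SL(2, F)).1 1 1 = 0 := rfl

theorem sl_mul_apply (A B : SL(2, F)) (i j : Fin 2) : (A * B).1 i j = A.1 i 0 * B.1 0 j + A.1 i 1 * B.1 1 j := by
  rw [Matrix.SpecialLinearGroup.coe_mul, Matrix.mul_apply, Fin.sum_univ_two]

theorem sl_inv_00 (A : SL(2, F)) : (A⁻¹).1 0 0 = A.1 1 1 := by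
  rw [Matrix.SpecialLinearGroup.coe_inv, Matrix.adjugate_fin_two]; simp
theorem sl_inv_01 (A : SL(2, F)) : (A⁻¹).1 0 1 = - A.1 0 1 := by
  rw [Matrix.SpecialLinearGroup.coe_inv, Matrix.adjugate_fin_two]; simp
theorem sl_inv_10 (A : SL(2, F)) : (A⁻¹).1 1 0 = - A.1 1 0 := by
  rw [Matrix.SpecialLinearGroup.coe_inv, Matrix.adjugate_fin_two]; simp
theorem sl_inv_11 (A : SL(2, F)) : (A⁻¹).1 1 1 = A.1 0 0 := by
  rw [Matrix.SpecialLinearGroup.coe_inv, Matrix.adjugate_fin_two]; simp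

theorem uu_add (x y : F) : uu (x + y) = uu x * uu y := by
  apply sl_ext <;> simp [sl_mul_apply]; ring

theorem uu_zero : uu (0 : F) = 1 := by
  apply sl_ext <;> simp

theorem uu_neg (x : F) : uu (-x) = (uu x)⁻¹ := by
  rw [eq_inv_iff_mul_eq_one, ← uu_add, neg_add_cancel, uu_zero]

theorem ll_add (x y : F) : ll (x + y) = ll x * ll y := by
  apply sl_ext <;> simp [sl_mul_apply]

theorem ll_zero : ll (0 : F) = 1 := by
  apply sl_ext <;> simp

theorem ll_neg (x : F) : ll (-x) = (ll x)⁻¹ := by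
  rw [eq_inv_iff_mul_eq_one, ← ll_add, neg_add_cancel, ll_zero]

theorem wz_eq : (wz : SL(2, F)) = uu 1 * ll (-1) * uu 1 := by
  apply sl_ext <;> simp [sl_mul_apply]

theorem wz_conj_uu (x : F) : wz * uu x * wz⁻¹ = ll (-x) := by
  rw [mul_inv_eq_iff_eq_mul]
  apply sl_ext <;> simp [sl_mul_apply]

theorem wz_conj_ll (x : F) : wz * ll x * wz⁻¹ = uu (-x) := by
  rw [mul_inv_eq_iff_eq_mul]
  apply sl_ext <;> simp [sl_mul_apply]

theorem dg_conj_uu (c : F) (hc : c ≠ 0) (x : F) : dg c hc * uu x * (dg c hc)⁻¹ = uu (c ^ 2 * x) := by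
  rw [mul_inv_eq_iff_eq_mul]
  apply sl_ext <;> simp [sl_mul_apply] <;> field_simp

/-- A monomial matrix. -/
def mn (c : F) (hc : c ≠ 0) : SL(2, F) := ⟨!![0, -c⁻¹; c, 0], by simp [Matrix.det_fin_two, hc]⟩

@[simp] theorem mn_00 (c : F) (hc : c ≠ 0) : (mn c hc).1 0 0 = 0 := rfl
@[simp] theorem mn_01 (c : F) (hc : c ≠ 0) : (mn c hc).1 0 1 = -c⁻¹ := rfl
@[simp] theorem mn_10 (c : F) (hc : c ≠ 0) : (mn c hc).1 1 0 = c := rfl
@[simp] theorem mn_11 (c : F) (hc : c ≠ 0) : (mn c hc).1 1 1 = 0 := rfl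

/-- The hypotheses for the argument. -/
structure HuaHyp (H : Subgroup (Pe F)) : Prop where
  one : mkP (uu 1) ∈ H
  h1 : ∀ A : SL(2, F), mkP A ∈ H → A.1 1 0 ≠ 0 → mkP (uu (A.1 0 0 / A.1 1 0)) ∈ H
  h2 : ∀ A : SL(2, F), mkP A ∈ H → A.1 1 1 ≠ 0 → mkP (uu (A.1 0 1 / A.1 1 1)) ∈ H
  h3 : ∀ A : SL(2, F), mkP A ∈ H → A.1 0 0 ≠ 0 → mkP (ll (A.1 1 0 / A.1 0 0)) ∈ H
  h4 : ∀ A : SL(2, F), mkP A ∈ H → A.1 0 1 ≠ 0 → mkP (ll (A.1 1 1 / A.1 0 1)) ∈ H

namespace HuaHyp

variable {H : Subgroup (Pe F)} (S : HuaHyp H)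

include S

theorem inv_uu {x : F} (hx : mkP (uu x) ∈ H) (h0 : x ≠ 0) : mkP (ll x⁻¹) ∈ H := by
  have := S.h4 (uu x) hx (by simpa using h0)
  simpa using this

theorem inv_ll {x : F} (hx : mkP (ll x) ∈ H) (h0 : x ≠ 0) : mkP (uu x⁻¹) ∈ H := by
  have := S.h1 (ll x) hx (by simpa using h0)
  simpa using this

theorem uu_add_mem {x y : F} (hx : mkP (uu x) ∈ H) (hy : mkP (uu y) ∈ H) : mkP (uu (x + y)) ∈ H := by
  rw [uu_add, mkP_mul]
  exact H.mul_mem hx hy

theorem uu_neg_mem {x : F} (hx : mkP (uu x) ∈ H) : mkP (uu (-x)) ∈ H := by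
  rw [uu_neg, mkP_inv]
  exact H.inv_mem hx

theorem ll_neg_mem {x : F} (hx : mkP (ll x) ∈ H) : mkP (ll (-x)) ∈ H := by
  rw [ll_neg, mkP_inv]
  exact H.inv_mem hx

theorem uu_zero_mem : mkP (uu (0 : F)) ∈ H := by
  rw [uu_zero]
  exact H.one_mem

theorem ll_one_mem : mkP (ll (1 : F)) ∈ H := by
  have := S.inv_uu S.one one_ne_zero
  simpa using this

theorem wz_mem : mkP (wz : SL(2, F)) ∈ H := by
  rw [wz_eq, mkP_mul, mkP_mul]
  exact H.mul_mem (H.mul_mem S.one (S.ll_neg_mem S.ll_one_mem)) S.one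

theorem ll_of_uu {x : F} (hx : mkP (uu x) ∈ H) : mkP (ll x) ∈ H := by
  have e := wz_conj_uu (-x)
  rw [neg_neg] at e
  rw [← e, mkP_mul, mkP_mul, mkP_inv]
  exact H.mul_mem (H.mul_mem S.wz_mem (S.uu_neg_mem hx)) (H.inv_mem S.wz_mem)

theorem uu_of_ll {x : F} (hx : mkP (ll x) ∈ H) : mkP (uu x) ∈ H := by
  have e := wz_conj_ll (-x)
  rw [neg_neg] at e
  rw [← e, mkP_mul, mkP_mul, mkP_inv]
  exact H.mul_mem (H.mul_mem S.wz_mem (S.ll_neg_mem hx)) (H.inv_mem S.wz_mem)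

theorem uu_inv_mem {x : F} (hx : mkP (uu x) ∈ H) : mkP (uu x⁻¹) ∈ H := by
  by_cases h0 : x = 0
  · rw [h0, _root_.inv_zero]
    exact S.uu_zero_mem
  · exact S.uu_of_ll (S.inv_uu hx h0)

/-- Hua's identity. -/
theorem hua_mem {a b : F} (ha : mkP (uu a) ∈ H) (hb : mkP (uu b) ∈ H) : mkP (uu (a ^ 2 * b)) ∈ H := by
  by_cases ha0 : a = 0
  · simp [ha0]
    exact S.uu_zero_mem
  by_cases hb0 : b = 0
  · simp [hb0]
    exact S.uu_zero_mem
  obtain ⟨c, hc⟩ : ∃ c, c = b⁻¹ - a := ⟨_, rfl⟩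
  have hcm : mkP (uu c) ∈ H := by
    rw [hc, sub_eq_add_neg]
    exact S.uu_add_mem (S.uu_inv_mem hb) (S.uu_neg_mem ha)
  by_cases hc0 : c = 0
  · have e : a ^ 2 * b = a := by
      have : b⁻¹ = a := by rw [hc] at hc0; exact sub_eq_zero.1 hc0
      rw [← this]
      field_simp
    rw [e]
    exact ha
  have hb1 : b * c = 1 - a * b := by
    rw [hc]
    field_simp
  have e : a ^ 2 * b = a + -(a⁻¹ + c⁻¹)⁻¹ := by
    have hc1 : (a⁻¹ + c⁻¹)⁻¹ = a * c * b := by
      apply inv_eq_of_mul_eq_one_right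
      field_simp
      linear_combination hb1
    rw [hc1]
    linear_combination a * hb1
  have e2 : mkP (uu (a⁻¹ + c⁻¹)) ∈ H := S.uu_add_mem (S.uu_inv_mem ha) (S.uu_inv_mem hcm)
  have e3 := S.uu_neg_mem (S.uu_inv_mem e2)
  rw [e]
  exact S.uu_add_mem ha e3

theorem uu_sq_mem {a : F} (ha : mkP (uu a) ∈ H) : mkP (uu (a ^ 2)) ∈ H := by
  have := S.hua_mem ha S.one
  rwa [mul_one] at this

/-- The product, with the characteristic different from two. -/
theorem uu_mul_mem_of_ne {a b : F} (h2 : (2 : F) ≠ 0) (ha : mkP (uu a) ∈ H) (hb : mkP (uu b) ∈ H) : mkP (uu (a * b)) ∈ H := by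
  have e1 : mkP (uu (2 * (a * b))) ∈ H := by
    have e : 2 * (a * b) = (a + b) ^ 2 + -(a ^ 2) + -(b ^ 2) := by ring
    rw [e]
    exact S.uu_add_mem (S.uu_add_mem (S.uu_sq_mem (S.uu_add_mem ha hb)) (S.uu_neg_mem (S.uu_sq_mem ha))) (S.uu_neg_mem (S.uu_sq_mem hb))
  have h2m : mkP (uu (2 : F)) ∈ H := by
    have : (2 : F) = 1 + 1 := by norm_num
    rw [this]
    exact S.uu_add_mem S.one S.one
  have e2 := S.hua_mem (S.uu_inv_mem h2m) e1
  have e3 : (2 : F)⁻¹ ^ 2 * (2 * (a * b)) + (2 : F)⁻¹ ^ 2 * (2 * (a * b)) = a * b := by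
    field_simp
    ring
  rw [← e3]
  exact S.uu_add_mem e2 e2

/-- The product in characteristic two. -/
theorem uu_mul_mem_of_eq [Finite F] {a b : F} (h2 : (2 : F) = 0) (ha : mkP (uu a) ∈ H) (hb : mkP (uu b) ∈ H) : mkP (uu (a * b)) ∈ H := by
  let f : {x : F // mkP (uu x) ∈ H} → {x : F // mkP (uu x) ∈ H} := fun x => ⟨x.1 ^ 2, S.uu_sq_mem x.2⟩
  have hf : Function.Injective f := by
    intro x y hxy
    apply Subtype.ext
    have e : x.1 ^ 2 = y.1 ^ 2 := congrArg Subtype.val hxy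
    have e2 : (x.1 - y.1) ^ 2 = 0 := by
      linear_combination e + (y.1 ^ 2 - x.1 * y.1) * h2
    have := pow_eq_zero_iff (two_ne_zero) |>.1 e2
    exact sub_eq_zero.1 this
  obtain ⟨s, hs⟩ := (Finite.injective_iff_surjective.1 hf) ⟨a, ha⟩
  have e : s.1 ^ 2 = a := congrArg Subtype.val hs
  rw [← e]
  exact S.hua_mem s.2 hb

theorem uu_mul_mem [Finite F] {a b : F} (ha : mkP (uu a) ∈ H) (hb : mkP (uu b) ∈ H) : mkP (uu (a * b)) ∈ H := by
  by_cases h2 : (2 : F) = 0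
  · exact S.uu_mul_mem_of_eq h2 ha hb
  · exact S.uu_mul_mem_of_ne h2 ha hb

/-- The subfield of root parameters. -/
def fld [Finite F] : Subfield F where
  carrier := {x | mkP (uu x) ∈ H}
  mul_mem' := fun ha hb => S.uu_mul_mem ha hb
  one_mem' := S.one
  add_mem' := fun ha hb => S.uu_add_mem ha hb
  zero_mem' := S.uu_zero_mem
  neg_mem' := fun ha => S.uu_neg_mem ha
  inv_mem' := fun x ha => S.uu_inv_mem ha

theorem mem_fld [Finite F] {x : F} : x ∈ S.fld ↔ mkP (uu x) ∈ H := Iff.rfl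

variable [Finite F]

/-- Matrices over the subfield lie in the subgroup. -/
theorem mem_of_entries {A : SL(2, F)} (h00 : A.1 0 0 ∈ S.fld) (h01 : A.1 0 1 ∈ S.fld) (h10 : A.1 1 0 ∈ S.fld)
    (h11 : A.1 1 1 ∈ S.fld) : mkP A ∈ H := by
  have key : ∀ B : SL(2, F), B.1 0 0 ∈ S.fld → B.1 1 0 ∈ S.fld → B.1 1 1 ∈ S.fld → B.1 1 0 ≠ 0 → mkP B ∈ H := by
    intro B h00 h10 h11 h0
    have e : B = uu ((B.1 0 0 - 1) / B.1 1 0) * ll (B.1 1 0) * uu ((B.1 1 1 - 1) / B.1 1 0) := by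
      have hd := sl_det B
      apply sl_ext <;> simp [sl_mul_apply] <;> field_simp <;> grind
    rw [e, mkP_mul, mkP_mul]
    refine H.mul_mem (H.mul_mem ?_ ?_) ?_
    · exact S.fld.div_mem (S.fld.sub_mem h00 S.fld.one_mem) h10
    · exact S.ll_of_uu h10
    · exact S.fld.div_mem (S.fld.sub_mem h11 S.fld.one_mem) h10
  by_cases h0 : A.1 1 0 = 0
  · have hd := sl_det A
    have ha0 : A.1 0 0 ≠ 0 := by
      intro h
      rw [h, h0] at hd
      simp at hd
    have e1 : mkP (ll 1 * A) ∈ H := by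
      apply key
      · simpa [sl_mul_apply] using h00
      · simpa [sl_mul_apply, h0] using h00
      · simpa [sl_mul_apply] using S.fld.add_mem h01 h11
      · simpa [sl_mul_apply, h0] using ha0
    rw [mkP_mul] at e1
    have e2 := H.mul_mem (H.inv_mem S.ll_one_mem) e1
    rwa [inv_mul_cancel_left] at e2
  · exact key A h00 h10 h11 h0

/-- Every element of the subgroup has a lift which is a scalar multiple of a matrix over the subfield. -/
theorem exists_scalar_aux {A : SL(2, F)} (hA : mkP A ∈ H) (h0 : A.1 1 0 ≠ 0) :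
    ∃ c : F, c ≠ 0 ∧ c * A.1 0 0 ∈ S.fld ∧ c * A.1 0 1 ∈ S.fld ∧ c * A.1 1 0 ∈ S.fld ∧ c * A.1 1 1 ∈ S.fld := by
  have hd := sl_det A
  set α := A.1 0 0 with hα
  set β := A.1 0 1 with hβ
  set γ := A.1 1 0 with hγ
  set δ := A.1 1 1 with hδ
  have ha : α / γ ∈ S.fld := S.h1 A hA h0
  have hinv := S.h1 A⁻¹ (by rw [mkP_inv]; exact H.inv_mem hA) (by rw [sl_inv_10]; exact neg_ne_zero.2 h0)
  rw [sl_inv_10, sl_inv_00] at hinv
  have hd' : δ / γ ∈ S.fld := by
    have e : δ / γ = -(A.1 1 1 / -A.1 1 0) := by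
      rw [div_neg, neg_neg]
    rw [e]
    exact S.fld.neg_mem hinv
  set a := α / γ with haa
  set d := δ / γ with hdd
  -- the monomial element
  have hm : uu (-a) * A * uu (-d) = mn γ h0 := by
    apply sl_ext
    · simp [sl_mul_apply, ← hα, ← hγ, ← hδ, ← hβ, haa]
      field_simp
      ring
    · simp [sl_mul_apply, ← hα, ← hγ, ← hδ, ← hβ, haa, hdd]
      field_simp
      linear_combination -hd
    · simp [sl_mul_apply, ← hα, ← hγ, ← hδ, ← hβ, haa]
    · simp [sl_mul_apply, ← hα, ← hγ, ← hδ, ← hβ, hdd]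
      field_simp
      ring
  have hmem : mkP (uu (-a) * A * uu (-d)) ∈ H :=
    H.mul_mem (H.mul_mem (S.fld.neg_mem ha) hA) (S.fld.neg_mem hd')
  have hdg : wz * (uu (-a) * A * uu (-d)) = dg γ h0 := by
    rw [hm]
    apply sl_ext <;> simp [sl_mul_apply]
  have hdgm : mkP (dg γ h0) ∈ H := by
    rw [← hdg, mkP_mul]
    exact H.mul_mem S.wz_mem hmem
  have hsq : γ ^ 2 ∈ S.fld := by
    have e := dg_conj_uu γ h0 1
    rw [mul_one] at e
    rw [S.mem_fld, ← e, mkP_mul, mkP_mul, mkP_inv]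
    exact H.mul_mem (H.mul_mem hdgm S.one) (H.inv_mem hdgm)
  refine ⟨γ⁻¹, inv_ne_zero h0, ?_, ?_, ?_, ?_⟩
  · rw [haa] at ha
    rwa [div_eq_inv_mul] at ha
  · have e : γ⁻¹ * β = a * d - (γ ^ 2)⁻¹ := by
      rw [haa, hdd]
      field_simp
      linear_combination -hd
    rw [e]
    exact S.fld.sub_mem (S.fld.mul_mem ha hd') (S.fld.inv_mem hsq)
  · rw [inv_mul_cancel₀ h0]
    exact S.fld.one_mem
  · rw [hdd] at hd'
    rwa [div_eq_inv_mul] at hd'

theorem exists_scalar {A : SL(2, F)} (hA : mkP A ∈ H) :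
    ∃ c : F, c ≠ 0 ∧ c * A.1 0 0 ∈ S.fld ∧ c * A.1 0 1 ∈ S.fld ∧ c * A.1 1 0 ∈ S.fld ∧ c * A.1 1 1 ∈ S.fld := by
  by_cases h0 : A.1 1 0 = 0
  · have hd := sl_det A
    have ha0 : A.1 0 0 ≠ 0 := by
      intro h
      rw [h, h0] at hd
      simp at hd
    have hB : mkP (ll 1 * A) ∈ H := by
      rw [mkP_mul]
      exact H.mul_mem S.ll_one_mem hA
    obtain ⟨c, hc, h1, h2, h3, h4⟩ := S.exists_scalar_aux hB (by simpa [sl_mul_apply, h0] using ha0)
    simp [sl_mul_apply, h0] at h1 h2 h3 h4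
    refine ⟨c, hc, h1, h2, ?_, ?_⟩
    · rw [h0, mul_zero]
      exact S.fld.zero_mem
    · have e : c * A.1 1 1 = c * (A.1 0 1 + A.1 1 1) - c * A.1 0 1 := by ring
      rw [e]
      exact S.fld.sub_mem h4 h2
  · exact S.exists_scalar_aux hA h0

/-- The subfield subgroup is contained in the given one. -/
theorem psl_range_le : (pslEmbed S.fld.subtype).range ≤ H := by
  rintro _ ⟨x, rfl⟩
  obtain ⟨A, rfl⟩ := mkP_surj x
  change mkP (Matrix.SpecialLinearGroup.map S.fld.subtype A) ∈ H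
  apply S.mem_of_entries <;> exact (A.1 _ _).2

/-- A matrix over the subfield from its entries. -/
def toK (A : SL(2, F)) (c : F) (h00 : c * A.1 0 0 ∈ S.fld) (h01 : c * A.1 0 1 ∈ S.fld) (h10 : c * A.1 1 0 ∈ S.fld)
    (h11 : c * A.1 1 1 ∈ S.fld) : Matrix (Fin 2) (Fin 2) S.fld :=
  !![⟨_, h00⟩, ⟨_, h01⟩; ⟨_, h10⟩, ⟨_, h11⟩]

theorem toK_det (A : SL(2, F)) (c : F) (h00 : c * A.1 0 0 ∈ S.fld) (h01 : c * A.1 0 1 ∈ S.fld) (h10 : c * A.1 1 0 ∈ S.fld)
    (h11 : c * A.1 1 1 ∈ S.fld) : (((S.toK A c h00 h01 h10 h11).det : S.fld) : F) = c * c := by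
  have := sl_det A
  simp [toK, Matrix.det_fin_two]
  linear_combination c * c * this

theorem toK_map (A : SL(2, F)) (c : F) (h00 : c * A.1 0 0 ∈ S.fld) (h01 : c * A.1 0 1 ∈ S.fld) (h10 : c * A.1 1 0 ∈ S.fld)
    (h11 : c * A.1 1 1 ∈ S.fld) : (S.toK A c h00 h01 h10 h11).map S.fld.subtype = c • A.1 := by
  ext i j
  fin_cases i <;> fin_cases j <;> simp [toK]

/-- Main theorem of this section. -/
theorem hua_main : (H = (pslEmbed S.fld.subtype).range) ∨ ∃ hsq : (∀ a : S.fld, a ≠ 0 → IsSquare (S.fld.subtype a)),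
    H = (pglEmbed S.fld.subtype hsq).range := by
  classical
  by_cases hall : ∀ (A : SL(2, F)) (c : F), mkP A ∈ H → c ≠ 0 → c * A.1 0 0 ∈ S.fld → c * A.1 0 1 ∈ S.fld → c * A.1 1 0 ∈ S.fld →
      c * A.1 1 1 ∈ S.fld → c ∈ S.fld
  · left
    apply le_antisymm _ S.psl_range_le
    intro x hx
    obtain ⟨A, rfl⟩ := mkP_surj x
    obtain ⟨c, hc, h00, h01, h10, h11⟩ := S.exists_scalar hx
    have hcK := hall A c hx hc h00 h01 h10 h11
    have hcK' : c⁻¹ ∈ S.fld := S.fld.inv_mem hcK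
    have e : ∀ y : F, c * y ∈ S.fld → y ∈ S.fld := by
      intro y hy
      have := S.fld.mul_mem hcK' hy
      rwa [inv_mul_cancel_left₀ hc] at this
    let M : Matrix (Fin 2) (Fin 2) S.fld := !![⟨_, e _ h00⟩, ⟨_, e _ h01⟩; ⟨_, e _ h10⟩, ⟨_, e _ h11⟩]
    have hM : M.map S.fld.subtype = A.1 := by
      ext i j
      fin_cases i <;> fin_cases j <;> simp [M]
    have hdet : M.det = 1 := by
      apply S.fld.subtype_injective
      have := sl_det A
      simp [M, Matrix.det_fin_two]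
      exact this
    refine ⟨mkP ⟨M, hdet⟩, ?_⟩
    change mkP (Matrix.SpecialLinearGroup.map S.fld.subtype ⟨M, hdet⟩) = mkP A
    congr 1
    exact Subtype.ext hM
  · right
    push Not at hall
    obtain ⟨A₀, c₀, hA₀, hc₀, a00, a01, a10, a11, hc₀K⟩ := hall
    set n := (S.toK A₀ c₀ a00 a01 a10 a11).det with hn
    have hnc : ((n : S.fld) : F) = c₀ * c₀ := S.toK_det _ _ _ _ _ _
    have hn0 : n ≠ 0 := by
      intro h
      rw [h] at hnc
      have : c₀ * c₀ = 0 := by simpa using hnc.symm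
      exact hc₀ (mul_self_eq_zero.1 this)
    have hnsq : ¬ IsSquare n := by
      rintro ⟨s, hs⟩
      apply hc₀K
      have h1 : (c₀ - s) * (c₀ + s) = 0 := by
        have : ((n : S.fld) : F) = (s : F) * (s : F) := by rw [hs]; rfl
        rw [hnc] at this
        linear_combination this
      rcases mul_eq_zero.1 h1 with h2 | h2
      · rw [sub_eq_zero.1 h2]
        exact s.2
      · rw [eq_neg_of_add_eq_zero_left h2]
        exact S.fld.neg_mem s.2
    haveI : Fintype S.fld := Fintype.ofFinite _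
    have hmulsq : ∀ a : S.fld, ¬ IsSquare a → IsSquare (a * n) := by
      intro a ha
      have h1 := quadraticChar_neg_one_iff_not_isSquare.2 ha
      have h2 := quadraticChar_neg_one_iff_not_isSquare.2 hnsq
      have h3 : quadraticChar S.fld (a * n) = 1 := by
        rw [map_mul, h1, h2]
        norm_num
      exact (quadraticChar_one_iff_isSquare (mul_ne_zero (by
        rintro rfl
        exact ha (IsSquare.zero)) hn0)).1 h3
    have hsq : ∀ a : S.fld, a ≠ 0 → IsSquare (S.fld.subtype a) := by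
      intro a ha
      by_cases h1 : IsSquare a
      · exact h1.map S.fld.subtype
      · obtain ⟨t, ht⟩ := hmulsq a h1
        refine ⟨(t : F) * c₀⁻¹, ?_⟩
        have e1 : (a : F) * (c₀ * c₀) = (t : F) * (t : F) := by
          rw [← hnc]
          have := congrArg (S.fld.subtype) ht
          simpa using this
        change (a : F) = _
        field_simp
        linear_combination e1
    refine ⟨hsq, ?_⟩
    have hg0 : ∀ (A : SL(2, F)) (c : F) (hc : c ≠ 0) (h00 : c * A.1 0 0 ∈ S.fld) (h01 : c * A.1 0 1 ∈ S.fld)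
        (h10 : c * A.1 1 0 ∈ S.fld) (h11 : c * A.1 1 1 ∈ S.fld),
        ∃ g : GL (Fin 2) S.fld, (g : Matrix (Fin 2) (Fin 2) S.fld).det = (S.toK A c h00 h01 h10 h11).det ∧ glToPsl S.fld.subtype hsq g = mkP A := by
      intro A c hc h00 h01 h10 h11
      have hdet : (S.toK A c h00 h01 h10 h11).det ≠ 0 := by
        intro h
        have := S.toK_det A c h00 h01 h10 h11
        rw [h] at this
        have h2 : c * c = 0 := by simpa using this.symm
        exact hc (mul_self_eq_zero.1 h2)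
      let g : GL (Fin 2) S.fld := Matrix.GeneralLinearGroup.mkOfDetNeZero _ hdet
      have hs : c * c = S.fld.subtype ((g : Matrix (Fin 2) (Fin 2) S.fld).det) := (S.toK_det A c h00 h01 h10 h11).symm
      refine ⟨g, rfl, ?_⟩
      rw [glToPsl_apply S.fld.subtype hsq g c hs]
      congr 1
      apply Subtype.ext
      rw [pglLift_coe]
      have : (g : Matrix (Fin 2) (Fin 2) S.fld).map S.fld.subtype = c • A.1 := S.toK_map A c h00 h01 h10 h11
      rw [this, smul_smul, inv_mul_cancel₀ hc, one_smul]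
    obtain ⟨g₀, hg₀d, hg₀⟩ := hg0 A₀ c₀ hc₀ a00 a01 a10 a11
    have hsqc : ∀ g : GL (Fin 2) S.fld, IsSquare ((g : Matrix (Fin 2) (Fin 2) S.fld).det) → glToPsl S.fld.subtype hsq g ∈ H := by
      intro g ⟨s, hs⟩
      have hdet0 : (g : Matrix (Fin 2) (Fin 2) S.fld).det ≠ 0 := ((Matrix.isUnit_iff_isUnit_det _).1 g.isUnit).ne_zero
      have hs0 : s ≠ 0 := by
        rintro rfl
        rw [mul_zero] at hs
        exact hdet0 hs
      have hs' : (S.fld.subtype s) * (S.fld.subtype s) = S.fld.subtype ((g : Matrix (Fin 2) (Fin 2) S.fld).det) := by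
        rw [hs, map_mul]
      rw [glToPsl_apply S.fld.subtype hsq g _ hs']
      have hcoe : ∀ i j, ((pglLift S.fld.subtype g _ hs') : Matrix (Fin 2) (Fin 2) F) i j = ((s⁻¹ * (g : Matrix (Fin 2) (Fin 2) S.fld) i j : S.fld) : F) := by
        intro i j
        rw [pglLift_coe]
        simp
      apply S.mem_of_entries <;> rw [hcoe] <;> exact SetLike.coe_mem _
    apply le_antisymm
    · intro x hx
      obtain ⟨A, rfl⟩ := mkP_surj x
      obtain ⟨c, hc, h00, h01, h10, h11⟩ := S.exists_scalar hx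
      obtain ⟨g, -, hg⟩ := hg0 A c hc h00 h01 h10 h11
      exact ⟨Matrix.ProjGenLinGroup.mk g, hg⟩
    · rintro _ ⟨x, rfl⟩
      obtain ⟨g, rfl⟩ := Matrix.ProjGenLinGroup.mk_surjective x
      change glToPsl S.fld.subtype hsq g ∈ H
      by_cases h1 : IsSquare ((g : Matrix (Fin 2) (Fin 2) S.fld).det)
      · exact hsqc g h1
      · have h2 := hmulsq _ h1
        have h3 : glToPsl S.fld.subtype hsq (g * g₀) ∈ H := by
          apply hsqc
          rw [Matrix.GeneralLinearGroup.coe_mul, Matrix.det_mul, hg₀d]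
          exact h2
        rw [map_mul, hg₀] at h3
        have h4 := H.mul_mem h3 (H.inv_mem hA₀)
        rwa [mul_inv_cancel_right] at h4

end HuaHyp

end Cfsg.Agent.Lib.Classical
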