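import Mathlib
import Cfsg.Agent.Lib.Classical.DHua

/-! Transfer of Dickson's case distinction from the algebraic closure to the base field. -/

set_option autoImplicit false
set_option linter.unusedSimpArgs false
set_option linter.unusedVariables false
set_option linter.unusedSectionVars false
set_option linter.style.haveILetI false

namespace Cfsg.Agent.Lib.Classical

open Matrix MulAction Projectivization
open scoped MatrixGroups LinearAlgebra.Projectivization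

variable {F E : Type*} [Field F] [Field E] (ι : F →+* E)

/-- The map on vectors. -/
def vecMap : (Fin 2 → F) →ₛₗ[ι] (Fin 2 → E) where
  toFun v := fun i => ι (v i)
  map_add' := by intros; ext i; simp
  map_smul' := by intros; ext i; simp

theorem vecMap_apply (v : Fin 2 → F) (i : Fin 2) : vecMap ι v i = ι (v i) := rfl

theorem vecMap_injective : Function.Injective (vecMap ι) := by
  intro u v h
  ext i
  exact ι.injective (congrFun h i)

/-- The map on the projective line. -/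
def jP : ℙ F (Fin 2 → F) → ℙ E (Fin 2 → E) := Projectivization.map (vecMap ι) (vecMap_injective ι)

theorem vecMap_ne {v : Fin 2 → F} (hv : v ≠ 0) : vecMap ι v ≠ 0 := by
  intro h
  apply hv
  apply vecMap_injective ι
  rw [h, map_zero]

theorem jP_mk {v : Fin 2 → F} (hv : v ≠ 0) : jP ι (mk F v hv) = mk E (vecMap ι v) (vecMap_ne ι hv) := rfl

theorem dt_map (u v : Fin 2 → F) : dt (vecMap ι u) (vecMap ι v) = ι (dt u v) := by
  simp [dt, vecMap_apply]

theorem jP_inj : Function.Injective (jP ι) := by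
  intro x y h
  induction x using Projectivization.ind with | _ u hu =>
  induction y using Projectivization.ind with | _ v hv =>
  rw [jP_mk, jP_mk, mk_eq_mk_iff_dt, dt_map] at h
  rw [mk_eq_mk_iff_dt]
  exact ι.injective (by rw [h, map_zero])

theorem map_mulVec_vecMap (A : SL(2, F)) (v : Fin 2 → F) :
    ((Matrix.SpecialLinearGroup.map ι A : SL(2, E)) : Matrix (Fin 2) (Fin 2) E) *ᵥ (vecMap ι v) = vecMap ι ((A : Matrix (Fin 2) (Fin 2) F) *ᵥ v) := by
  ext i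
  fin_cases i <;> simp [vecMap_apply, Matrix.mulVec, dotProduct, Fin.sum_univ_two]

theorem pslEmbed_mkP (A : SL(2, F)) : pslEmbed ι (mkP A) = mkP (Matrix.SpecialLinearGroup.map ι A) := rfl

theorem jP_smul (g : Pe F) (x : ℙ F (Fin 2 → F)) : pslEmbed ι g • jP ι x = jP ι (g • x) := by
  obtain ⟨A, rfl⟩ := mkP_surj g
  induction x using Projectivization.ind with | _ v hv =>
  obtain ⟨h1, e1⟩ := mkP_smul_mk A hv
  rw [e1, jP_mk, jP_mk, pslEmbed_mkP]
  obtain ⟨h2, e2⟩ := mkP_smul_mk (Matrix.SpecialLinearGroup.map ι A) (vecMap_ne ι hv)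
  rw [e2]
  congr 1
  exact map_mulVec_vecMap ι A v

section CharP

variable (p : ℕ) [hp : Fact p.Prime] [CharP F p]

/-- Elements of `p`-power order have rational eigenvectors. -/
theorem exists_eigvec_of_pow (A : SL(2, F)) (h : mkP A ^ p = 1) :
    ∃ (v : Fin 2 → F) (e : F), v ≠ 0 ∧ (A : Matrix (Fin 2) (Fin 2) F) *ᵥ v = e • v := by
  let E' := AlgebraicClosure F
  let j : F →+* E' := algebraMap F E'
  haveI : CharP E' p := charP_of_injective_algebraMap j.injective p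
  obtain ⟨v, l, hv0, hv⟩ := exists_eigvec (Matrix.SpecialLinearGroup.map j A)
  have h1 : mkP (Matrix.SpecialLinearGroup.map j A) ^ p = 1 := by
    rw [← pslEmbed_mkP, ← map_pow, h, map_one]
  have h2 := (pow_char_iff p _ hv0 hv).1 h1
  have h3 : (l - 1) * (l + 1) = 0 := by linear_combination h2
  obtain ⟨e, he⟩ : ∃ e : F, j e = l := by
    rcases mul_eq_zero.1 h3 with h4 | h4
    · exact ⟨1, by rw [map_one, sub_eq_zero.1 h4]⟩
    · exact ⟨-1, by rw [map_neg, map_one, eq_neg_of_add_eq_zero_left h4]⟩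
  have h5 : ((Matrix.SpecialLinearGroup.map j A : SL(2, E')) : Matrix (Fin 2) (Fin 2) E') - l • 1 = ((A : Matrix (Fin 2) (Fin 2) F) - e • 1).map j := by
    ext i k
    fin_cases i <;> fin_cases k <;> simp [he, j]
  have h6 : (((Matrix.SpecialLinearGroup.map j A : SL(2, E')) : Matrix (Fin 2) (Fin 2) E') - l • 1).det = 0 := by
    apply Matrix.exists_mulVec_eq_zero_iff.1
    refine ⟨v, hv0, ?_⟩
    rw [Matrix.sub_mulVec, Matrix.smul_mulVec, Matrix.one_mulVec, hv, sub_self]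
  rw [h5] at h6
  have h7 : ((A : Matrix (Fin 2) (Fin 2) F) - e • 1).det = 0 := by
    apply j.injective
    rw [map_zero, RingHom.map_det]
    exact h6
  obtain ⟨w, hw, e2⟩ := Matrix.exists_mulVec_eq_zero_iff.2 h7
  refine ⟨w, e, hw, ?_⟩
  rw [Matrix.sub_mulVec, Matrix.smul_mulVec, Matrix.one_mulVec] at e2
  exact sub_eq_zero.1 e2

/-- The main case distinction over `F`. -/
theorem dickson_cases [Finite F] (H : Subgroup (Pe F)) :
    ((∀ g : H, g ≠ 1 → g ^ p ≠ 1) ∧ (IsCyclic H ∨ Nonempty (H ≃* alternatingGroup (Fin 4)) ∨ Nonempty (H ≃* Equiv.Perm (Fin 4)))) ∨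
    ((p = 2 ∨ ∀ g : H, g ≠ 1 → g ^ p ≠ 1) ∧ ∃ (c : ℕ) (ρ : H), 2 ≤ c ∧ orderOf ρ = c ∧ ρ ^ p ≠ 1 ∧ Nonempty (H ≃* DihedralGroup c)) ∨
    ((p = 3 ∨ ∀ g : H, g ≠ 1 → g ^ p ≠ 1) ∧ Nonempty (H ≃* alternatingGroup (Fin 5))) ∨
    ((∃ g : H, g ≠ 1 ∧ g ^ p = 1) ∧ ∃ a : ℙ F (Fin 2 → F), ∀ g : H, g • a = a) ∨
    (∃ (a b : ℙ F (Fin 2 → F)), a ∈ DGeom.Om H (ℙ F (Fin 2 → F)) p ∧ b ∈ DGeom.Om H (ℙ F (Fin 2 → F)) p ∧ a ≠ b ∧
      ∀ x ∈ DGeom.Om H (ℙ F (Fin 2 → F)) p, ∀ y ∈ DGeom.Om H (ℙ F (Fin 2 → F)) p, ∀ z ∈ DGeom.Om H (ℙ F (Fin 2 → F)) p, y ≠ x → z ≠ x →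
      ∃ u : H, u ^ p = 1 ∧ u • x = x ∧ u • y = z) := by
  classical
  let E' := AlgebraicClosure F
  let j : F →+* E' := algebraMap F E'
  haveI : CharP E' p := charP_of_injective_algebraMap j.injective p
  let HE : Subgroup (Pe E') := H.map (pslEmbed j)
  let e : H ≃* HE := H.equivMapOfInjective (pslEmbed j) (pslEmbed_injective j)
  haveI : Finite H := inferInstance
  haveI : Finite HE := Finite.of_equiv H e.toEquiv
  have D : DGeom HE (ℙ E' (Fin 2 → E')) p := dgeom_sub p HE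
  have he : ∀ g : H, ((e g : HE) : Pe E') = pslEmbed j (g : Pe F) := fun g => rfl
  have hsm : ∀ (g : H) (x : ℙ F (Fin 2 → F)), (e g) • (jP j x) = jP j (g • x) := fun g x => jP_smul j (g : Pe F) x
  have hp1 : ∀ g : H, (e g) ^ p = 1 ↔ g ^ p = 1 := by
    intro g
    rw [← map_pow, map_eq_one_iff e e.injective]
  have hne : ∀ g : H, (e g) ≠ 1 ↔ g ≠ 1 := by
    intro g
    rw [Ne, map_eq_one_iff e e.injective]
  have hOm : ∀ x : ℙ E' (Fin 2 → E'), x ∈ DGeom.Om HE (ℙ E' (Fin 2 → E')) p → ∃ x₀ ∈ DGeom.Om H (ℙ F (Fin 2 → F)) p, x = jP j x₀ := by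
    rintro x ⟨g, hg1, hgx, hgp⟩
    obtain ⟨g₀, rfl⟩ := e.surjective g
    obtain ⟨A, hA⟩ := mkP_surj (g₀ : Pe F)
    have hAp : mkP A ^ p = 1 := by
      rw [hA]
      have := (hp1 g₀).1 hgp
      simpa using congrArg Subtype.val this
    obtain ⟨v, c, hv, hvc⟩ := exists_eigvec_of_pow p A hAp
    have hfix : g₀ • mk F v hv = mk F v hv := by
      change (g₀ : Pe F) • mk F v hv = mk F v hv
      rw [← hA, mkP_fix_iff]
      exact ⟨c, hvc⟩
    refine ⟨mk F v hv, ⟨g₀, (hne g₀).1 hg1, hfix, (hp1 g₀).1 hgp⟩, ?_⟩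
    obtain ⟨a, ha⟩ := D.uni_fix (X := ℙ E' (Fin 2 → E')) hg1 hgp
    rw [(ha x).1 hgx]
    symm
    apply (ha _).1
    rw [hsm, hfix]
  have hOm' : ∀ x₀ ∈ DGeom.Om H (ℙ F (Fin 2 → F)) p, jP j x₀ ∈ DGeom.Om HE (ℙ E' (Fin 2 → E')) p := by
    rintro x₀ ⟨g, hg1, hgx, hgp⟩
    exact ⟨e g, (hne g).2 hg1, by rw [hsm, hgx], (hp1 g).2 hgp⟩
  have hnoP : (∀ g : HE, g ≠ 1 → g ^ p ≠ 1) → ∀ g : H, g ≠ 1 → g ^ p ≠ 1 := by
    intro h g h1 h2
    exact h (e g) ((hne g).2 h1) ((hp1 g).2 h2)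
  rcases D.main with ⟨h1, h2⟩ | ⟨h1, c, ρ, hc, hρ, hρp, ⟨h2⟩⟩ | ⟨h1, ⟨h2⟩⟩ | ⟨⟨g, hg1, hgp⟩, a, ha⟩ | ⟨a, b, ha, hb, hab, htr⟩
  · left
    refine ⟨hnoP h1, ?_⟩
    rcases h2 with h2 | ⟨⟨h2⟩⟩ | ⟨⟨h2⟩⟩
    · left
      exact isCyclic_of_surjective e.symm e.symm.surjective
    · right; left
      exact ⟨e.trans h2⟩
    · right; right
      exact ⟨e.trans h2⟩
  · right; left
    obtain ⟨ρ₀, rfl⟩ := e.surjective ρ
    refine ⟨h1.imp id hnoP, c, ρ₀, hc, ?_, ?_, ⟨e.trans h2⟩⟩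
    · rw [← hρ, MulEquiv.orderOf_eq]
    · intro h
      exact hρp ((hp1 ρ₀).2 h)
  · right; right; left
    exact ⟨h1.imp id hnoP, ⟨e.trans h2⟩⟩
  · right; right; right; left
    obtain ⟨g₀, rfl⟩ := e.surjective g
    refine ⟨⟨g₀, (hne g₀).1 hg1, (hp1 g₀).1 hgp⟩, ?_⟩
    have hO : a ∈ DGeom.Om HE (ℙ E' (Fin 2 → E')) p := ⟨e g₀, hg1, ha _, hgp⟩
    obtain ⟨a₀, -, rfl⟩ := hOm a hO
    refine ⟨a₀, fun g => ?_⟩
    apply jP_inj j
    rw [← hsm]
    exact ha _
  · right; right; right; right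
    obtain ⟨a₀, ha₀, rfl⟩ := hOm a ha
    obtain ⟨b₀, hb₀, rfl⟩ := hOm b hb
    refine ⟨a₀, b₀, ha₀, hb₀, fun h => hab (by rw [h]), ?_⟩
    intro x hx y hy z hz hyx hzx
    obtain ⟨u, hup, hux, huy⟩ := htr _ (hOm' x hx) _ (hOm' y hy) _ (hOm' z hz) (fun h => hyx (jP_inj j h)) (fun h => hzx (jP_inj j h))
    obtain ⟨u₀, rfl⟩ := e.surjective u
    refine ⟨u₀, (hp1 u₀).1 hup, ?_, ?_⟩
    · apply jP_inj j
      rw [← hsm, hux]
    · apply jP_inj j
      rw [← hsm, huy]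

/-- Order of semisimple elements. -/
theorem ss_order [Fintype F] {q : ℕ} (hF : Fintype.card F = q) (g : Pe F) (hg : g ^ p ≠ 1) :
    orderOf g ∣ (q + 1) / Nat.gcd 2 (q - 1) ∨ orderOf g ∣ (q - 1) / Nat.gcd 2 (q - 1) := by
  let E' := AlgebraicClosure F
  let j : F →+* E' := algebraMap F E'
  haveI : CharP E' p := charP_of_injective_algebraMap j.injective p
  obtain ⟨A₀, rfl⟩ := mkP_surj g
  set A := Matrix.SpecialLinearGroup.map j A₀ with hAdef
  obtain ⟨v, l, hv0, hv⟩ := exists_eigvec A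
  have hinj : ∀ n : ℕ, mkP A ^ n = 1 → mkP A₀ ^ n = 1 := by
    intro n hn
    apply pslEmbed_injective j
    rw [map_pow, pslEmbed_mkP, hn, map_one]
  have hl : l ^ 2 ≠ 1 := fun h => hg (hinj p (pow_char_of_eig p A hv0 h hv))
  obtain ⟨w, hd, hw⟩ := exists_second_eig A hv0 hv hl
  have hd' : dt v w ≠ 0 := by rw [hd]; exact one_ne_zero
  have hl0 : l ≠ 0 := (triang A hd' hv).1
  obtain ⟨n, -, hq⟩ := FiniteField.card F p
  rw [hF] at hq
  have hquad : l ^ 2 - j ((A₀ : Matrix (Fin 2) (Fin 2) F).trace) * l + 1 = 0 := by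
    have h6 : ((A : Matrix (Fin 2) (Fin 2) E') - l • 1).det = 0 := by
      apply Matrix.exists_mulVec_eq_zero_iff.1
      refine ⟨v, hv0, ?_⟩
      rw [Matrix.sub_mulVec, Matrix.smul_mulVec, Matrix.one_mulVec, hv, sub_self]
    have hdet : (A : Matrix (Fin 2) (Fin 2) E').det = 1 := A.2
    rw [Matrix.det_fin_two] at h6 hdet
    have e1 : j ((A₀ : Matrix (Fin 2) (Fin 2) F).trace) = (A : Matrix (Fin 2) (Fin 2) E') 0 0 + (A : Matrix (Fin 2) (Fin 2) E') 1 1 := by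
      rw [Matrix.trace_fin_two, map_add]
      rfl
    rw [e1]
    simp at h6
    linear_combination h6 - hdet
  have hq1 : 1 ≤ q := by
    have : 0 < Fintype.card F := Fintype.card_pos
    omega
  set t := j ((A₀ : Matrix (Fin 2) (Fin 2) F).trace) with ht
  have hfix : t ^ q = t := by
    rw [ht, ← map_pow, ← hF, FiniteField.pow_card]
  have hσ : (l ^ q) ^ 2 - t * l ^ q + 1 = 0 := by
    have e := congrArg (iterateFrobenius E' p n) hquad
    rw [map_zero, map_add, map_sub, map_mul, map_pow, map_one] at e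
    simp only [iterateFrobenius_def] at e
    rw [← hq, hfix] at e
    exact e
  have hfact : (l ^ q - l) * (l ^ q - l⁻¹) = 0 := by
    have e2 : t = l + l⁻¹ := by
      apply mul_right_cancel₀ hl0
      rw [add_mul, inv_mul_cancel₀ hl0]
      linear_combination -hquad
    rw [e2] at hσ
    have e3 : l * l⁻¹ = 1 := mul_inv_cancel₀ hl0
    linear_combination hσ + e3
  set d := Nat.gcd 2 (q - 1) with hdd
  have hd2 : d ∣ 2 := Nat.gcd_dvd_left _ _
  have hdq : d ∣ q - 1 := Nat.gcd_dvd_right _ _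
  have key : ∀ m : ℕ, l ^ m = 1 → d ∣ m → orderOf (mkP A₀) ∣ m / d := by
    intro m hm hdm
    apply orderOf_dvd_of_pow_eq_one
    apply hinj
    apply pow_eq_one_of_eig A hd' _ _ hv hw
    obtain ⟨c, hc⟩ := hdm
    obtain ⟨c', hc'⟩ := hd2
    have hd0 : 0 < d := Nat.pos_of_ne_zero (by
      rintro h
      rw [h] at hc'
      omega)
    rw [hc, Nat.mul_div_cancel_left _ hd0, ← pow_mul]
    have e : c * 2 = m * c' := by
      rw [hc]
      nth_rw 1 [hc']
      ring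
    rw [e, pow_mul, hm, one_pow]
  rcases mul_eq_zero.1 hfact with h | h
  · right
    apply key _ _ hdq
    have e : l ^ q = l := sub_eq_zero.1 h
    have e2 : l ^ (q - 1) * l = l := by
      rw [← pow_succ, Nat.sub_add_cancel hq1, e]
    exact mul_right_cancel₀ hl0 (by rw [e2, one_mul])
  · left
    apply key
    · have e : l ^ q = l⁻¹ := sub_eq_zero.1 h
      rw [pow_succ, e, inv_mul_cancel₀ hl0]
    · have : q + 1 = (q - 1) + 2 := by omega
      rw [this]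
      exact Nat.dvd_add hdq hd2

end CharP

end Cfsg.Agent.Lib.Classical
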