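import Mathlib
import Cfsg.Agent.Lib.Classical.DTrans
import Cfsg.Agent.Lib.AutPSL.Basic

/-! Conjugating subgroups of `PSL₂(F)` into standard position. -/

set_option autoImplicit false
set_option linter.unusedSimpArgs false
set_option linter.unusedVariables false
set_option linter.unusedSectionVars false
set_option linter.style.haveILetI false

namespace Cfsg.Agent.Lib.Classical

open Matrix MulAction Projectivization
open Cfsg.Agent.Lib.AutPSL (semiAut slSemi slSemi_coe)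
open scoped MatrixGroups LinearAlgebra.Projectivization

variable {F : Type*} [Field F]

/-- Conjugation by `P`. -/
noncomputable def Th (P : GL (Fin 2) F) : Pe F ≃* Pe F := semiAut P (RingEquiv.refl F)

/-- Conjugation by `P` on `SL₂`. -/
noncomputable def ThS (P : GL (Fin 2) F) : SL(2, F) ≃* SL(2, F) := slSemi P (RingEquiv.refl F)

theorem Th_mkP (P : GL (Fin 2) F) (A : SL(2, F)) : Th P (mkP A) = mkP (ThS P A) := rfl

theorem ThS_mul_P (P : GL (Fin 2) F) (A : SL(2, F)) :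
    (ThS P A).1 * (P : Matrix (Fin 2) (Fin 2) F) = (P : Matrix (Fin 2) (Fin 2) F) * A.1 := by
  have h1 : (ThS P A).1 = (P : Matrix (Fin 2) (Fin 2) F) * A.1 * ((P⁻¹ : GL (Fin 2) F) : Matrix (Fin 2) (Fin 2) F) := by
    rw [ThS, slSemi_coe]
    congr 2
  rw [h1, mul_assoc, ← Units.val_mul, inv_mul_cancel]
  simp

/-- The conjugated subgroup. -/
noncomputable def conjSub (P : GL (Fin 2) F) (H : Subgroup (Pe F)) : Subgroup (Pe F) := H.comap (Th P).toMonoidHom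

theorem mem_conjSub {P : GL (Fin 2) F} {H : Subgroup (Pe F)} {x : Pe F} : x ∈ conjSub P H ↔ Th P x ∈ H := Iff.rfl

/-- The conjugated subgroup is isomorphic to the original one. -/
noncomputable def conjSubEquiv (P : GL (Fin 2) F) (H : Subgroup (Pe F)) : H ≃* conjSub P H where
  toFun x := ⟨(Th P).symm x, by rw [mem_conjSub, MulEquiv.apply_symm_apply]; exact x.2⟩
  invFun x := ⟨Th P x, x.2⟩
  left_inv x := by simp
  right_inv x := by simp
  map_mul' x y := by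
    apply Subtype.ext
    simp

/-- The coordinates with respect to a basis. -/
theorem ThS_mulVec_left {v w : Fin 2 → F} (h : dt v w ≠ 0) (A : SL(2, F)) :
    (ThS (colGL v w h) A).1 *ᵥ v = A.1 0 0 • v + A.1 1 0 • w := by
  have e := ThS_mul_P (colGL v w h) A
  have e1 : ((colGL v w h : GL (Fin 2) F) : Matrix (Fin 2) (Fin 2) F) = colMat v w := rfl
  rw [e1] at e
  have e2 : colMat v w *ᵥ (Pi.single 0 1) = v := by
    rw [colMat_mulVec]; simp
  have e3 := congrArg (fun M => M *ᵥ (Pi.single 0 1 : Fin 2 → F)) e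
  simp only [← Matrix.mulVec_mulVec] at e3
  rw [e2] at e3
  rw [e3, colMat_mulVec]
  simp

theorem ThS_mulVec_right {v w : Fin 2 → F} (h : dt v w ≠ 0) (A : SL(2, F)) :
    (ThS (colGL v w h) A).1 *ᵥ w = A.1 0 1 • v + A.1 1 1 • w := by
  have e := ThS_mul_P (colGL v w h) A
  have e1 : ((colGL v w h : GL (Fin 2) F) : Matrix (Fin 2) (Fin 2) F) = colMat v w := rfl
  rw [e1] at e
  have e2 : colMat v w *ᵥ (Pi.single 1 1) = w := by
    rw [colMat_mulVec]; simp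
  have e3 := congrArg (fun M => M *ᵥ (Pi.single 1 1 : Fin 2 → F)) e
  simp only [← Matrix.mulVec_mulVec] at e3
  rw [e2] at e3
  rw [e3, colMat_mulVec]
  simp

/-- Recognising a conjugate from its action on a basis. -/
theorem ThS_eq_of_basis {v w : Fin 2 → F} (h : dt v w ≠ 0) (A U : SL(2, F))
    (h1 : U.1 *ᵥ v = A.1 0 0 • v + A.1 1 0 • w) (h2 : U.1 *ᵥ w = A.1 0 1 • v + A.1 1 1 • w) :
    ThS (colGL v w h) A = U := by
  apply Subtype.ext
  apply mat_ext_basis h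
  · rw [ThS_mulVec_left, h1]
  · rw [ThS_mulVec_right, h2]

/-- Scaling by a square root of one. -/
def slScale (l : F) (hl : l ^ 2 = 1) (A : SL(2, F)) : SL(2, F) :=
  ⟨l • A.1, by
    rw [Matrix.det_smul, A.2]
    simpa using hl⟩

theorem slScale_coe (l : F) (hl : l ^ 2 = 1) (A : SL(2, F)) : (slScale l hl A).1 = l • A.1 := rfl

theorem mkP_slScale (l : F) (hl : l ^ 2 = 1) (A : SL(2, F)) : mkP (slScale l hl A) = mkP A := by
  have h3 : (l - 1) * (l + 1) = 0 := by linear_combination hl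
  rw [eq_comm, mkP_eq_iff]
  rcases mul_eq_zero.1 h3 with h4 | h4
  · left
    apply Subtype.ext
    rw [slScale_coe, sub_eq_zero.1 h4, one_smul]
  · right
    rw [slScale_coe, eq_neg_of_add_eq_zero_left h4, neg_smul, one_smul]

section Main

variable (p : ℕ) [hp : Fact p.Prime] [CharP F p]

/-- `Om` is invariant. -/
theorem om_smul (H : Subgroup (Pe F)) {a : ℙ F (Fin 2 → F)} (ha : a ∈ DGeom.Om H (ℙ F (Fin 2 → F)) p) (g : H) :
    g • a ∈ DGeom.Om H (ℙ F (Fin 2 → F)) p := by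
  obtain ⟨u, hu1, hua, hup⟩ := ha
  refine ⟨g * u * g⁻¹, ?_, ?_, ?_⟩
  · intro h
    apply hu1
    have : u = g⁻¹ * (g * u * g⁻¹) * g := by group
    rw [this, h]
    group
  · rw [mul_smul, mul_smul, inv_smul_smul, hua]
  · rw [conj_pow, hup]
    group

/-- Transitivity in coordinates. -/
theorem tr_coord (H : Subgroup (Pe F))
    (htr : ∀ x ∈ DGeom.Om H (ℙ F (Fin 2 → F)) p, ∀ y ∈ DGeom.Om H (ℙ F (Fin 2 → F)) p, ∀ z ∈ DGeom.Om H (ℙ F (Fin 2 → F)) p, y ≠ x → z ≠ x →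
      ∃ u : H, u ^ p = 1 ∧ u • x = x ∧ u • y = z)
    {v₁ v₂ : Fin 2 → F} (h : dt v₁ v₂ ≠ 0)
    (h1 : mk F v₁ (ne_zero_of_dt_left h) ∈ DGeom.Om H (ℙ F (Fin 2 → F)) p)
    (h2 : mk F v₂ (ne_zero_of_dt_right h) ∈ DGeom.Om H (ℙ F (Fin 2 → F)) p)
    {x₁ x₂ : F} (hx : x₂ ≠ 0) {c : ℙ F (Fin 2 → F)} (hc : c ∈ DGeom.Om H (ℙ F (Fin 2 → F)) p) {u : Fin 2 → F} (hu : u ≠ 0)
    (hcu : c = mk F u hu) (hue : u = x₁ • v₁ + x₂ • v₂) :
    ∃ U : SL(2, F), mkP U ∈ H ∧ U.1 *ᵥ v₁ = v₁ ∧ U.1 *ᵥ v₂ = (x₁ / x₂) • v₁ + v₂ := by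
  have h0 := ne_zero_of_dt_left h
  have h0' := ne_zero_of_dt_right h
  have hc1 : c ≠ mk F v₁ h0 := by
    rw [hcu, Ne, mk_eq_mk_iff_dt, dt_swap, neg_eq_zero, hue, dt_add_right, dt_smul_right, dt_smul_right, dt_self, mul_zero, zero_add]
    exact mul_ne_zero hx h
  have h21 : mk F v₂ h0' ≠ mk F v₁ h0 := by
    rw [Ne, mk_eq_mk_iff_dt, dt_swap, neg_eq_zero]
    exact h
  obtain ⟨g, hgp, hg1, hg2⟩ := htr _ h1 _ h2 _ hc h21 hc1
  obtain ⟨U₀, hU₀⟩ := mkP_surj (g : Pe F)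
  have hg1' : mkP U₀ • mk F v₁ h0 = mk F v₁ h0 := by
    rw [hU₀]
    exact hg1
  rw [mkP_fix_iff] at hg1'
  obtain ⟨l, hl⟩ := hg1'
  have hgp' : mkP U₀ ^ p = 1 := by
    rw [hU₀]
    simpa using congrArg Subtype.val hgp
  have hl2 := (pow_char_iff p U₀ h0 hl).1 hgp'
  set U := slScale l hl2 U₀ with hU
  have hUm : mkP U = (g : Pe F) := by rw [hU, mkP_slScale, hU₀]
  have hU1 : U.1 *ᵥ v₁ = v₁ := by
    rw [hU, slScale_coe, Matrix.smul_mulVec, hl, smul_smul, ← pow_two, hl2, one_smul]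
  have hU1' : U.1 *ᵥ v₁ = (1 : F) • v₁ := by rw [hU1, one_smul]
  obtain ⟨-, μ, hμ⟩ := triang U h hU1'
  rw [inv_one, one_smul] at hμ
  have hg2' : mkP U • mk F v₂ h0' = mk F u hu := by
    rw [hUm, ← hcu]
    exact hg2
  rw [mkP_smul_eq_iff] at hg2'
  obtain ⟨κ, hκ⟩ := hg2'
  rw [hμ, hue] at hκ
  have e1 : dt (μ • v₁ + v₂) (μ • v₁ + v₂) = 0 := dt_self _
  nth_rw 2 [hκ] at e1
  rw [dt_smul_right, dt_add_left, dt_add_right, dt_add_right, dt_smul_left, dt_smul_left, dt_smul_right, dt_smul_right, dt_smul_right, dt_smul_right, dt_self, dt_self, dt_swap v₁ v₂] at e1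
  have hκ0 : κ ≠ 0 := by
    rintro rfl
    rw [zero_smul] at hκ
    have : dt (μ • v₁ + v₂) v₁ = 0 := by rw [hκ]; simp [dt]
    rw [dt_add_left, dt_smul_left, dt_self, mul_zero, zero_add, dt_swap, neg_eq_zero] at this
    exact h this
  have e2 : μ * x₂ - x₁ = 0 := by
    have : κ * (dt v₁ v₂ * (μ * x₂ - x₁)) = 0 := by linear_combination e1
    have := (mul_eq_zero.1 this).resolve_left hκ0
    exact (mul_eq_zero.1 this).resolve_left h
  refine ⟨U, by rw [hUm]; exact g.2, hU1, ?_⟩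
  have e3 : x₁ / x₂ = μ := by
    rw [div_eq_iff hx]
    linear_combination -e2
  rw [hμ, e3]

/-- The hypotheses of Hua's argument hold, after conjugation. -/
theorem huaHyp_of_trans (H : Subgroup (Pe F)) {a b : ℙ F (Fin 2 → F)} (ha : a ∈ DGeom.Om H (ℙ F (Fin 2 → F)) p)
    (hb : b ∈ DGeom.Om H (ℙ F (Fin 2 → F)) p) (hab : a ≠ b)
    (htr : ∀ x ∈ DGeom.Om H (ℙ F (Fin 2 → F)) p, ∀ y ∈ DGeom.Om H (ℙ F (Fin 2 → F)) p, ∀ z ∈ DGeom.Om H (ℙ F (Fin 2 → F)) p, y ≠ x → z ≠ x →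
      ∃ u : H, u ^ p = 1 ∧ u • x = x ∧ u • y = z) : ∃ P : GL (Fin 2) F, HuaHyp (conjSub P H) := by
  induction a using Projectivization.ind with | _ v₀ hv₀ =>
  induction b using Projectivization.ind with | _ w hw =>
  have hd₀ : dt v₀ w ≠ 0 := fun h => hab ((mk_eq_mk_iff_dt _ _).2 h)
  -- normalise `v₀`
  obtain ⟨g, hg1, hga, hgp⟩ := ha
  obtain ⟨U₀, hU₀⟩ := mkP_surj (g : Pe F)
  have hga' : mkP U₀ • mk F v₀ hv₀ = mk F v₀ hv₀ := by
    rw [hU₀]
    exact hga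
  rw [mkP_fix_iff] at hga'
  obtain ⟨l, hl⟩ := hga'
  have hgp' : mkP U₀ ^ p = 1 := by
    rw [hU₀]
    simpa using congrArg Subtype.val hgp
  have hl2 := (pow_char_iff p U₀ hv₀ hl).1 hgp'
  set U := slScale l hl2 U₀ with hU
  have hUm : mkP U = (g : Pe F) := by rw [hU, mkP_slScale, hU₀]
  have hU1 : U.1 *ᵥ v₀ = v₀ := by
    rw [hU, slScale_coe, Matrix.smul_mulVec, hl, smul_smul, ← pow_two, hl2, one_smul]
  have hU1' : U.1 *ᵥ v₀ = (1 : F) • v₀ := by rw [hU1, one_smul]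
  obtain ⟨-, μ, hμ⟩ := triang U hd₀ hU1'
  rw [inv_one, one_smul] at hμ
  have hμ0 : μ ≠ 0 := by
    rintro rfl
    apply hg1
    apply Subtype.ext
    change (g : Pe F) = 1
    rw [← hUm]
    apply mkP_eq_one_of_eig U hd₀ hU1'
    rw [hμ, zero_smul, zero_add, one_smul]
  obtain ⟨v, hv⟩ : ∃ v, v = μ • v₀ := ⟨_, rfl⟩
  rw [← hv] at hμ
  have hd : dt v w ≠ 0 := by
    rw [hv, dt_smul_left]
    exact mul_ne_zero hμ0 hd₀
  have hv0 : v ≠ 0 := ne_zero_of_dt_left hd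
  have hmkv : mk F v hv0 = mk F v₀ hv₀ := by
    rw [mk_eq_mk_iff_dt, hv, dt_smul_left, dt_self, mul_zero]
  have hOa : mk F v hv0 ∈ DGeom.Om H (ℙ F (Fin 2 → F)) p := by
    rw [hmkv]
    exact ⟨g, hg1, hga, hgp⟩
  refine ⟨colGL v w hd, ?_⟩
  -- the action on the basis
  have hthem : ∀ x : Pe F, x ∈ conjSub (colGL v w hd) H → ∀ A : SL(2, F), mkP A = x → mkP (ThS (colGL v w hd) A) ∈ H := by
    rintro x hx A rfl
    exact hx
  have hone : mkP (uu 1) ∈ conjSub (colGL v w hd) H := by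
    rw [mem_conjSub, Th_mkP, ThS_eq_of_basis hd (uu 1) U]
    · rw [hUm]
      exact g.2
    · simp [hv, Matrix.mulVec_smul, hU1]
    · simp [hμ, hv]
  have hu_of : ∀ s : F, (∃ U' : SL(2, F), mkP U' ∈ H ∧ U'.1 *ᵥ v = v ∧ U'.1 *ᵥ w = s • v + w) → mkP (uu s) ∈ conjSub (colGL v w hd) H := by
    rintro s ⟨U', h1, h2, h3⟩
    rw [mem_conjSub, Th_mkP, ThS_eq_of_basis hd (uu s) U']
    · exact h1
    · simp [h2]
    · simp [h3]
  have hl_of : ∀ s : F, (∃ U' : SL(2, F), mkP U' ∈ H ∧ U'.1 *ᵥ w = w ∧ U'.1 *ᵥ v = s • w + v) → mkP (ll s) ∈ conjSub (colGL v w hd) H := by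
    rintro s ⟨U', h1, h2, h3⟩
    rw [mem_conjSub, Th_mkP, ThS_eq_of_basis hd (ll s) U']
    · exact h1
    · simp [h3, add_comm]
    · simp [h2]
  have hd' : dt w v ≠ 0 := by
    rw [dt_swap]
    exact neg_ne_zero.2 hd
  have hOb : mk F w hw ∈ DGeom.Om H (ℙ F (Fin 2 → F)) p := hb
  -- images of the two points
  have himg : ∀ A : SL(2, F), mkP A ∈ conjSub (colGL v w hd) H → ∀ {u : Fin 2 → F} (hu : u ≠ 0), (u = A.1 0 0 • v + A.1 1 0 • w ∨ u = A.1 0 1 • v + A.1 1 1 • w) →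
      mk F u hu ∈ DGeom.Om H (ℙ F (Fin 2 → F)) p := by
    intro A hA u hu hue
    have hB := hthem _ hA A rfl
    rcases hue with hue | hue
    · have := om_smul p H hOa ⟨_, hB⟩
      obtain ⟨h1, e⟩ := mkP_smul_mk (ThS (colGL v w hd) A) hv0
      have e2 : (⟨_, hB⟩ : H) • mk F v hv0 = mkP (ThS (colGL v w hd) A) • mk F v hv0 := rfl
      rw [e2, e] at this
      convert this using 1
      congr 1
      rw [hue, ThS_mulVec_left]
    · have := om_smul p H hOb ⟨_, hB⟩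
      obtain ⟨h1, e⟩ := mkP_smul_mk (ThS (colGL v w hd) A) hw
      have e2 : (⟨_, hB⟩ : H) • mk F w hw = mkP (ThS (colGL v w hd) A) • mk F w hw := rfl
      rw [e2, e] at this
      convert this using 1
      congr 1
      rw [hue, ThS_mulVec_right]
  have hne1 : ∀ x y : F, y ≠ 0 → x • v + y • w ≠ 0 := by
    intro x y hy h
    have : dt v (x • v + y • w) = 0 := by rw [h]; simp [dt]
    rw [dt_add_right, dt_smul_right, dt_smul_right, dt_self, mul_zero, zero_add] at this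
    exact (mul_ne_zero hy hd) this
  have hne2 : ∀ x y : F, x ≠ 0 → x • v + y • w ≠ 0 := by
    intro x y hx h
    have : dt (x • v + y • w) w = 0 := by rw [h]; simp [dt]
    rw [dt_add_left, dt_smul_left, dt_smul_left, dt_self, mul_zero, add_zero] at this
    exact (mul_ne_zero hx hd) this
  refine ⟨hone, ?_, ?_, ?_, ?_⟩
  · intro A hA h0
    apply hu_of
    exact tr_coord p H htr hd hOa hOb h0 (himg A hA (hne1 _ _ h0) (Or.inl rfl)) (hne1 _ _ h0) rfl rfl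
  · intro A hA h0
    apply hu_of
    exact tr_coord p H htr hd hOa hOb h0 (himg A hA (hne1 _ _ h0) (Or.inr rfl)) (hne1 _ _ h0) rfl rfl
  · intro A hA h0
    apply hl_of
    exact tr_coord p H htr hd' hOb hOa h0 (himg A hA (hne2 _ _ h0) (Or.inl rfl)) (hne2 _ _ h0) rfl (add_comm _ _)
  · intro A hA h0
    apply hl_of
    exact tr_coord p H htr hd' hOb hOa h0 (himg A hA (hne2 _ _ h0) (Or.inr rfl)) (hne2 _ _ h0) rfl (add_comm _ _)

end Main

/-- A subgroup fixing a point is conjugate into the Borel subgroup. -/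
theorem borel_of_fix (H : Subgroup (Pe F)) (a : ℙ F (Fin 2 → F)) (ha : ∀ g : H, g • a = a) :
    ∃ P : GL (Fin 2) F, ∀ A : SL(2, F), mkP A ∈ conjSub P H → A.1 1 0 = 0 := by
  induction a using Projectivization.ind with | _ v hv =>
  obtain ⟨w, hw⟩ := exists_compl hv
  have hd : dt v w ≠ 0 := by rw [hw]; exact one_ne_zero
  refine ⟨colGL v w hd, ?_⟩
  intro A hA
  have h1 := ha ⟨_, hA⟩
  have h2 : (⟨_, hA⟩ : H) • mk F v hv = mkP (ThS (colGL v w hd) A) • mk F v hv := rfl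
  rw [h2, mkP_fix_iff, ThS_mulVec_left] at h1
  obtain ⟨l, hl⟩ := h1
  have e : dt (A.1 0 0 • v + A.1 1 0 • w) v = 0 := by
    rw [hl, dt_smul_left, dt_self, mul_zero]
  rw [dt_add_left, dt_smul_left, dt_smul_left, dt_self, mul_zero, zero_add, dt_swap] at e
  have e2 : A.1 1 0 * dt v w = 0 := by linear_combination -e
  exact (mul_eq_zero.1 e2).resolve_right hd

end Cfsg.Agent.Lib.Classical
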