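import Mathlib
import Cfsg.Agent.Lib.Classical.DConj
import Cfsg.Agent.Lib.Classical.Transfer

/-! Dickson's theorem: the subgroups of `PSL₂(q)`. -/

set_option autoImplicit false
set_option linter.unusedSimpArgs false
set_option linter.unusedVariables false
set_option linter.unusedSectionVars false
set_option linter.style.haveILetI false

namespace Cfsg.Agent.Lib.Classical

open Matrix MulAction Projectivization
open scoped MatrixGroups LinearAlgebra.Projectivization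

variable {F : Type*} [Field F]

/-- The standard root group as a homomorphism. -/
def uuHom : Multiplicative F →* Pe F where
  toFun s := mkP (uu (Multiplicative.toAdd s))
  map_one' := by
    rw [toAdd_one, uu_zero]
    rfl
  map_mul' s t := by
    rw [toAdd_mul, uu_add, mkP_mul]

theorem uu_mkP_inj {s t : F} (h : mkP (uu s) = mkP (uu t)) : s = t := by
  rcases (mkP_eq_iff _ _).1 h with h | h
  · have := congrArg (fun A : SL(2, F) => A.1 0 1) h
    simpa using this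
  · have e1 := congrFun (congrFun h 0) 1
    have e2 := congrFun (congrFun h 0) 0
    have e1' : t = -s := e1
    have e2' : (1 : F) = -1 := e2
    rw [e1']
    linear_combination s * e2'

/-- The standard root subgroup of `PSL₂`. -/
def Q0 (F : Type*) [Field F] : Subgroup (Pe F) := (uuHom (F := F)).range

theorem mem_Q0 {x : Pe F} : x ∈ Q0 F ↔ ∃ s : F, x = mkP (uu s) := by
  constructor
  · rintro ⟨s, rfl⟩
    exact ⟨Multiplicative.toAdd s, rfl⟩
  · rintro ⟨s, rfl⟩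
    exact ⟨Multiplicative.ofAdd s, rfl⟩

theorem card_Q0 [Finite F] : Nat.card (Q0 F) = Nat.card F := by
  have hinj : Function.Injective (uuHom (F := F)) := fun s t h => by
    have := uu_mkP_inj h
    exact this
  have e : Multiplicative F ≃ Q0 F := (MonoidHom.ofInjective hinj).toEquiv
  rw [← Nat.card_congr e]
  rfl

section Sylow

variable [Fintype F] {q : ℕ} (hF : Fintype.card F = q) (p : ℕ) [hp : Fact p.Prime] [CharP F p]

include hF in
theorem not_dvd_index_Q0 : ¬ p ∣ (Q0 F).index := by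
  obtain ⟨n, -, hq⟩ := FiniteField.card F p
  rw [hF] at hq
  have hcQ : Nat.card (Q0 F) = q := by
    rw [card_Q0, Nat.card_eq_fintype_card, hF]
  have hci := Subgroup.card_mul_index (Q0 F)
  rw [hcQ] at hci
  have hq2 : 2 ≤ q := by
    rw [← hF]
    exact Fintype.one_lt_card
  have hpq : p ∣ q := by
    rw [hq]
    exact dvd_pow_self _ n.ne_zero
  have hnd : ¬ p ∣ q ^ 2 - 1 := by
    intro h
    have h1 : p ∣ q ^ 2 := dvd_pow hpq (by norm_num)
    have h2 : p ∣ 1 := by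
      have h3 : q ^ 2 = (q ^ 2 - 1) + 1 := by
        have : 1 ≤ q ^ 2 := Nat.one_le_pow _ _ (by omega)
        omega
      rw [h3] at h1
      exact (Nat.dvd_add_right h).1 h1
    exact hp.out.one_lt.ne' (Nat.dvd_one.1 h2)
  intro hdiv
  rcases Nat.even_or_odd q with he | ho
  · have hc := card_psl2_even hF he
    rw [← hci] at hc
    have := Nat.eq_of_mul_eq_mul_left (by omega) hc
    rw [this] at hdiv
    exact hnd hdiv
  · have hc := card_psl2_odd hF ho
    rw [← hci] at hc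
    have h2 : 2 * (Q0 F).index = q ^ 2 - 1 := by
      apply Nat.eq_of_mul_eq_mul_left (show 0 < q by omega)
      rw [← hc]
      ring
    rw [← h2] at hnd
    exact hnd (Dvd.dvd.mul_left hdiv 2)

include hF in
theorem isPGroup_Q0 : IsPGroup p (Q0 F) := by
  obtain ⟨n, -, hq⟩ := FiniteField.card F p
  rw [hF] at hq
  apply IsPGroup.of_card (n := n)
  rw [card_Q0, Nat.card_eq_fintype_card, hF, hq]

/-- The standard Sylow subgroup. -/
noncomputable def Q0Sylow : Sylow p (Pe F) := (isPGroup_Q0 hF p).toSylow (not_dvd_index_Q0 hF p)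

omit [Fintype F] in
theorem conj_uu_of_upper (A : SL(2, F)) (h0 : A.1 1 0 = 0) (s : F) :
    ∃ t, A * uu s * A⁻¹ = uu t := by
  have hd := sl_det A
  rw [h0] at hd
  refine ⟨A.1 0 0 ^ 2 * s, ?_⟩
  rw [mul_inv_eq_iff_eq_mul]
  apply sl_ext <;> simp [sl_mul_apply, h0]
  grind

omit [Fintype F] in
/-- The Borel subgroup normalises the root subgroup. -/
theorem le_normalizer_Q0 (K : Subgroup (Pe F)) (hK : ∀ A : SL(2, F), mkP A ∈ K → A.1 1 0 = 0) :
    K ≤ Subgroup.normalizer ((Q0 F : Subgroup (Pe F)) : Set (Pe F)) := by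
  have key : ∀ g : Pe F, g ∈ K → ∀ x ∈ Q0 F, g * x * g⁻¹ ∈ Q0 F := by
    intro g hg x hx
    obtain ⟨A, rfl⟩ := mkP_surj g
    obtain ⟨s, rfl⟩ := mem_Q0.1 hx
    obtain ⟨t, ht⟩ := conj_uu_of_upper A (hK A hg) s
    rw [mem_Q0]
    refine ⟨t, ?_⟩
    rw [← ht]
    rfl
  intro g hg
  rw [Subgroup.mem_normalizer_iff]
  intro x
  constructor
  · exact key g hg x
  · intro hx
    have := key g⁻¹ (K.inv_mem hg) _ hx
    have e : g⁻¹ * (g * x * g⁻¹) * g⁻¹⁻¹ = x := by group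
    rwa [e] at this

end Sylow

/-- A subfield is isomorphic to a Galois field. -/
theorem exists_type_field [Fintype F] {q : ℕ} (hF : Fintype.card F = q) (p : ℕ) [hp : Fact p.Prime] [CharP F p] (K₀ : Subfield F) :
    ∃ (K : Type) (_ : Field K) (_ : Fintype K) (m : ℕ), Fintype.card K ^ m = q ∧ Nonempty (K₀ ≃+* K) := by
  classical
  haveI : Fintype K₀ := Fintype.ofFinite _
  haveI : CharP K₀ p := RingHom.charP K₀.subtype K₀.subtype_injective p
  obtain ⟨n, -, hn⟩ := FiniteField.card K₀ p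
  haveI : Fintype (GaloisField p n) := Fintype.ofFinite _
  have hcard : Fintype.card (GaloisField p n) = p ^ (n : ℕ) := by
    rw [← Nat.card_eq_fintype_card, GaloisField.card p n n.ne_zero]
  refine ⟨GaloisField p n, inferInstance, inferInstance, Module.finrank K₀ F, ?_, ⟨FiniteField.ringEquivOfCardEq (by rw [hn, hcard])⟩⟩
  have h1 := Module.card_eq_pow_finrank (K := K₀) (V := F)
  rw [← hF, h1, hcard, hn]

/-- The master theorem: the subgroups of `PSL₂(q)`. -/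
theorem dickson_master [Fintype F] (p : ℕ) [hp : Fact p.Prime] [CharP F p] (H : Subgroup (Pe F)) :
    (IsCyclic H ∧ (∀ g : H, g ≠ 1 → g ^ p ≠ 1)) ∨
    ((∃ (c : ℕ) (ρ : H), 2 ≤ c ∧ orderOf ρ = c ∧ ρ ^ p ≠ 1 ∧ Nonempty (H ≃* DihedralGroup c)) ∧ (p = 2 ∨ ∀ g : H, g ≠ 1 → g ^ p ≠ 1)) ∨
    (Nonempty (H ≃* alternatingGroup (Fin 4)) ∧ (∀ g : H, g ≠ 1 → g ^ p ≠ 1)) ∨
    (Nonempty (H ≃* Equiv.Perm (Fin 4)) ∧ (∀ g : H, g ≠ 1 → g ^ p ≠ 1)) ∨
    (Nonempty (H ≃* alternatingGroup (Fin 5)) ∧ (p = 3 ∨ ∀ g : H, g ≠ 1 → g ^ p ≠ 1)) ∨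
    (∃ P : GL (Fin 2) F, (∃ g : H, g ≠ 1 ∧ g ^ p = 1) ∧ ∀ A : SL(2, F), mkP A ∈ conjSub P H → A.1 1 0 = 0) ∨
    (∃ (K₀ : Subfield F) (P : GL (Fin 2) F), (conjSub P H = (pslEmbed K₀.subtype).range) ∨
      ∃ hsq : (∀ a : K₀, a ≠ 0 → IsSquare (K₀.subtype a)), conjSub P H = (pglEmbed K₀.subtype hsq).range) := by
  rcases dickson_cases p H with ⟨h1, h2⟩ | ⟨h1, c, ρ, hc, hρ, hρp, h2⟩ | ⟨h1, h2⟩ | ⟨h1, a, ha⟩ | ⟨a, b, ha, hb, hab, htr⟩
  · rcases h2 with h2 | h2 | h2
    · exact Or.inl ⟨h2, h1⟩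
    · exact Or.inr (Or.inr (Or.inl ⟨h2, h1⟩))
    · exact Or.inr (Or.inr (Or.inr (Or.inl ⟨h2, h1⟩)))
  · exact Or.inr (Or.inl ⟨⟨c, ρ, hc, hρ, hρp, h2⟩, h1⟩)
  · exact Or.inr (Or.inr (Or.inr (Or.inr (Or.inl ⟨h2, h1⟩))))
  · obtain ⟨P, hP⟩ := borel_of_fix H a ha
    exact Or.inr (Or.inr (Or.inr (Or.inr (Or.inr (Or.inl ⟨P, h1, hP⟩)))))
  · obtain ⟨P, hP⟩ := huaHyp_of_trans p H ha hb hab htr
    refine Or.inr (Or.inr (Or.inr (Or.inr (Or.inr (Or.inr ⟨hP.fld, P, ?_⟩)))))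
    exact hP.hua_main

end Cfsg.Agent.Lib.Classical
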