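import Mathlib
import Cfsg.Agent.Lib.Classical.DMain
import Cfsg.Agent.Lib.Classical.SmallIso

/-! Numerical form of Dickson's theorem. -/

set_option autoImplicit false
set_option linter.unusedSimpArgs false
set_option linter.unusedVariables false
set_option linter.unusedSectionVars false
set_option linter.style.haveILetI false

namespace Cfsg.Agent.Lib.Classical

open Matrix MulAction Projectivization
open scoped MatrixGroups LinearAlgebra.Projectivization

variable {F : Type*} [Field F]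

section Order

variable [Fintype F] (p : ℕ) [hp : Fact p.Prime] [CharP F p]

/-- Semisimple elements in subfield subgroups have small order. -/
theorem order_of_subfield (K₀ : Subfield F) (A : SL(2, F)) {c : F} (hc : c ≠ 0) (hc00 : c * A.1 0 0 ∈ K₀)
    (hc01 : c * A.1 0 1 ∈ K₀) (hc10 : c * A.1 1 0 ∈ K₀) (hc11 : c * A.1 1 1 ∈ K₀) (hA : mkP A ^ p ≠ 1) :
    orderOf (mkP A) ∣ Nat.card K₀ - 1 ∨ orderOf (mkP A) ∣ Nat.card K₀ + 1 := by
  classical
  let E' := AlgebraicClosure F
  let j : F →+* E' := algebraMap F E'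
  haveI : CharP E' p := charP_of_injective_algebraMap j.injective p
  set A' := Matrix.SpecialLinearGroup.map j A with hA'def
  obtain ⟨v, l, hv0, hv⟩ := exists_eigvec A'
  have hinj : ∀ n : ℕ, mkP A' ^ n = 1 → mkP A ^ n = 1 := by
    intro n hn
    apply pslEmbed_injective j
    rw [map_pow, pslEmbed_mkP, hn, map_one]
  have hl : l ^ 2 ≠ 1 := fun h => hA (hinj p (pow_char_of_eig p A' hv0 h hv))
  obtain ⟨w, hd, hw⟩ := exists_second_eig A' hv0 hv hl
  have hd' : dt v w ≠ 0 := by rw [hd]; exact one_ne_zero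
  have hl0 : l ≠ 0 := (triang A' hd' hv).1
  have hquad : l ^ 2 - j ((A : Matrix (Fin 2) (Fin 2) F).trace) * l + 1 = 0 := by
    have h6 : ((A' : Matrix (Fin 2) (Fin 2) E') - l • 1).det = 0 := by
      apply Matrix.exists_mulVec_eq_zero_iff.1
      refine ⟨v, hv0, ?_⟩
      rw [Matrix.sub_mulVec, Matrix.smul_mulVec, Matrix.one_mulVec, hv, sub_self]
    have hdet : (A' : Matrix (Fin 2) (Fin 2) E').det = 1 := A'.2
    rw [Matrix.det_fin_two] at h6 hdet
    have e1 : j ((A : Matrix (Fin 2) (Fin 2) F).trace) = (A' : Matrix (Fin 2) (Fin 2) E') 0 0 + (A' : Matrix (Fin 2) (Fin 2) E') 1 1 := by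
      rw [Matrix.trace_fin_two, map_add]
      rfl
    rw [e1]
    simp at h6
    linear_combination h6 - hdet
  -- the parameter in the subfield
  set t₀ := (A : Matrix (Fin 2) (Fin 2) F).trace with ht₀
  have hdetA := sl_det A
  have hcc : c * c ∈ K₀ := by
    have e : c * c = (c * A.1 0 0) * (c * A.1 1 1) - (c * A.1 0 1) * (c * A.1 1 0) := by
      linear_combination (-(c * c)) * hdetA
    rw [e]
    exact K₀.sub_mem (K₀.mul_mem hc00 hc11) (K₀.mul_mem hc01 hc10)
  have hct : c * t₀ ∈ K₀ := by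
    have e : c * t₀ = c * A.1 0 0 + c * A.1 1 1 := by
      rw [ht₀, Matrix.trace_fin_two]
      ring
    rw [e]
    exact K₀.add_mem hc00 hc11
  have hs₀ : t₀ ^ 2 - 2 ∈ K₀ := by
    have e : t₀ ^ 2 - 2 = (c * t₀) * (c * t₀) * (c * c)⁻¹ - 2 := by
      field_simp
    rw [e]
    have h2m : (2 : F) ∈ K₀ := by
      have : (2 : F) = 1 + 1 := by norm_num
      rw [this]
      exact K₀.add_mem K₀.one_mem K₀.one_mem
    exact K₀.sub_mem (K₀.mul_mem (K₀.mul_mem hct hct) (K₀.inv_mem hcc)) h2m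
  haveI : Fintype K₀ := Fintype.ofFinite _
  haveI : CharP K₀ p := RingHom.charP K₀.subtype K₀.subtype_injective p
  obtain ⟨n, -, hn⟩ := FiniteField.card K₀ p
  set r := Nat.card K₀ with hr
  have hrc : r = p ^ (n : ℕ) := by
    rw [hr, Nat.card_eq_fintype_card, hn]
  have hr1 : 1 ≤ r := Nat.card_pos
  have hfix : (t₀ ^ 2 - 2) ^ r = t₀ ^ 2 - 2 := by
    have := FiniteField.pow_card (⟨t₀ ^ 2 - 2, hs₀⟩ : K₀)
    rw [← Nat.card_eq_fintype_card, ← hr] at this
    exact congrArg Subtype.val this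
  set X := l ^ 2 with hX
  have hX0 : X ≠ 0 := pow_ne_zero _ hl0
  have hquad2 : X ^ 2 - j (t₀ ^ 2 - 2) * X + 1 = 0 := by
    rw [hX, map_sub, map_pow, map_ofNat]
    set t := j t₀ with ht
    have e3 : l ^ 2 + 1 = t * l := by linear_combination hquad
    calc (l ^ 2) ^ 2 - (t ^ 2 - 2) * l ^ 2 + 1 = (l ^ 2 + 1) ^ 2 - t ^ 2 * l ^ 2 := by ring
      _ = (t * l) ^ 2 - t ^ 2 * l ^ 2 := by rw [e3]
      _ = 0 := by ring
  have hfix' : (j (t₀ ^ 2 - 2)) ^ r = j (t₀ ^ 2 - 2) := by
    rw [← map_pow, hfix]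
  have hσ : (X ^ r) ^ 2 - j (t₀ ^ 2 - 2) * X ^ r + 1 = 0 := by
    have e := congrArg (iterateFrobenius E' p n) hquad2
    rw [map_zero, map_add, map_sub, map_mul, map_pow, map_one] at e
    simp only [iterateFrobenius_def] at e
    rw [← hrc, hfix'] at e
    exact e
  have hfact : (X ^ r - X) * (X ^ r - X⁻¹) = 0 := by
    have e2 : j (t₀ ^ 2 - 2) = X + X⁻¹ := by
      apply mul_right_cancel₀ hX0
      rw [add_mul, inv_mul_cancel₀ hX0]
      linear_combination -hquad2
    rw [e2] at hσ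
    have e3 : X * X⁻¹ = 1 := mul_inv_cancel₀ hX0
    linear_combination hσ + e3
  have key : ∀ m : ℕ, X ^ m = 1 → orderOf (mkP A) ∣ m := by
    intro m hm
    apply orderOf_dvd_of_pow_eq_one
    apply hinj
    apply pow_eq_one_of_eig A' hd' _ _ hv hw
    rw [← pow_mul, mul_comm, pow_mul]
    exact hm
  rcases mul_eq_zero.1 hfact with h | h
  · left
    apply key
    have e : X ^ r = X := sub_eq_zero.1 h
    have e2 : X ^ (r - 1) * X = X := by
      rw [← pow_succ, Nat.sub_add_cancel hr1, e]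
    exact mul_right_cancel₀ hX0 (by rw [e2, one_mul])
  · right
    apply key
    have e : X ^ r = X⁻¹ := sub_eq_zero.1 h
    rw [pow_succ, e, inv_mul_cancel₀ hX0]

end Order

/-- The order of `PSL₂` over a subfield. -/
theorem card_psl_le [Finite F] : Nat.card (Pe F) ≤ Nat.card F * (Nat.card F ^ 2 - 1) := by
  haveI := Fintype.ofFinite F
  have h1 : Nat.card (Pe F) ∣ Nat.card SL(2, F) := Subgroup.card_quotient_dvd_card _
  rw [Nat.card_eq_fintype_card (α := F)]
  have h2 : Nat.card SL(2, F) = Fintype.card F * (Fintype.card F ^ 2 - 1) := card_SL2_eq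
  rw [← h2]
  exact Nat.le_of_dvd Nat.card_pos h1

theorem card_pgl_eq [Finite F] : Nat.card (Matrix.ProjGenLinGroup (Fin 2) F) = Nat.card F * (Nat.card F ^ 2 - 1) := by
  haveI := Fintype.ofFinite F
  rw [card_PGL_eq_card_SL, Nat.card_eq_fintype_card (α := F)]
  exact card_SL2_eq

section Num

variable [Fintype F] {q : ℕ} (hF : Fintype.card F = q) (p : ℕ) [hp : Fact p.Prime] [CharP F p]

include hF in
/-- The order of `PSL₂(q)`. -/
theorem card_gcd_mul : Nat.gcd 2 (q - 1) * Nat.card (Pe F) = q * (q ^ 2 - 1) := by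
  have hq2 : 2 ≤ q := by
    rw [← hF]
    exact Fintype.one_lt_card
  rcases Nat.even_or_odd q with he | ho
  · have h1 : Odd (q - 1) := Nat.Even.sub_odd (by omega) he odd_one
    have h2 : Nat.gcd 2 (q - 1) = 1 := Nat.coprime_two_left.2 h1
    rw [h2, one_mul]
    exact card_psl2_even hF he
  · have h1 : Even (q - 1) := Nat.Odd.sub_odd ho odd_one
    have h2 : Nat.gcd 2 (q - 1) = 2 := Nat.gcd_eq_left (even_iff_two_dvd.1 h1)
    rw [h2]
    exact card_psl2_odd hF ho

include hF in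
/-- A subfield has order a root of `q`. -/
theorem subfield_num (K₀ : Subfield F) : ∃ m : ℕ, (Nat.card K₀) ^ m = q ∧ 1 ≤ m := by
  classical
  haveI : Fintype K₀ := Fintype.ofFinite _
  refine ⟨Module.finrank K₀ F, ?_, Module.finrank_pos⟩
  have h1 := Module.card_eq_pow_finrank (K := K₀) (V := F)
  rw [← hF, h1, Nat.card_eq_fintype_card]

include hF in
/-- The numerical form. -/
theorem dickson_num (H : Subgroup (Pe F)) :
    (IsCyclic H ∧ (Nat.card H ∣ (q + 1) / Nat.gcd 2 (q - 1) ∨ Nat.card H ∣ (q - 1) / Nat.gcd 2 (q - 1))) ∨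
    (∃ c : ℕ, 2 ≤ c ∧ (c ∣ (q + 1) / Nat.gcd 2 (q - 1) ∨ c ∣ (q - 1) / Nat.gcd 2 (q - 1)) ∧ Nonempty (H ≃* DihedralGroup c)) ∨
    Nonempty (H ≃* alternatingGroup (Fin 4)) ∨ Nonempty (H ≃* Equiv.Perm (Fin 4)) ∨ Nonempty (H ≃* alternatingGroup (Fin 5)) ∨
    (∃ P : GL (Fin 2) F, ∀ A : SL(2, F), mkP A ∈ conjSub P H → A.1 1 0 = 0) ∨
    (∃ (K₀ : Subfield F) (P : GL (Fin 2) F) (m : ℕ), (Nat.card K₀) ^ m = q ∧ 1 ≤ m ∧
      Nat.card H ≤ Nat.card K₀ * (Nat.card K₀ ^ 2 - 1) ∧ (m = 1 → H = ⊤) ∧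
      (∀ x ∈ conjSub P H, x ^ p ≠ 1 → orderOf x ∣ Nat.card K₀ - 1 ∨ orderOf x ∣ Nat.card K₀ + 1) ∧
      (Nonempty (H ≃* Pe K₀) ∨ Nonempty (H ≃* Matrix.ProjGenLinGroup (Fin 2) K₀))) := by
  classical
  have hss : ∀ g : H, g ^ p ≠ 1 → (orderOf g ∣ (q + 1) / Nat.gcd 2 (q - 1) ∨ orderOf g ∣ (q - 1) / Nat.gcd 2 (q - 1)) := by
    intro g hg
    have := ss_order p hF (g : Pe F) (fun h => hg (Subtype.ext (by simpa using h)))
    rwa [Subgroup.orderOf_coe] at this
  rcases dickson_master p H with ⟨h1, h2⟩ | ⟨⟨c, ρ, hc, hρ, hρp, h3⟩, h2⟩ | ⟨h1, -⟩ | ⟨h1, -⟩ | ⟨h1, -⟩ | ⟨P, -, hP⟩ | ⟨K₀, P, hK⟩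
  · left
    obtain ⟨g, hg⟩ := IsCyclic.exists_generator (α := H)
    refine ⟨h1, ?_⟩
    have hord : orderOf g = Nat.card H := orderOf_eq_card_of_forall_mem_zpowers hg
    by_cases hg1 : g = 1
    · have : Nat.card H = 1 := by rw [← hord, hg1, orderOf_one]
      rw [this]
      left
      exact one_dvd _
    · rw [← hord]
      exact hss g (h2 g hg1)
  · right; left
    refine ⟨c, hc, ?_, h3⟩
    rw [← hρ]
    exact hss ρ hρp
  · right; right; left
    exact h1
  · right; right; right; left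
    exact h1
  · right; right; right; right; left
    exact h1
  · right; right; right; right; right; left
    exact ⟨P, hP⟩
  · right; right; right; right; right; right
    obtain ⟨m, hm, hm1⟩ := subfield_num hF K₀
    refine ⟨K₀, P, m, hm, hm1, ?_⟩
    have hcG : Nat.card H = Nat.card (conjSub P H) := Nat.card_congr (conjSubEquiv P H).toEquiv
    have hq2 : 2 ≤ q := by
      rw [← hF]
      exact Fintype.one_lt_card
    have hK2 : 2 ≤ Nat.card K₀ := Finite.one_lt_card
    have hcH : Nat.card H ≤ Nat.card (Pe F) := by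
      have := Subgroup.card_le_card_group H
      exact this
    have htop : Nat.card (Pe F) ≤ Nat.card H → H = ⊤ := by
      intro h
      apply Subgroup.eq_top_of_card_eq
      exact le_antisymm hcH h
    have hrq : m = 1 → Nat.card K₀ = q := by
      rintro rfl
      rwa [pow_one] at hm
    have hcF : Nat.card F = q := by rw [Nat.card_eq_fintype_card, hF]
    rcases hK with hK | ⟨hsq, hK⟩
    · have e₁ : H ≃* Pe K₀ := (conjSubEquiv P H).trans ((MulEquiv.subgroupCongr hK).trans (MonoidHom.ofInjective (pslEmbed_injective K₀.subtype)).symm)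
      refine ⟨?_, ?_, ?_, Or.inl ⟨e₁⟩⟩
      · rw [Nat.card_congr e₁.toEquiv]
        exact card_psl_le
      · intro hm1'
        apply htop
        rw [Nat.card_congr e₁.toEquiv]
        have h1 := card_PSL_two_mul (F := K₀)
        have h2 := card_PSL_two_mul (F := F)
        rw [hrq hm1'] at h1
        rw [hcF] at h2
        rw [← h2] at h1
        have hq3 : 0 < Nat.gcd 2 (q - 1) := Nat.gcd_pos_of_pos_left _ (by norm_num)
        have hq4 : 0 < q - 1 := by omega
        exact (Nat.eq_of_mul_eq_mul_left (Nat.mul_pos hq3 hq4) (by rw [mul_assoc, mul_assoc]; exact h1.symm)).le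
      · intro x hx hxp
        rw [hK] at hx
        obtain ⟨y, rfl⟩ := hx
        obtain ⟨A₀, rfl⟩ := mkP_surj y
        apply order_of_subfield p K₀ (Matrix.SpecialLinearGroup.map K₀.subtype A₀) (c := 1) one_ne_zero
        · simp
        · simp
        · simp
        · simp
        · exact hxp
    · have e₁ : H ≃* Matrix.ProjGenLinGroup (Fin 2) K₀ := (conjSubEquiv P H).trans ((MulEquiv.subgroupCongr hK).trans (MonoidHom.ofInjective (pglEmbed_injective K₀.subtype hsq)).symm)
      refine ⟨?_, ?_, ?_, Or.inr ⟨e₁⟩⟩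
      · rw [Nat.card_congr e₁.toEquiv, card_pgl_eq]
      · intro hm1'
        apply htop
        rw [Nat.card_congr e₁.toEquiv, card_pgl_eq, hrq hm1']
        rcases Nat.even_or_odd q with he | ho
        · rw [card_psl2_even hF he]
        · have h5 : 2 * Nat.card (Pe F) = q * (q ^ 2 - 1) := card_psl2_odd hF ho
          omega
      · intro x hx hxp
        rw [hK] at hx
        obtain ⟨y, rfl⟩ := hx
        obtain ⟨g, rfl⟩ := Matrix.ProjGenLinGroup.mk_surjective y
        obtain ⟨s, hs⟩ := exists_root K₀.subtype hsq g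
        have hdet0 : (g : Matrix (Fin 2) (Fin 2) K₀).det ≠ 0 := ((Matrix.isUnit_iff_isUnit_det _).1 g.isUnit).ne_zero
        have hs0 : s ≠ 0 := by
          rintro rfl
          rw [mul_zero] at hs
          exact hdet0 (K₀.subtype_injective (by rw [map_zero]; exact hs.symm))
        have e1 : pglEmbed K₀.subtype hsq (Matrix.ProjGenLinGroup.mk g) = mkP (pglLift K₀.subtype g s hs) := glToPsl_apply K₀.subtype hsq g s hs
        rw [e1] at hxp ⊢
        have e2 : ∀ i k, s * (pglLift K₀.subtype g s hs).1 i k = ((g : Matrix (Fin 2) (Fin 2) K₀) i k : F) := by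
          intro i k
          rw [pglLift_coe]
          simp
          field_simp
        apply order_of_subfield p K₀ (pglLift K₀.subtype g s hs) hs0 _ _ _ _ hxp <;> rw [e2] <;> exact SetLike.coe_mem _

end Num

end Cfsg.Agent.Lib.Classical
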