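import Mathlib

/-! Small numerical lemmas for the applications of Dickson's theorem. -/

set_option autoImplicit false

namespace Cfsg.Agent.Lib.Classical

theorem num_A {q n i G : ℕ} (hn : n = 12 ∨ n = 24 ∨ n = 60) (hq4 : 4 ≤ q) (h5 : q ≠ 5) (h7 : q ≠ 7) (h9 : q ≠ 9) (h11 : q ≠ 11)
    (hG : Nat.gcd 2 (q - 1) * G = q * (q ^ 2 - 1)) (hc : n * i = G) (hi1 : i ≠ 1) (hi : i ≤ q) : False := by
  have hd : Nat.gcd 2 (q - 1) ≤ 2 := Nat.le_of_dvd (by norm_num) (Nat.gcd_dvd_left _ _)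
  have hq : q ≤ 11 := by
    by_contra hq
    have h12 : 12 ≤ q := by omega
    have h1 : Nat.gcd 2 (q - 1) * (n * i) = q * (q ^ 2 - 1) := by rw [hc]; exact hG
    have h2 : Nat.gcd 2 (q - 1) * (n * i) ≤ 2 * (60 * q) := by
      apply Nat.mul_le_mul hd
      apply Nat.mul_le_mul _ hi
      omega
    have h3 : 143 ≤ q ^ 2 - 1 := by
      have : 144 ≤ q ^ 2 := by nlinarith
      omega
    have h4 : q * 143 ≤ q * (q ^ 2 - 1) := Nat.mul_le_mul_left _ h3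
    omega
  subst hc
  interval_cases q <;> simp at hG h5 h7 h9 h11 <;> rcases hn with rfl | rfl | rfl <;> omega

theorem num_sub {r q : ℕ} (hr : 2 ≤ r) (h : r ^ 2 ≤ q) (hb : q ^ 2 - 1 ≤ 2 * (r * (r ^ 2 - 1))) : False := by
  have h1 : 1 ≤ r ^ 2 := Nat.one_le_pow _ _ (by omega)
  obtain ⟨s, hs⟩ : ∃ s, r ^ 2 = s + 1 := ⟨r ^ 2 - 1, by omega⟩
  rw [hs, Nat.add_sub_cancel] at hb
  have h2 : (s + 1) ^ 2 ≤ q ^ 2 := by
    rw [← hs]
    exact Nat.pow_le_pow_left h 2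
  have h3 : (s + 1) ^ 2 - 1 ≤ q ^ 2 - 1 := Nat.sub_le_sub_right h2 1
  have h4 : (s + 1) ^ 2 - 1 = s * (s + 2) := by
    have : (s + 1) ^ 2 = s * (s + 2) + 1 := by ring
    omega
  rw [h4] at h3
  have h5 : s * (s + 2) ≤ s * (2 * r) := by
    calc s * (s + 2) ≤ 2 * (r * s) := h3.trans hb
      _ = s * (2 * r) := by ring
  have hs0 : 0 < s := by nlinarith
  have h6 : s + 2 ≤ 2 * r := Nat.le_of_mul_le_mul_left h5 hs0
  nlinarith

theorem mod5_two_pow (k : ℕ) : 2 ^ (2 * k + 1) % 5 = 2 ∨ 2 ^ (2 * k + 1) % 5 = 3 := by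
  induction k with
  | zero => norm_num
  | succ k ih =>
    have : 2 ^ (2 * (k + 1) + 1) = 2 ^ (2 * k + 1) * 4 := by ring
    rw [this]
    omega

theorem mod5_three_pow (k : ℕ) : 3 ^ (2 * k + 1) % 5 = 2 ∨ 3 ^ (2 * k + 1) % 5 = 3 := by
  induction k with
  | zero => norm_num
  | succ k ih =>
    have : 3 ^ (2 * (k + 1) + 1) = 3 ^ (2 * k + 1) * 9 := by ring
    rw [this]
    omega

theorem not_five_dvd {q : ℕ} (h : q % 5 = 2 ∨ q % 5 = 3) : ¬ 5 ∣ q * (q ^ 2 - 1) := by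
  intro hd
  rcases (Nat.Prime.dvd_mul (by norm_num)).1 hd with h1 | h1
  · omega
  · have h2 : q ^ 2 % 5 = 4 := by
      rw [Nat.pow_mod]
      rcases h with h | h <;> rw [h]
    omega

theorem five_dvd_of_mod {q : ℕ} (h : q % 5 = 1 ∨ q % 5 = 4) : 5 ∣ q * (q ^ 2 - 1) := by
  apply Dvd.dvd.mul_left
  have h2 : q ^ 2 % 5 = 1 := by
    rw [Nat.pow_mod]
    rcases h with h | h <;> rw [h]
  omega

/-- Roots of prime powers with prime exponent. -/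
theorem num_root {l s r m : ℕ} (hl : l.Prime) (hs : s.Prime) (hrm : r ^ m = l ^ s) (hm : 2 ≤ m) (hr : 2 ≤ r) : r = l := by
  have h1 : r ∣ l ^ s := by
    rw [← hrm]
    exact dvd_pow_self _ (by omega)
  obtain ⟨e, he, rfl⟩ := (Nat.dvd_prime_pow hl).1 h1
  rw [← pow_mul] at hrm
  have h2 : e * m = s := Nat.pow_right_injective hl.two_le hrm
  have h3 : e ∣ s := ⟨m, h2.symm⟩
  rcases (Nat.dvd_prime hs).1 h3 with h4 | h4
  · rw [h4, pow_one]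
  · exfalso
    rw [h4] at h2
    have : 0 < s := hs.pos
    nlinarith

theorem gcd_two_le (q : ℕ) : Nat.gcd 2 (q - 1) = 1 ∨ Nat.gcd 2 (q - 1) = 2 :=
  (Nat.dvd_prime Nat.prime_two).1 (Nat.gcd_dvd_left _ _)

theorem gcd_dvd_add (q : ℕ) (hq : 1 ≤ q) : Nat.gcd 2 (q - 1) ∣ q + 1 := by
  have : q + 1 = (q - 1) + 2 := by omega
  rw [this]
  exact Nat.dvd_add (Nat.gcd_dvd_right _ _) (Nat.gcd_dvd_left _ _)

theorem div_gcd_mul_add (q : ℕ) (hq : 1 ≤ q) : Nat.gcd 2 (q - 1) * ((q + 1) / Nat.gcd 2 (q - 1)) = q + 1 :=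
  Nat.mul_div_cancel' (gcd_dvd_add q hq)

theorem div_gcd_mul_sub (q : ℕ) : Nat.gcd 2 (q - 1) * ((q - 1) / Nat.gcd 2 (q - 1)) = q - 1 :=
  Nat.mul_div_cancel' (Nat.gcd_dvd_right _ _)

theorem gcd_of_two_pow {m : ℕ} (hm : 1 ≤ m) : Nat.gcd 2 (2 ^ m - 1) = 1 := by
  apply Nat.coprime_two_left.2
  have h1 : Even (2 ^ m) := (even_two).pow_of_ne_zero (by omega)
  exact Nat.Even.sub_odd (Nat.one_le_two_pow) h1 odd_one

theorem num811_bound {q : ℕ} (h4 : 4 ≤ q) : 3 ≤ (q + 1) / Nat.gcd 2 (q - 1) := by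
  by_cases h5 : q = 4
  · subst h5
    norm_num
  · rcases gcd_two_le q with h | h <;> rw [h] <;> omega

theorem num811_S4 {q G : ℕ} (h4 : 4 ≤ q) (h7 : q ≠ 7) (hG : Nat.gcd 2 (q - 1) * G = q * (q ^ 2 - 1))
    (hk : (q + 1) / Nat.gcd 2 (q - 1) = 3 ∨ (q + 1) / Nat.gcd 2 (q - 1) = 4) : ¬ 24 ∣ G := by
  have hq : q ≤ 9 := by
    rcases gcd_two_le q with h | h <;> rw [h] at hk <;> omega
  interval_cases q <;> simp at hk h7 hG <;> omega

theorem num811_A5 {q G : ℕ} (h4 : 4 ≤ q) (h9 : q ≠ 9) (hG : Nat.gcd 2 (q - 1) * G = q * (q ^ 2 - 1))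
    (hk : (q + 1) / Nat.gcd 2 (q - 1) = 3 ∨ (q + 1) / Nat.gcd 2 (q - 1) = 5) (h60 : 60 ∣ G) : G = 60 := by
  have hq : q ≤ 10 := by
    rcases gcd_two_le q with h | h <;> rw [h] at hk <;> omega
  interval_cases q <;> simp at hk h9 hG <;> omega

theorem num811_K {q r m : ℕ} (h4 : 4 ≤ q) (hrm : r ^ m = q) (hm : 2 ≤ m) (hr : 2 ≤ r) (hk : (q + 1) / Nat.gcd 2 (q - 1) ≤ r + 1) : False := by
  have h1 := div_gcd_mul_add q (by omega)
  have h2 : r ^ 2 ≤ q := by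
    rw [← hrm]
    exact Nat.pow_le_pow_right (by omega) hm
  have h3 : r = 2 := by
    by_contra h
    have hr3 : 3 ≤ r := by omega
    have h5 : q + 1 ≤ 2 * (r + 1) := by
      rw [← h1]
      exact Nat.mul_le_mul (by rcases gcd_two_le q with h | h <;> omega) hk
    nlinarith
  subst h3
  have h5 : Nat.gcd 2 (q - 1) = 1 := by
    rw [← hrm]
    exact gcd_of_two_pow (by omega)
  rw [h5] at hk
  omega

theorem num812_bound {q : ℕ} (h4 : 4 ≤ q) (h5 : q ≠ 5) (h7 : q ≠ 7) : 3 ≤ (q - 1) / Nat.gcd 2 (q - 1) := by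
  by_cases h8 : q ≤ 7
  · interval_cases q <;> simp at h5 h7 ⊢
  · rcases gcd_two_le q with h | h <;> rw [h] <;> omega

theorem num812_S4 {q G : ℕ} (h4 : 4 ≤ q) (h5 : q ≠ 5) (h7 : q ≠ 7) (h9 : q ≠ 9) (hG : Nat.gcd 2 (q - 1) * G = q * (q ^ 2 - 1))
    (hk : (q - 1) / Nat.gcd 2 (q - 1) = 3 ∨ (q - 1) / Nat.gcd 2 (q - 1) = 4) : ¬ 24 ∣ G := by
  have hq : q ≤ 10 := by
    rcases gcd_two_le q with h | h <;> rw [h] at hk <;> omega
  interval_cases q <;> simp at hk h5 h7 h9 hG <;> omega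

theorem num812_A5 {q G : ℕ} (h4 : 4 ≤ q) (h5 : q ≠ 5) (h7 : q ≠ 7) (h9 : q ≠ 9) (h11 : q ≠ 11) (hG : Nat.gcd 2 (q - 1) * G = q * (q ^ 2 - 1))
    (hk : (q - 1) / Nat.gcd 2 (q - 1) = 3 ∨ (q - 1) / Nat.gcd 2 (q - 1) = 5) (h60 : 60 ∣ G) : G = 60 := by
  have hq : q ≤ 12 := by
    rcases gcd_two_le q with h | h <;> rw [h] at hk <;> omega
  interval_cases q <;> simp at hk h5 h7 h9 h11 hG <;> omega

theorem num812_K {q r m : ℕ} (h4 : 4 ≤ q) (h9 : q ≠ 9) (hrm : r ^ m = q) (hm : 2 ≤ m) (hr : 2 ≤ r) (hk : (q - 1) / Nat.gcd 2 (q - 1) ≤ r + 1)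
    (hk4 : 4 * ((q - 1) / Nat.gcd 2 (q - 1)) ≤ r * (r ^ 2 - 1)) : False := by
  have h1 := div_gcd_mul_sub q
  have h2 : r ^ 2 ≤ q := by
    rw [← hrm]
    exact Nat.pow_le_pow_right (by omega) hm
  have h5 : q - 1 ≤ 2 * (r + 1) := by
    rw [← h1]
    exact Nat.mul_le_mul (by rcases gcd_two_le q with h | h <;> omega) hk
  have h3 : r ≤ 3 := by
    by_contra h
    have hr3 : 4 ≤ r := by omega
    have : q ≤ 2 * (r + 1) + 1 := by omega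
    nlinarith
  have h6 : r = 2 ∨ r = 3 := by omega
  rcases h6 with rfl | rfl
  · have h7 : Nat.gcd 2 (q - 1) = 1 := by
      rw [← hrm]
      exact gcd_of_two_pow (by omega)
    rw [h7] at hk hk4
    simp at hk4
    omega
  · apply h9
    have h7 : q ≤ 9 := by omega
    have h8 : 9 ≤ q := by
      have := h2
      omega
    omega

theorem num_top {q : ℕ} (h4 : 4 ≤ q) (h : 2 * (q + 1) = q * (q ^ 2 - 1)) : False := by
  have h1 : q + 2 ≤ q ^ 2 - 1 := by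
    have : q + 3 ≤ q ^ 2 := by nlinarith
    omega
  have h2 : q * (q + 2) ≤ q * (q ^ 2 - 1) := Nat.mul_le_mul_left _ h1
  nlinarith

theorem num_top2 {q : ℕ} (h4 : 4 ≤ q) (h : 2 * (q - 1) = q * (q ^ 2 - 1)) : False := by
  have h1 : q + 2 ≤ q ^ 2 - 1 := by
    have : q + 3 ≤ q ^ 2 := by nlinarith
    omega
  have h2 : q * (q + 2) ≤ q * (q ^ 2 - 1) := Nat.mul_le_mul_left _ h1
  have h3 : 2 * (q - 1) ≤ 2 * q := by omega
  nlinarith

end Cfsg.Agent.Lib.Classical
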