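import Mathlib
import Cfsg.Agent.Lib.Classical.DApps
import Cfsg.Agent.Lib.Classical.ProjLine
import Cfsg.Agent.Lib.Struct.Sylow

/-! Solvability of small and Borel type subgroups of `PSL₂`. -/

set_option autoImplicit false
set_option linter.unusedSimpArgs false
set_option linter.unusedVariables false
set_option linter.unusedSectionVars false
set_option linter.style.haveILetI false

namespace Cfsg.Agent.Lib.Classical

open Matrix MulAction Projectivization
open scoped MatrixGroups LinearAlgebra.Projectivization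

/-- The sign of the dihedral group. -/
def dihSign (c : ℕ) : DihedralGroup c →* Multiplicative (ZMod 2) where
  toFun x := match x with
    | DihedralGroup.r _ => 1
    | DihedralGroup.sr _ => Multiplicative.ofAdd 1
  map_one' := rfl
  map_mul' := by
    rintro (a | a) (b | b)
    · simp [DihedralGroup.r_mul_r]
    · simp [DihedralGroup.r_mul_sr]
    · simp [DihedralGroup.sr_mul_r]
    · simp only [DihedralGroup.sr_mul_sr]
      decide

/-- Rotations. -/
def dihRot (c : ℕ) : Multiplicative (ZMod c) →* DihedralGroup c where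
  toFun i := DihedralGroup.r (Multiplicative.toAdd i)
  map_one' := rfl
  map_mul' a b := by
    simp [DihedralGroup.r_mul_r]

theorem isSolvable_dihedral (c : ℕ) : Group.IsSolvable (DihedralGroup c) := by
  apply Group.isSolvable_of_ker_le_range (dihRot c) (dihSign c)
  rintro (a | a) h
  · exact ⟨Multiplicative.ofAdd a, rfl⟩
  · exfalso
    rw [MonoidHom.mem_ker] at h
    revert h
    change Multiplicative.ofAdd (1 : ZMod 2) = 1 → False
    decide

theorem isSolvable_of_equiv {G H : Type*} [Group G] [Group H] (e : G ≃* H) (h : Group.IsSolvable H) : Group.IsSolvable G :=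
  Group.isSolvable_of_isSolvable_injective (f := e.toMonoidHom) e.injective

/-- Small symmetric groups. -/
theorem perm_solvable_of_card_le {X : Type*} [Finite X] (h : Nat.card X ≤ 4) : Group.IsSolvable (Equiv.Perm X) := by
  classical
  haveI := Fintype.ofFinite X
  have h' : Fintype.card X ≤ Fintype.card (Fin 4) := by
    rw [← Nat.card_eq_fintype_card]
    simpa using h
  obtain ⟨ι⟩ := Function.Embedding.nonempty_of_card_le h'
  haveI := Cfsg.Agent.Lib.Struct.isSolvable_perm_fin_four
  exact Group.isSolvable_of_isSolvable_injective (f := Equiv.Perm.viaEmbeddingHom ι) (Equiv.Perm.viaEmbeddingHom_injective ι)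

variable {F : Type*} [Field F]

theorem psl_solvable_of_card_le [Finite F] (h : Nat.card F ≤ 3) : Group.IsSolvable (Pe F) := by
  haveI : Group.IsSolvable (Equiv.Perm (ℙ F (Fin 2 → F))) := perm_solvable_of_card_le (by
    rw [card_proj_line]
    omega)
  exact Group.isSolvable_of_isSolvable_injective (f := PSLAction.toPermHom (K := F) (ι := Fin 2)) (psl_toPerm_injective (F := F))

theorem pgl_solvable_of_card_le [Finite F] (h : Nat.card F ≤ 3) : Group.IsSolvable (Matrix.ProjGenLinGroup (Fin 2) F) := by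
  haveI : Group.IsSolvable (Equiv.Perm (ℙ F (Fin 2 → F))) := perm_solvable_of_card_le (by
    rw [card_proj_line]
    omega)
  apply Group.isSolvable_of_isSolvable_injective (f := MulAction.toPermHom (Matrix.ProjGenLinGroup (Fin 2) F) (ℙ F (Fin 2 → F)))
  rw [injective_iff_map_eq_one]
  intro g hg
  obtain ⟨h1, h2, h3⟩ := std_ne (F := F)
  have hfix : ∀ x : ℙ F (Fin 2 → F), g • x = x := fun x => by
    have := congrArg (fun s : Equiv.Perm (ℙ F (Fin 2 → F)) => s x) hg
    simpa using this
  exact pgl_two_sharply_three_transitive.2 g _ _ _ h1 h2 h3 (hfix _) (hfix _) (hfix _)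

/-- `PSL₂` is never commutative. -/
theorem psl_not_comm : ¬ IsMulCommutative (Pe F) := by
  intro h
  have h1 := (isMulCommutative_iff.1 h) (mkP (uu (1 : F))) (mkP (ll 1))
  rw [← mkP_mul, ← mkP_mul, mkP_eq_iff] at h1
  rcases h1 with h1 | h1
  · have e := congrArg (fun A : SL(2, F) => A.1 1 1) h1
    simp [sl_mul_apply] at e
  · have e1 := congrFun (congrFun h1 0) 1
    have e2 := congrFun (congrFun h1 0) 0
    have e1' : (ll 1 * uu (1 : F)).1 0 1 = - (uu (1 : F) * ll 1).1 0 1 := e1
    have e2' : (ll 1 * uu (1 : F)).1 0 0 = - (uu (1 : F) * ll 1).1 0 0 := e2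
    simp [sl_mul_apply] at e1' e2'
    have h2 : (1 : F) = 0 := by
      linear_combination (-1 : F) * e1' + e2'
    exact one_ne_zero h2

/-- The commutator of two upper triangular matrices. -/
theorem comm_upper (A B : SL(2, F)) (hA : A.1 1 0 = 0) (hB : B.1 1 0 = 0) : ∃ s, A * B * A⁻¹ * B⁻¹ = uu s := by
  have hdA := sl_det A
  have hdB := sl_det B
  rw [hA] at hdA
  rw [hB] at hdB
  refine ⟨(A * B * A⁻¹ * B⁻¹).1 0 1, ?_⟩
  apply sl_ext
  · simp [sl_mul_apply, sl_inv_00, sl_inv_01, sl_inv_10, sl_inv_11, hA, hB]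
    grind
  · simp
  · simp [sl_mul_apply, sl_inv_00, sl_inv_01, sl_inv_10, sl_inv_11, hA, hB]
  · simp [sl_mul_apply, sl_inv_00, sl_inv_01, sl_inv_10, sl_inv_11, hA, hB]
    grind

/-- Subgroups of the Borel subgroup are solvable. -/
theorem borel_solvable (K : Subgroup (Pe F)) (hK : ∀ A : SL(2, F), mkP A ∈ K → A.1 1 0 = 0) : Group.IsSolvable K := by
  rw [Group.isSolvable_def]
  refine ⟨2, ?_⟩
  have h1 : derivedSeries K 1 ≤ (Q0 F).subgroupOf K := by
    rw [derivedSeries_one, commutator_def, Subgroup.commutator_le]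
    rintro ⟨x, hx⟩ - ⟨y, hy⟩ -
    obtain ⟨A, rfl⟩ := mkP_surj x
    obtain ⟨B, rfl⟩ := mkP_surj y
    rw [Subgroup.mem_subgroupOf]
    obtain ⟨s, hs⟩ := comm_upper A B (hK A hx) (hK B hy)
    rw [mem_Q0]
    refine ⟨s, ?_⟩
    rw [← hs]
    rfl
  have h2 : derivedSeries K 2 = ⁅derivedSeries K 1, derivedSeries K 1⁆ := rfl
  rw [h2, eq_bot_iff, Subgroup.commutator_le]
  intro g₁ h₁ g₂ h₂
  have e1 := h1 h₁
  have e2 := h1 h₂
  rw [Subgroup.mem_subgroupOf, mem_Q0] at e1 e2
  obtain ⟨s, hs⟩ := e1
  obtain ⟨t, ht⟩ := e2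
  rw [Subgroup.mem_bot, commutatorElement_eq_one_iff_mul_comm]
  apply Subtype.ext
  change (g₁ : Pe F) * g₂ = g₂ * g₁
  rw [hs, ht, ← mkP_mul, ← mkP_mul, ← uu_add, ← uu_add, add_comm]

end Cfsg.Agent.Lib.Classical
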