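import Mathlib
import Cfsg.Agent.Lib.Classical.PslSub
import Cfsg.Agent.Lib.Classical.SL2Local

/-! Quaternion coordinates in `SL₂(F)`, `F` of odd characteristic. -/

set_option autoImplicit false
set_option linter.unusedSimpArgs false
set_option linter.unusedVariables false
set_option linter.unusedSectionVars false
set_option linter.style.haveILetI false

namespace Cfsg.Agent.Lib.Classical

open Matrix
open scoped MatrixGroups

/-- Splitting data of the Hamilton quaternions. -/
structure QSplit (F : Type*) [Field F] where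
  x : F
  y : F
  h : F
  hxy : x ^ 2 + y ^ 2 = -1
  hh : 2 * h = 1

namespace QSplit

variable {F : Type*} [Field F] (S : QSplit F)

/-- The matrix with quaternion coordinates `a + b i + c j + d k`. -/
def qm (a b c d : F) : Matrix (Fin 2) (Fin 2) F :=
  !![a + c * S.x + d * S.y, b + c * S.y - d * S.x; -b + c * S.y - d * S.x, a - c * S.x - d * S.y]

theorem qm_mul (a b c d e f g h : F) : S.qm a b c d * S.qm e f g h =
    S.qm (a * e - b * f - c * g - d * h) (a * f + b * e + c * h - d * g) (a * g - b * h + c * e + d * f) (a * h + b * g - c * f + d * e) := by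
  have hxy := S.hxy
  ext i j
  fin_cases i <;> fin_cases j <;> simp [qm, Matrix.mul_apply, Fin.sum_univ_two] <;> grind

theorem qm_det (a b c d : F) : (S.qm a b c d).det = a ^ 2 + b ^ 2 + c ^ 2 + d ^ 2 := by
  have hxy := S.hxy
  simp [qm, Matrix.det_fin_two]
  grind

include S in
theorem two_ne : (2 : F) ≠ 0 := by
  intro h
  have := S.hh
  rw [h, zero_mul] at this
  exact zero_ne_one this

/-- The element of `SL₂`. -/
def qs {a b c d : F} (h : a ^ 2 + b ^ 2 + c ^ 2 + d ^ 2 = 1) : SL(2, F) := ⟨S.qm a b c d, by rw [S.qm_det, h]⟩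

/-- The element of `PSL₂`. -/
noncomputable def P (a b c d : F) : Matrix.ProjectiveSpecialLinearGroup (Fin 2) F :=
  open _root_.Classical in
  if h : a ^ 2 + b ^ 2 + c ^ 2 + d ^ 2 = 1 then QuotientGroup.mk (S.qs h) else 1

theorem P_of {a b c d : F} (h : a ^ 2 + b ^ 2 + c ^ 2 + d ^ 2 = 1) :
    S.P a b c d = QuotientGroup.mk (S.qs h) := dif_pos h

theorem P_mul {a b c d e f g h p q r s : F} (h₁ : a ^ 2 + b ^ 2 + c ^ 2 + d ^ 2 = 1) (h₂ : e ^ 2 + f ^ 2 + g ^ 2 + h ^ 2 = 1)
    (e₀ : p = a * e - b * f - c * g - d * h) (e₁ : q = a * f + b * e + c * h - d * g) (e₂ : r = a * g - b * h + c * e + d * f)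
    (e₃ : s = a * h + b * g - c * f + d * e) : S.P a b c d * S.P e f g h = S.P p q r s := by
  have h₃ : p ^ 2 + q ^ 2 + r ^ 2 + s ^ 2 = 1 := by
    have h3 := congrArg Matrix.det (S.qm_mul a b c d e f g h)
    rw [Matrix.det_mul, S.qm_det, S.qm_det, S.qm_det, h₁, h₂, one_mul, ← e₀, ← e₁, ← e₂, ← e₃] at h3
    exact h3.symm
  rw [S.P_of h₁, S.P_of h₂, S.P_of h₃, ← QuotientGroup.mk_mul]
  congr 1
  apply Subtype.ext
  change S.qm a b c d * S.qm e f g h = S.qm p q r s
  rw [S.qm_mul, e₀, e₁, e₂, e₃]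

theorem P_neg (a b c d : F) : S.P (-a) (-b) (-c) (-d) = S.P a b c d := by
  by_cases h : a ^ 2 + b ^ 2 + c ^ 2 + d ^ 2 = 1
  · have h' : (-a) ^ 2 + (-b) ^ 2 + (-c) ^ 2 + (-d) ^ 2 = 1 := by
      simpa using h
    rw [S.P_of h, S.P_of h', QuotientGroup.eq, sl2_center_iff]
    right
    have hA : ∀ A : SL(2, F), ((A⁻¹ : SL(2, F)) : Matrix (Fin 2) (Fin 2) F) * (A : Matrix (Fin 2) (Fin 2) F) = 1 :=
      fun A => congrArg Subtype.val (inv_mul_cancel A)
    change ((_ : SL(2, F))⁻¹ : SL(2, F)).1 * S.qm a b c d = -1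
    have e : S.qm a b c d = - S.qm (-a) (-b) (-c) (-d) := by
      ext i j
      fin_cases i <;> fin_cases j <;> simp [qm] <;> ring
    rw [e, Matrix.mul_neg]
    congr 1
    exact hA (S.qs h')
  · have h' : ¬ (-a) ^ 2 + (-b) ^ 2 + (-c) ^ 2 + (-d) ^ 2 = 1 := by
      simpa using h
    rw [P, P, dif_neg h, dif_neg h']

theorem P_one : S.P 1 0 0 0 = 1 := by
  rw [S.P_of (by simp)]
  apply (QuotientGroup.eq_one_iff _).2
  rw [sl2_center_iff]
  left
  apply Subtype.ext
  change S.qm 1 0 0 0 = 1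
  ext i j
  fin_cases i <;> fin_cases j <;> simp [qm]

theorem eq_zero_of_mem {a b c d : F} (h : a ^ 2 + b ^ 2 + c ^ 2 + d ^ 2 = 1) (h1 : S.P a b c d = 1) : b = 0 ∧ c = 0 ∧ d = 0 := by
  rw [S.P_of h] at h1
  have h3 := (QuotientGroup.eq_one_iff _).1 h1
  rw [sl2_center_iff] at h3
  have hmat : ∃ r : F, S.qm a b c d = r • 1 := by
    rcases h3 with h3 | h3
    · refine ⟨1, ?_⟩
      have : S.qm a b c d = 1 := congrArg Subtype.val h3
      simpa using this
    · refine ⟨-1, ?_⟩
      change S.qm a b c d = -1 at h3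
      rw [h3]
      simp
  obtain ⟨r, hr⟩ := hmat
  have e01 := congrFun (congrFun hr 0) 1
  have e10 := congrFun (congrFun hr 1) 0
  have e00 := congrFun (congrFun hr 0) 0
  have e11 := congrFun (congrFun hr 1) 1
  simp [qm] at e01 e10 e00 e11
  have h2 := S.two_ne
  have hxy := S.hxy
  have hb : b = 0 := by
    have : 2 * b = 0 := by linear_combination e01 - e10
    exact (mul_eq_zero.1 this).resolve_left h2
  have e1 : c * S.y = d * S.x := by
    rw [hb] at e01
    linear_combination e01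
  have e2 : c * S.x = - (d * S.y) := by
    have : 2 * (c * S.x + d * S.y) = 0 := by linear_combination e00 - e11
    have := (mul_eq_zero.1 this).resolve_left h2
    linear_combination this
  refine ⟨hb, ?_, ?_⟩
  · linear_combination c * hxy - S.x * e2 - S.y * e1
  · linear_combination d * hxy - S.y * e2 + S.x * e1

theorem P_ne_one {a b c d : F} (h : a ^ 2 + b ^ 2 + c ^ 2 + d ^ 2 = 1) (h0 : b ≠ 0 ∨ c ≠ 0 ∨ d ≠ 0) : S.P a b c d ≠ 1 := by
  intro h1
  obtain ⟨hb, hc, hd⟩ := S.eq_zero_of_mem h h1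
  rcases h0 with h0 | h0 | h0
  · exact h0 hb
  · exact h0 hc
  · exact h0 hd

/-- Two elements of `PSL₂` agree only if their coordinates agree up to sign. -/
theorem coords_of_eq {a b c d e f g h : F} (h₁ : a ^ 2 + b ^ 2 + c ^ 2 + d ^ 2 = 1) (h₂ : e ^ 2 + f ^ 2 + g ^ 2 + h ^ 2 = 1)
    (he : S.P a b c d = S.P e f g h) :
    (a * f - b * e + c * h - d * g = 0) ∧ (a * g - b * h - c * e + d * f = 0) ∧ (a * h + b * g - c * f - d * e = 0) := by
  have hinv : S.P a b c d * S.P e (-f) (-g) (-h) = 1 := by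
    rw [he]
    rw [S.P_mul (p := 1) (q := 0) (r := 0) (s := 0) h₂ (by simpa using h₂) (by linear_combination -h₂) (by ring) (by ring) (by ring), S.P_one]
  have h3 := S.P_mul (p := a * e - b * (-f) - c * (-g) - d * (-h)) (q := a * (-f) + b * e + c * (-h) - d * (-g))
    (r := a * (-g) - b * (-h) + c * e + d * (-f)) (s := a * (-h) + b * (-g) - c * (-f) + d * e) h₁ (by simpa using h₂) rfl rfl rfl rfl
  rw [hinv] at h3
  have h4 := congrArg Matrix.det (S.qm_mul a b c d e (-f) (-g) (-h))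
  rw [Matrix.det_mul, S.qm_det, S.qm_det, S.qm_det, h₁] at h4
  have h5 := S.eq_zero_of_mem (a := a * e - b * (-f) - c * (-g) - d * (-h)) (b := a * (-f) + b * e + c * (-h) - d * (-g))
    (c := a * (-g) - b * (-h) + c * e + d * (-f)) (d := a * (-h) + b * (-g) - c * (-f) + d * e) (by
      rw [← h4]
      simpa using h₂) h3.symm
  obtain ⟨h6, h7, h8⟩ := h5
  refine ⟨?_, ?_, ?_⟩
  · linear_combination -h6
  · linear_combination -h7
  · linear_combination -h8

/-- The elements. -/
noncomputable def ia : Matrix.ProjectiveSpecialLinearGroup (Fin 2) F := S.P 0 1 0 0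
/-- The element `j`. -/
noncomputable def jb : Matrix.ProjectiveSpecialLinearGroup (Fin 2) F := S.P 0 0 1 0
/-- The element `k`. -/
noncomputable def kk : Matrix.ProjectiveSpecialLinearGroup (Fin 2) F := S.P 0 0 0 1
/-- The element `ω`. -/
noncomputable def om : Matrix.ProjectiveSpecialLinearGroup (Fin 2) F := S.P (-S.h) S.h S.h S.h
/-- The element `ω²`. -/
noncomputable def om2 : Matrix.ProjectiveSpecialLinearGroup (Fin 2) F := S.P (-S.h) (-S.h) (-S.h) (-S.h)

theorem norm_om : (-S.h) ^ 2 + S.h ^ 2 + S.h ^ 2 + S.h ^ 2 = 1 := by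
  have := S.hh
  grind

theorem norm_om2 : (-S.h) ^ 2 + (-S.h) ^ 2 + (-S.h) ^ 2 + (-S.h) ^ 2 = 1 := by
  have := S.hh
  grind

theorem h_ne : S.h ≠ 0 := by
  intro h
  have := S.hh
  rw [h, mul_zero] at this
  exact zero_ne_one this

theorem ia_ia : S.ia * S.ia = 1 := by
  rw [ia, S.P_mul (p := -1) (q := 0) (r := 0) (s := 0) (by norm_num) (by norm_num) (by ring) (by ring) (by ring) (by ring)]
  have := S.P_neg 1 0 0 0
  simp only [neg_zero] at this
  rw [this, S.P_one]

theorem jb_jb : S.jb * S.jb = 1 := by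
  rw [jb, S.P_mul (p := -1) (q := 0) (r := 0) (s := 0) (by norm_num) (by norm_num) (by ring) (by ring) (by ring) (by ring)]
  have := S.P_neg 1 0 0 0
  simp only [neg_zero] at this
  rw [this, S.P_one]

theorem ia_jb : S.ia * S.jb = S.kk := by
  rw [ia, jb, kk, S.P_mul (p := 0) (q := 0) (r := 0) (s := 1) (by norm_num) (by norm_num) (by ring) (by ring) (by ring) (by ring)]

theorem jb_ia : S.jb * S.ia = S.kk := by
  rw [ia, jb, kk, S.P_mul (p := 0) (q := 0) (r := 0) (s := -1) (by norm_num) (by norm_num) (by ring) (by ring) (by ring) (by ring)]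
  have := S.P_neg 0 0 0 1
  simp only [neg_zero] at this
  exact this

theorem om_ia : S.om * S.ia = S.kk * S.om := by
  have hh := S.hh
  rw [om, ia, kk, S.P_mul (p := -S.h) (q := -S.h) (r := S.h) (s := -S.h) S.norm_om (by norm_num) (by ring) (by ring) (by ring) (by ring),
    S.P_mul (p := -S.h) (q := -S.h) (r := S.h) (s := -S.h) (by norm_num) S.norm_om (by ring) (by ring) (by ring) (by ring)]

theorem om_jb : S.om * S.jb = S.ia * S.om := by
  rw [om, ia, jb, S.P_mul (p := -S.h) (q := -S.h) (r := -S.h) (s := S.h) S.norm_om (by norm_num) (by ring) (by ring) (by ring) (by ring),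
    S.P_mul (p := -S.h) (q := -S.h) (r := -S.h) (s := S.h) (by norm_num) S.norm_om (by ring) (by ring) (by ring) (by ring)]

theorem om_om : S.om * S.om = S.om2 := by
  have hh := S.hh
  rw [om, om2, S.P_mul (p := -S.h) (q := -S.h) (r := -S.h) (s := -S.h) S.norm_om S.norm_om (by grind) (by grind) (by grind) (by grind)]

theorem om_pow : S.om ^ 3 = 1 := by
  have hh := S.hh
  rw [pow_succ, pow_two, S.om_om, om, om2, S.P_mul (p := 1) (q := 0) (r := 0) (s := 0) S.norm_om2 S.norm_om (by grind) (by grind) (by grind) (by grind), S.P_one]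

theorem ia_ne : S.ia ≠ 1 := S.P_ne_one (by norm_num) (Or.inl one_ne_zero)
theorem jb_ne : S.jb ≠ 1 := S.P_ne_one (by norm_num) (Or.inr (Or.inl one_ne_zero))
theorem kk_ne : S.kk ≠ 1 := S.P_ne_one (by norm_num) (Or.inr (Or.inr one_ne_zero))
theorem om_ne : S.om ≠ 1 := S.P_ne_one S.norm_om (Or.inl S.h_ne)

theorem ia_ne_jb : S.ia ≠ S.jb := by
  intro h
  have h1 := S.ia_jb
  rw [← h, S.ia_ia] at h1
  exact S.kk_ne h1.symm

/-- `A₄` data. -/
noncomputable def a4 : A4Data (Matrix.ProjectiveSpecialLinearGroup (Fin 2) F) where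
  a := S.ia
  b := S.jb
  w := S.om
  ha := by rw [pow_two, S.ia_ia]
  hb := by rw [pow_two, S.jb_jb]
  hab := by rw [S.ia_jb, S.jb_ia]
  ha1 := S.ia_ne
  hb1 := S.jb_ne
  hne := S.ia_ne_jb
  hw3 := S.om_pow
  hw1 := S.om_ne
  h1 := by rw [mul_inv_eq_iff_eq_mul, S.om_ia, S.ia_jb]
  h2 := by rw [mul_inv_eq_iff_eq_mul, S.om_jb]

end QSplit

end Cfsg.Agent.Lib.Classical
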