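import Mathlib
import Cfsg.Agent.Lib.Classical.PslQuat

/-! The binary icosahedral group in `SL₂(F)`, `F` of odd characteristic: `A₅` in `PSL₂(F)`. -/

set_option autoImplicit false
set_option linter.unusedSimpArgs false
set_option linter.unusedVariables false
set_option linter.unusedSectionVars false
set_option linter.style.haveILetI false

namespace Cfsg.Agent.Lib.Classical

namespace QSplit

variable {F : Type*} [Field F] [Finite F] (S : QSplit F) (φ : F) (hφ : φ ^ 2 = φ + 1)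

theorem P_mul_eq {a b c d e f g h a' b' c' d' e' f' g' h' : F} (h₁ : a ^ 2 + b ^ 2 + c ^ 2 + d ^ 2 = 1) (h₂ : e ^ 2 + f ^ 2 + g ^ 2 + h ^ 2 = 1)
    (h₃ : a' ^ 2 + b' ^ 2 + c' ^ 2 + d' ^ 2 = 1) (h₄ : e' ^ 2 + f' ^ 2 + g' ^ 2 + h' ^ 2 = 1)
    (e₀ : a * e - b * f - c * g - d * h = a' * e' - b' * f' - c' * g' - d' * h')
    (e₁ : a * f + b * e + c * h - d * g = a' * f' + b' * e' + c' * h' - d' * g')
    (e₂ : a * g - b * h + c * e + d * f = a' * g' - b' * h' + c' * e' + d' * f')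
    (e₃ : a * h + b * g - c * f + d * e = a' * h' + b' * g' - c' * f' + d' * e') :
    S.P a b c d * S.P e f g h = S.P a' b' c' d' * S.P e' f' g' h' := by
  rw [S.P_mul h₁ h₂ rfl rfl rfl rfl, S.P_mul h₃ h₄ rfl rfl rfl rfl, e₀, e₁, e₂, e₃]

/-- The element of order five. -/
noncomputable def tt : Matrix.ProjectiveSpecialLinearGroup (Fin 2) F := S.P (φ * S.h) ((-1 + φ) * S.h) S.h 0

include hφ in
theorem norm_t : (φ * S.h) ^ 2 + ((-1 + φ) * S.h) ^ 2 + S.h ^ 2 + (0 : F) ^ 2 = 1 := by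
  have hh := S.hh
  grind

include S hφ in
theorem phi_ne_one : φ ≠ 1 := by
  intro h
  have h2 := S.two_ne
  rw [h] at hφ
  norm_num at hφ
  exact one_ne_zero (show (1 : F) = 0 by linear_combination -hφ)

include hφ in
theorem phi_ne_zero : φ ≠ 0 := by
  intro h
  rw [h] at hφ
  norm_num at hφ

include hφ in
theorem norm_t2 : (((-1 + φ) * S.h) ^ 2 + S.h ^ 2 + (φ * S.h) ^ 2 + 0 ^ 2 : F) = 1 := by
  have hh := S.hh
  grind

include hφ in
theorem norm_t3 : (((1 - φ) * S.h) ^ 2 + S.h ^ 2 + (φ * S.h) ^ 2 + 0 ^ 2 : F) = 1 := by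
  have hh := S.hh
  grind

include hφ in
theorem norm_t4 : ((-φ * S.h) ^ 2 + ((-1 + φ) * S.h) ^ 2 + S.h ^ 2 + 0 ^ 2 : F) = 1 := by
  have hh := S.hh
  grind

include hφ in
theorem t_pow_two : S.tt φ ^ 2 = S.P ((-1 + φ) * S.h) S.h (φ * S.h) 0 := by
  have hh := S.hh
  rw [pow_two, tt]
  exact S.P_mul (S.norm_t φ hφ) (S.norm_t φ hφ) (by grind) (by grind) (by grind) (by grind)

include hφ in
theorem t_pow_three : S.tt φ ^ 3 = S.P ((1 - φ) * S.h) S.h (φ * S.h) 0 := by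
  have hh := S.hh
  rw [pow_succ, S.t_pow_two φ hφ, tt]
  exact S.P_mul (S.norm_t2 φ hφ) (S.norm_t φ hφ) (by grind) (by grind) (by grind) (by grind)

include hφ in
theorem t_pow_four : S.tt φ ^ 4 = S.P (-φ * S.h) ((-1 + φ) * S.h) S.h 0 := by
  have hh := S.hh
  rw [pow_succ, S.t_pow_three φ hφ, tt]
  exact S.P_mul (S.norm_t3 φ hφ) (S.norm_t φ hφ) (by grind) (by grind) (by grind) (by grind)

include hφ in
theorem t_pow_five : S.tt φ ^ 5 = 1 := by
  have hh := S.hh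
  rw [pow_succ, S.t_pow_four φ hφ, tt, S.P_mul (p := -1) (q := 0) (r := 0) (s := 0) (S.norm_t4 φ hφ) (S.norm_t φ hφ) (by grind) (by grind) (by grind) (by grind)]
  have := S.P_neg 1 0 0 0
  simp only [neg_zero] at this
  rw [this, S.P_one]

include hφ in
theorem t_ne_one : S.tt φ ≠ 1 := S.P_ne_one (S.norm_t φ hφ) (Or.inr (Or.inl S.h_ne))

theorem mem_T_of_eq {y : Matrix.ProjectiveSpecialLinearGroup (Fin 2) F} (hy : y ∈ S.a4.T) {A x B : Matrix.ProjectiveSpecialLinearGroup (Fin 2) F}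
    (h : A * x = y * B) : A * x * B⁻¹ ∈ S.a4.T := by
  rw [h]
  simpa using hy

theorem pow_w_mem (k : ℕ) : S.a4.w ^ k ∈ S.a4.T := S.a4.T.pow_mem S.a4.w_mem_T k

theorem i_mem : S.ia ∈ S.a4.T := S.a4.V_le_T S.a4.a_mem
theorem j_mem : S.jb ∈ S.a4.T := S.a4.V_le_T S.a4.b_mem
theorem k_mem : S.kk ∈ S.a4.T := S.a4.T.mul_mem S.i_mem S.j_mem |> (fun h => by rw [← S.ia_jb]; exact h)
theorem w_mem : S.om ∈ S.a4.T := S.a4.w_mem_T
theorem w2_mem : S.om2 ∈ S.a4.T := by
  rw [← S.om_om]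
  exact S.a4.T.mul_mem S.w_mem S.w_mem

theorem mem_y1 : S.P 0 1 0 0 ∈ S.a4.T := by
  have e : S.P 0 1 0 0 = S.ia := rfl
  rw [e]
  exact S.i_mem

theorem mem_y2 : S.P S.h (-S.h) S.h (-S.h) ∈ S.a4.T := by
  have hh := S.hh
  have e : S.ia * S.om2 = S.P S.h (-S.h) S.h (-S.h) := by
    rw [ia, om2]
    exact S.P_mul (by norm_num) S.norm_om2 (by grind) (by grind) (by grind) (by grind)
  rw [← e]
  exact S.a4.T.mul_mem S.i_mem S.w2_mem

theorem mem_y3 : S.P S.h (-S.h) S.h S.h ∈ S.a4.T := by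
  have hh := S.hh
  have e : S.jb * S.om = S.P S.h (-S.h) S.h S.h := by
    rw [jb, om]
    rw [S.P_mul (p := (-S.h)) (q := S.h) (r := (-S.h)) (s := (-S.h)) (by norm_num) S.norm_om (by grind) (by grind) (by grind) (by grind)]
    have := S.P_neg S.h (-S.h) S.h S.h
    simp only [neg_neg, neg_zero] at this
    exact this
  rw [← e]
  exact S.a4.T.mul_mem S.j_mem S.w_mem

theorem mem_y4 : S.P (-S.h) (-S.h) S.h (-S.h) ∈ S.a4.T := by
  have hh := S.hh
  have e : S.kk * S.om = S.P (-S.h) (-S.h) S.h (-S.h) := by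
    rw [kk, om]
    exact S.P_mul (by norm_num) S.norm_om (by grind) (by grind) (by grind) (by grind)
  rw [← e]
  exact S.a4.T.mul_mem S.k_mem S.w_mem

theorem mem_y5 : S.P (-S.h) (-S.h) S.h S.h ∈ S.a4.T := by
  have hh := S.hh
  have e : S.kk * S.om2 = S.P (-S.h) (-S.h) S.h S.h := by
    rw [kk, om2]
    rw [S.P_mul (p := S.h) (q := S.h) (r := (-S.h)) (s := (-S.h)) (by norm_num) S.norm_om2 (by grind) (by grind) (by grind) (by grind)]
    have := S.P_neg (-S.h) (-S.h) S.h S.h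
    simp only [neg_neg, neg_zero] at this
    exact this
  rw [← e]
  exact S.a4.T.mul_mem S.k_mem S.w2_mem

theorem mem_y6 : S.P 0 0 1 0 ∈ S.a4.T := by
  have e : S.P 0 0 1 0 = S.jb := rfl
  rw [e]
  exact S.j_mem

theorem mem_y7 : S.P S.h S.h S.h S.h ∈ S.a4.T := by
  have e : S.P S.h S.h S.h S.h = S.om2 := by
    have := S.P_neg S.h S.h S.h S.h
    rw [om2]
    exact this.symm
  rw [e]
  exact S.w2_mem

theorem mem_y8 : S.P (-S.h) S.h S.h S.h ∈ S.a4.T := by
  have e : S.P (-S.h) S.h S.h S.h = S.om := rfl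
  rw [e]
  exact S.w_mem

theorem mem_y9 : S.P S.h S.h S.h (-S.h) ∈ S.a4.T := by
  have hh := S.hh
  have e : S.ia * S.om = S.P S.h S.h S.h (-S.h) := by
    rw [ia, om]
    rw [S.P_mul (p := (-S.h)) (q := (-S.h)) (r := (-S.h)) (s := S.h) (by norm_num) S.norm_om (by grind) (by grind) (by grind) (by grind)]
    have := S.P_neg S.h S.h S.h (-S.h)
    simp only [neg_neg, neg_zero] at this
    exact this
  rw [← e]
  exact S.a4.T.mul_mem S.i_mem S.w_mem

theorem mem_y10 : S.P (-S.h) S.h S.h (-S.h) ∈ S.a4.T := by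
  have hh := S.hh
  have e : S.jb * S.om2 = S.P (-S.h) S.h S.h (-S.h) := by
    rw [jb, om2]
    rw [S.P_mul (p := S.h) (q := (-S.h)) (r := (-S.h)) (s := S.h) (by norm_num) S.norm_om2 (by grind) (by grind) (by grind) (by grind)]
    have := S.P_neg (-S.h) S.h S.h (-S.h)
    simp only [neg_neg, neg_zero] at this
    exact this
  rw [← e]
  exact S.a4.T.mul_mem S.j_mem S.w2_mem

theorem mem_y11 : S.P (-S.h) (-S.h) (-S.h) (-S.h) ∈ S.a4.T := by
  have e : S.P (-S.h) (-S.h) (-S.h) (-S.h) = S.om2 := rfl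
  rw [e]
  exact S.w2_mem

include hφ in
theorem cos_a : ∀ n : ℕ, n < 5 → ∃ m : ℕ, m < 5 ∧ S.tt φ ^ n * S.ia * (S.tt φ ^ m)⁻¹ ∈ S.a4.T := by
  have hh := S.hh
  intro n hn
  interval_cases n
  · refine ⟨0, by norm_num, ?_⟩
    simpa using S.i_mem
  · refine ⟨3, by norm_num, S.mem_T_of_eq (S.mem_y2) ?_⟩
    simp only [pow_one, S.t_pow_three φ hφ]
    simp only [tt, ia]
    exact S.P_mul_eq (S.norm_t φ hφ) (by norm_num) (by grind) (S.norm_t3 φ hφ) (by grind) (by grind) (by grind) (by grind)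
  · refine ⟨4, by norm_num, S.mem_T_of_eq (S.mem_y3) ?_⟩
    simp only [S.t_pow_two φ hφ, S.t_pow_four φ hφ]
    simp only [tt, ia]
    exact S.P_mul_eq (S.norm_t2 φ hφ) (by norm_num) (by grind) (S.norm_t4 φ hφ) (by grind) (by grind) (by grind) (by grind)
  · refine ⟨1, by norm_num, S.mem_T_of_eq (S.mem_y4) ?_⟩
    simp only [S.t_pow_three φ hφ, pow_one]
    simp only [tt, ia]
    exact S.P_mul_eq (S.norm_t3 φ hφ) (by norm_num) (by grind) (S.norm_t φ hφ) (by grind) (by grind) (by grind) (by grind)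
  · refine ⟨2, by norm_num, S.mem_T_of_eq (S.mem_y5) ?_⟩
    simp only [S.t_pow_four φ hφ, S.t_pow_two φ hφ]
    simp only [tt, ia]
    exact S.P_mul_eq (S.norm_t4 φ hφ) (by norm_num) (by grind) (S.norm_t2 φ hφ) (by grind) (by grind) (by grind) (by grind)

include hφ in
theorem cos_b : ∀ n : ℕ, n < 5 → ∃ m : ℕ, m < 5 ∧ S.tt φ ^ n * S.jb * (S.tt φ ^ m)⁻¹ ∈ S.a4.T := by
  have hh := S.hh
  intro n hn
  interval_cases n
  · refine ⟨0, by norm_num, ?_⟩
    simpa using S.j_mem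
  · refine ⟨2, by norm_num, S.mem_T_of_eq (S.mem_y7) ?_⟩
    simp only [pow_one, S.t_pow_two φ hφ]
    simp only [tt, jb]
    exact S.P_mul_eq (S.norm_t φ hφ) (by norm_num) (by grind) (S.norm_t2 φ hφ) (by grind) (by grind) (by grind) (by grind)
  · refine ⟨1, by norm_num, S.mem_T_of_eq (S.mem_y8) ?_⟩
    simp only [S.t_pow_two φ hφ, pow_one]
    simp only [tt, jb]
    exact S.P_mul_eq (S.norm_t2 φ hφ) (by norm_num) (by grind) (S.norm_t φ hφ) (by grind) (by grind) (by grind) (by grind)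
  · refine ⟨4, by norm_num, S.mem_T_of_eq (S.mem_y9) ?_⟩
    simp only [S.t_pow_three φ hφ, S.t_pow_four φ hφ]
    simp only [tt, jb]
    exact S.P_mul_eq (S.norm_t3 φ hφ) (by norm_num) (by grind) (S.norm_t4 φ hφ) (by grind) (by grind) (by grind) (by grind)
  · refine ⟨3, by norm_num, S.mem_T_of_eq (S.mem_y10) ?_⟩
    simp only [S.t_pow_four φ hφ, S.t_pow_three φ hφ]
    simp only [tt, jb]
    exact S.P_mul_eq (S.norm_t4 φ hφ) (by norm_num) (by grind) (S.norm_t3 φ hφ) (by grind) (by grind) (by grind) (by grind)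

include hφ in
theorem cos_w : ∀ n : ℕ, n < 5 → ∃ m : ℕ, m < 5 ∧ S.tt φ ^ n * S.om * (S.tt φ ^ m)⁻¹ ∈ S.a4.T := by
  have hh := S.hh
  intro n hn
  interval_cases n
  · refine ⟨0, by norm_num, ?_⟩
    simpa using S.w_mem
  · refine ⟨3, by norm_num, S.mem_T_of_eq (S.mem_y9) ?_⟩
    simp only [pow_one, S.t_pow_three φ hφ]
    simp only [tt, om]
    exact S.P_mul_eq (S.norm_t φ hφ) S.norm_om (by grind) (S.norm_t3 φ hφ) (by grind) (by grind) (by grind) (by grind)
  · refine ⟨2, by norm_num, S.mem_T_of_eq (S.mem_y10) ?_⟩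
    simp only [S.t_pow_two φ hφ, S.t_pow_two φ hφ]
    simp only [tt, om]
    exact S.P_mul_eq (S.norm_t2 φ hφ) S.norm_om (by grind) (S.norm_t2 φ hφ) (by grind) (by grind) (by grind) (by grind)
  · refine ⟨4, by norm_num, S.mem_T_of_eq (S.mem_y6) ?_⟩
    simp only [S.t_pow_three φ hφ, S.t_pow_four φ hφ]
    simp only [tt, om]
    exact S.P_mul_eq (S.norm_t3 φ hφ) S.norm_om (by grind) (S.norm_t4 φ hφ) (by grind) (by grind) (by grind) (by grind)
  · refine ⟨1, by norm_num, S.mem_T_of_eq (S.mem_y11) ?_⟩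
    simp only [S.t_pow_four φ hφ, pow_one]
    simp only [tt, om]
    exact S.P_mul_eq (S.norm_t4 φ hφ) S.norm_om (by grind) (S.norm_t φ hφ) (by grind) (by grind) (by grind) (by grind)

/-- The conjugate of `i` by `t`. -/
noncomputable def cC : Matrix.ProjectiveSpecialLinearGroup (Fin 2) F := S.P 0 S.h ((-1 + φ) * S.h) (-φ * S.h)

include hφ in
theorem norm_cC : (0 : F) ^ 2 + S.h ^ 2 + ((-1 + φ) * S.h) ^ 2 + (-φ * S.h) ^ 2 = 1 := by
  have hh := S.hh
  grind

include hφ in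
theorem t_conj : S.tt φ * S.ia * (S.tt φ)⁻¹ = S.cC φ := by
  have hh := S.hh
  rw [mul_inv_eq_iff_eq_mul, tt, ia, cC]
  exact S.P_mul_eq (S.norm_t φ hφ) (by norm_num) (S.norm_cC φ hφ) (S.norm_t φ hφ) (by grind) (by grind) (by grind) (by grind)

include hφ in
theorem cC_not_mem : S.cC φ ∉ S.a4.V := by
  have hφ1 := S.phi_ne_one φ hφ
  have hφ0 := phi_ne_zero φ hφ
  have hn := S.norm_cC φ hφ
  have hh0 := S.h_ne
  have hφ2 : -1 + φ ≠ 0 := fun h => hφ1 (by linear_combination h)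
  rintro (h | h | h | h)
  · rw [← S.P_one] at h
    obtain ⟨h1, -, -⟩ := S.coords_of_eq hn (by norm_num) h
    apply hh0
    linear_combination -h1
  · obtain ⟨-, h1, -⟩ := S.coords_of_eq (e := 0) (f := 1) (g := 0) (h := 0) hn (by norm_num) h
    exact mul_ne_zero hφ0 hh0 (by linear_combination -h1)
  · obtain ⟨h1, -, -⟩ := S.coords_of_eq (e := 0) (f := 0) (g := 1) (h := 0) hn (by norm_num) h
    exact mul_ne_zero hφ0 hh0 (by linear_combination h1)
  · have h2 : S.cC φ = S.kk := by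
      rw [h]
      exact S.ia_jb
    obtain ⟨h1, -, -⟩ := S.coords_of_eq (e := 0) (f := 0) (g := 0) (h := 1) hn (by norm_num) h2
    exact mul_ne_zero hφ2 hh0 (by linear_combination h1)

/-- `A₅` data in `PSL₂(F)`. -/
noncomputable def a5 : A5Data (Matrix.ProjectiveSpecialLinearGroup (Fin 2) F) where
  toA4Data := S.a4
  t := S.tt φ
  ht5 := S.t_pow_five φ hφ
  ht1 := S.t_ne_one φ hφ
  hcosa := S.cos_a φ hφ
  hcosb := S.cos_b φ hφ
  hcosw := S.cos_w φ hφ
  hnot := by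
    change S.tt φ * S.ia * (S.tt φ)⁻¹ ∉ S.a4.V
    rw [S.t_conj φ hφ]
    exact S.cC_not_mem φ hφ

variable (s : F) (hs : s ^ 2 = 2)

/-- The involution of the octahedral group. -/
noncomputable def rr : Matrix.ProjectiveSpecialLinearGroup (Fin 2) F := S.P 0 (s * S.h) (-s * S.h) 0

include hs in
theorem norm_r : (0 : F) ^ 2 + (s * S.h) ^ 2 + (-s * S.h) ^ 2 + (0 : F) ^ 2 = 1 := by
  have hh := S.hh
  grind

theorem jb_eq_neg : S.jb = S.P 0 0 (-1) 0 := by
  have := S.P_neg 0 0 (-1) 0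
  simp only [neg_neg, neg_zero] at this
  exact this

theorem ia_eq_neg : S.ia = S.P 0 (-1) 0 0 := by
  have := S.P_neg 0 (-1) 0 0
  simp only [neg_neg, neg_zero] at this
  exact this

include hs in
theorem r_sq : S.rr s ^ 2 = 1 := by
  have hh := S.hh
  rw [pow_two, rr, S.P_mul (p := -1) (q := 0) (r := 0) (s := 0) (S.norm_r s hs) (S.norm_r s hs) (by grind) (by grind) (by grind) (by grind)]
  have := S.P_neg 1 0 0 0
  simp only [neg_zero] at this
  rw [this, S.P_one]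

include hs in
theorem r_i : S.rr s * S.ia = S.jb * S.rr s := by
  have hh := S.hh
  rw [S.jb_eq_neg, rr, ia]
  exact S.P_mul_eq (S.norm_r s hs) (by norm_num) (by norm_num) (S.norm_r s hs) (by grind) (by grind) (by grind) (by grind)

include hs in
theorem r_j : S.rr s * S.jb = S.ia * S.rr s := by
  have hh := S.hh
  rw [S.ia_eq_neg, rr, jb]
  exact S.P_mul_eq (S.norm_r s hs) (by norm_num) (by norm_num) (S.norm_r s hs) (by grind) (by grind) (by grind) (by grind)

include hs in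
theorem r_w : S.rr s * S.om = S.om2 * S.rr s := by
  have hh := S.hh
  rw [rr, om, om2]
  exact S.P_mul_eq (S.norm_r s hs) S.norm_om S.norm_om2 (S.norm_r s hs) (by grind) (by grind) (by grind) (by grind)

theorem om_inv : S.om⁻¹ = S.om2 := by
  rw [← S.om_om]
  apply inv_eq_of_mul_eq_one_right
  have := S.om_pow
  rw [pow_succ, pow_two] at this
  rw [← mul_assoc]
  exact this

/-- `S₄` data in `PSL₂(F)`. -/
noncomputable def s4 : S4Data (Matrix.ProjectiveSpecialLinearGroup (Fin 2) F) where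
  toA4Data := S.a4
  r := S.rr s
  hr2 := S.r_sq s hs
  hra := by
    change S.rr s * S.ia * (S.rr s)⁻¹ = S.jb
    rw [S.r_i s hs]
    simp
  hrb := by
    change S.rr s * S.jb * (S.rr s)⁻¹ = S.ia
    rw [S.r_j s hs]
    simp
  hrw := by
    change S.rr s * S.om * (S.rr s)⁻¹ = S.om⁻¹
    rw [S.r_w s hs, S.om_inv]
    simp

/-- Every finite field of odd order gives a splitting. -/
theorem nonempty_of_odd {F : Type*} [Field F] [Fintype F] (h : Fintype.card F % 2 = 1) : Nonempty (QSplit F) := by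
  have h2 : (2 : F) ≠ 0 := two_ne_zero_of_odd (Nat.odd_iff.2 h)
  obtain ⟨a, b, hab⟩ := FiniteField.exists_root_sum_quadratic (f := Polynomial.X ^ 2) (g := Polynomial.X ^ 2 + Polynomial.C 1)
    (by simp) (by compute_degree!) h
  simp at hab
  exact ⟨⟨a, b, 2⁻¹, by linear_combination hab, mul_inv_cancel₀ h2⟩⟩

end QSplit

end Cfsg.Agent.Lib.Classical
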