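import Mathlib
import Cfsg.Agent.Lib.Classical.PslIco
import Cfsg.Agent.Lib.Classical.SubfieldPSL

/-! `A₄`, `S₄`, `A₅` in `PSL₂`: existence and non-existence. -/

set_option autoImplicit false
set_option linter.unusedSimpArgs false
set_option linter.unusedVariables false
set_option linter.unusedSectionVars false
set_option linter.style.haveILetI false

namespace Cfsg.Agent.Lib.Classical

open Matrix
open scoped MatrixGroups

/-- Transport along an injective homomorphism. -/
def A4Data.map {G G' : Type*} [Group G] [Group G'] (f : G →* G') (hf : Function.Injective f) (D : A4Data G) : A4Data G' where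
  a := f D.a
  b := f D.b
  w := f D.w
  ha := by rw [← map_pow, D.ha, map_one]
  hb := by rw [← map_pow, D.hb, map_one]
  hab := by rw [← map_mul, D.hab, map_mul]
  ha1 := fun h => D.ha1 (hf (by rw [h, map_one]))
  hb1 := fun h => D.hb1 (hf (by rw [h, map_one]))
  hne := fun h => D.hne (hf h)
  hw3 := by rw [← map_pow, D.hw3, map_one]
  hw1 := fun h => D.hw1 (hf (by rw [h, map_one]))
  h1 := by rw [← map_inv, ← map_mul, ← map_mul, D.h1, map_mul]
  h2 := by rw [← map_inv, ← map_mul, ← map_mul, D.h2]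

/-- `A₄` data in `A₄`. -/
def a4DataAlt4 : A4Data (alternatingGroup (Fin 4)) where
  a := ⟨Equiv.swap 0 1 * Equiv.swap 2 3, by rw [Equiv.Perm.mem_alternatingGroup]; decide⟩
  b := ⟨Equiv.swap 0 2 * Equiv.swap 1 3, by rw [Equiv.Perm.mem_alternatingGroup]; decide⟩
  w := ⟨Equiv.swap 1 3 * Equiv.swap 3 2, by rw [Equiv.Perm.mem_alternatingGroup]; decide⟩
  ha := by decide
  hb := by decide
  hab := by decide
  ha1 := by decide
  hb1 := by decide
  hne := by decide
  hw3 := by decide
  hw1 := by decide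
  h1 := by decide
  h2 := by decide

/-- `A₄` data in `A₅`. -/
def a4DataAlt5 : A4Data (alternatingGroup (Fin 5)) where
  a := ⟨Equiv.swap 0 1 * Equiv.swap 2 3, by rw [Equiv.Perm.mem_alternatingGroup]; decide⟩
  b := ⟨Equiv.swap 0 2 * Equiv.swap 1 3, by rw [Equiv.Perm.mem_alternatingGroup]; decide⟩
  w := ⟨Equiv.swap 1 3 * Equiv.swap 3 2, by rw [Equiv.Perm.mem_alternatingGroup]; decide⟩
  ha := by decide
  hb := by decide
  hab := by decide
  ha1 := by decide
  hb1 := by decide
  hne := by decide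
  hw3 := by decide
  hw1 := by decide
  h1 := by decide
  h2 := by decide

variable {F : Type*} [Field F]

/-- In characteristic two the projection `SL₂ → PSL₂` is injective. -/
theorem mk_injective_char_two (h2 : (2 : F) = 0) :
    Function.Injective (QuotientGroup.mk : SL(2, F) → Matrix.ProjectiveSpecialLinearGroup (Fin 2) F) := by
  intro x y h
  rw [QuotientGroup.eq, sl2_center_iff] at h
  have hneg : (-1 : Matrix (Fin 2) (Fin 2) F) = 1 := by
    have : (-1 : F) = 1 := by linear_combination -h2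
    ext i j
    fin_cases i <;> fin_cases j <;> simp [this]
  have h1 : x⁻¹ * y = 1 := by
    rcases h with h | h
    · exact h
    · apply Subtype.ext
      rw [h, hneg]
      rfl
  exact (inv_mul_eq_one.1 h1)

/-- An element of order dividing four in characteristic two is an involution. -/
theorem sl2_sq_of_pow_four (h2 : (2 : F) = 0) (A : SL(2, F)) (h : A ^ 4 = 1) : A ^ 2 = 1 := by
  have hdet := A.2
  rw [Matrix.det_fin_two] at hdet
  set a := (A : Matrix (Fin 2) (Fin 2) F) 0 0 with ha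
  set b := (A : Matrix (Fin 2) (Fin 2) F) 0 1 with hb
  set c := (A : Matrix (Fin 2) (Fin 2) F) 1 0 with hc
  set d := (A : Matrix (Fin 2) (Fin 2) F) 1 1 with hd
  have hM : (A : Matrix (Fin 2) (Fin 2) F) = !![a, b; c, d] := Matrix.eta_fin_two _
  have h4 : ((A : Matrix (Fin 2) (Fin 2) F)) ^ 4 = 1 := by
    have := congrArg Subtype.val h
    simpa using this
  rw [hM] at h4
  have e00 := congrFun (congrFun h4 0) 0
  have e11 := congrFun (congrFun h4 1) 1
  simp [pow_succ, Matrix.mul_apply, Fin.sum_univ_two] at e00 e11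
  have ht : (a + d) ^ 4 = 0 := by grind
  have ht0 : a + d = 0 := pow_eq_zero_iff (by norm_num) |>.1 ht
  apply Subtype.ext
  have : ((A ^ 2 : SL(2, F)) : Matrix (Fin 2) (Fin 2) F) = (A : Matrix (Fin 2) (Fin 2) F) ^ 2 := by simp
  rw [this, hM]
  ext i j
  fin_cases i <;> fin_cases j <;> simp [pow_succ, Matrix.mul_apply, Fin.sum_univ_two] <;> grind

theorem ker_prop {N : Matrix (Fin 2) (Fin 2) F} (hN : N ≠ 0) {x v : Fin 2 → F} (hx : N *ᵥ x = 0) (hv : N *ᵥ v = 0)
    (hv0 : v ≠ 0) : ∃ μ : F, x = μ • v := by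
  obtain ⟨i, j, hij⟩ : ∃ i j, N i j ≠ 0 := by
    by_contra hcon
    push Not at hcon
    exact hN (Matrix.ext hcon)
  have e1 := congrFun hx i
  have e2 := congrFun hv i
  simp [Matrix.mulVec, dotProduct, Fin.sum_univ_two] at e1 e2
  have hcross : x 0 * v 1 = x 1 * v 0 := by
    have h3 : N i j * (x 0 * v 1 - x 1 * v 0) = 0 := by
      fin_cases j
      · simp only [Fin.zero_eta] at *
        linear_combination v 1 * e1 - x 1 * e2
      · simp only [Fin.mk_one] at *
        linear_combination - v 0 * e1 + x 0 * e2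
    have := (mul_eq_zero.1 h3).resolve_left hij
    linear_combination this
  obtain ⟨k, hk⟩ : ∃ k, v k ≠ 0 := by
    by_contra hcon
    push Not at hcon
    exact hv0 (funext hcon)
  refine ⟨x k / v k, ?_⟩
  funext l
  fin_cases k <;> fin_cases l <;> simp at hk ⊢ <;> field_simp <;> grind

theorem exists_ker {N : Matrix (Fin 2) (Fin 2) F} (hN : N ≠ 0) (hNN : N * N = 0) : ∃ v : Fin 2 → F, v ≠ 0 ∧ N *ᵥ v = 0 := by
  obtain ⟨i, j, hij⟩ : ∃ i j, N i j ≠ 0 := by
    by_contra hcon
    push Not at hcon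
    exact hN (Matrix.ext hcon)
  refine ⟨N *ᵥ (Pi.single j 1), ?_, ?_⟩
  · intro h
    have := congrFun h i
    simp at this
    exact hij this
  · rw [Matrix.mulVec_mulVec, hNN, Matrix.zero_mulVec]

/-- Eigenvalue extraction. -/
theorem exists_cube_root_aux (h2 : (2 : F) = 0) (A B W : SL(2, F)) (hA2 : A ^ 2 = 1) (hB2 : B ^ 2 = 1) (hAB : A * B = B * A)
    (hA1 : A ≠ 1) (hW3 : W ^ 3 = 1) (hW1 : W ≠ 1) (h1 : W * A * W⁻¹ = A * B) : ∃ μ : F, μ ^ 3 = 1 ∧ μ ≠ 1 := by
  set M : Matrix (Fin 2) (Fin 2) F := (A : Matrix (Fin 2) (Fin 2) F) with hM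
  set MB : Matrix (Fin 2) (Fin 2) F := (B : Matrix (Fin 2) (Fin 2) F) with hMB
  set U : SL(2, F) := W⁻¹ with hU
  set MU : Matrix (Fin 2) (Fin 2) F := (U : Matrix (Fin 2) (Fin 2) F) with hMU
  have hMM : M * M = 1 := by
    have := congrArg Subtype.val hA2
    simpa [pow_two] using this
  have hBB : MB * MB = 1 := by
    have := congrArg Subtype.val hB2
    simpa [pow_two] using this
  have hMMB : M * MB = MB * M := congrArg Subtype.val hAB
  have hMU1 : M * MU = MU * (M * MB) := by
    have e : A * U = U * (A * B) := by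
      rw [← h1, hU]
      group
    exact congrArg Subtype.val e
  set N : Matrix (Fin 2) (Fin 2) F := M - 1 with hN
  have hN0 : N ≠ 0 := by
    intro h
    apply hA1
    apply Subtype.ext
    exact sub_eq_zero.1 h
  have hNN : N * N = 0 := by
    have e : N * N = (1 + 1) - M - M := by
      rw [hN, sub_mul, mul_sub, hMM]
      simp
      abel
    rw [e]
    have h2m : ∀ X : Matrix (Fin 2) (Fin 2) F, X + X = 0 := by
      intro X
      ext i j
      have : X i j + X i j = 2 * X i j := by ring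
      simp [this, h2]
    have h3 : (1 + 1 : Matrix (Fin 2) (Fin 2) F) - M - M = (1 + 1) - (M + M) := by abel
    rw [h3, h2m, h2m, sub_zero]
  obtain ⟨v, hv0, hv⟩ := exists_ker hN0 hNN
  have hMv : M *ᵥ v = v := by
    have : N *ᵥ v = M *ᵥ v - v := by
      rw [hN, Matrix.sub_mulVec, Matrix.one_mulVec]
    rw [this] at hv
    exact sub_eq_zero.1 hv
  have hker : ∀ x : Fin 2 → F, M *ᵥ x = x → ∃ μ : F, x = μ • v := by
    intro x hx
    apply ker_prop hN0 _ hv hv0
    rw [hN, Matrix.sub_mulVec, Matrix.one_mulVec, hx, sub_self]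
  -- `B` fixes `v`
  have hBv : MB *ᵥ v = v := by
    obtain ⟨l, hl⟩ := hker (MB *ᵥ v) (by
      rw [Matrix.mulVec_mulVec, hMMB, ← Matrix.mulVec_mulVec, hMv])
    have h3 : MB *ᵥ (MB *ᵥ v) = v := by
      rw [Matrix.mulVec_mulVec, hBB, Matrix.one_mulVec]
    rw [hl, Matrix.mulVec_smul, hl, smul_smul] at h3
    have h4 : (l * l - 1) • v = 0 := by
      rw [sub_smul, h3, one_smul, sub_self]
    have h5 : l * l - 1 = 0 := (smul_eq_zero.1 h4).resolve_right hv0
    have h6 : (l - 1) * (l - 1) = 0 := by linear_combination h5 + (1 - l) * h2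
    have h7 : l = 1 := sub_eq_zero.1 (mul_self_eq_zero.1 h6)
    rw [hl, h7, one_smul]
  -- `U` has `v` as an eigenvector
  have hUx : M *ᵥ (MU *ᵥ v) = MU *ᵥ v := by
    rw [Matrix.mulVec_mulVec, hMU1, ← Matrix.mulVec_mulVec, ← Matrix.mulVec_mulVec, hBv, hMv]
  obtain ⟨μ, hμ⟩ := hker _ hUx
  have hU3 : U ^ 3 = 1 := by
    rw [hU, inv_pow, hW3, inv_one]
  have hMU3 : MU * MU * MU = 1 := by
    have := congrArg Subtype.val hU3
    simpa [pow_succ] using this
  have hμ3 : μ ^ 3 = 1 := by
    have h3 : (MU * MU * MU) *ᵥ v = (μ ^ 3) • v := by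
      rw [← Matrix.mulVec_mulVec, ← Matrix.mulVec_mulVec]
      simp only [hμ, Matrix.mulVec_smul, smul_smul]
      congr 1
      ring
    rw [hMU3, Matrix.one_mulVec] at h3
    have h4 : (μ ^ 3 - 1) • v = 0 := by
      rw [sub_smul, ← h3, one_smul, sub_self]
    exact sub_eq_zero.1 ((smul_eq_zero.1 h4).resolve_right hv0)
  refine ⟨μ, hμ3, ?_⟩
  rintro rfl
  rw [one_smul] at hμ
  -- `U` is unipotent
  have hdet := U.2
  rw [Matrix.det_fin_two] at hdet
  have hv00 := congrFun hμ 0
  have hv01 := congrFun hμ 1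
  simp [Matrix.mulVec, dotProduct, Fin.sum_univ_two] at hv00 hv01
  have hUU : U ^ 2 = 1 := by
    apply Subtype.ext
    have hM2 : ((U ^ 2 : SL(2, F)) : Matrix (Fin 2) (Fin 2) F) = MU * MU := by simp [pow_two, hMU]
    rw [hM2]
    change MU * MU = 1
    have hdet' : MU 0 0 * MU 1 1 - MU 0 1 * MU 1 0 = 1 := hdet
    have htr : MU 0 0 + MU 1 1 = 0 := by
      have hd : (MU 0 0 - 1) * (MU 1 1 - 1) - MU 0 1 * MU 1 0 = 0 := by
        have hk : ∀ k : Fin 2, v k ≠ 0 → (MU 0 0 - 1) * (MU 1 1 - 1) - MU 0 1 * MU 1 0 = 0 := by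
          intro k hk
          apply (mul_eq_zero.1 _).resolve_right hk
          fin_cases k
          · simp only [Fin.zero_eta]
            linear_combination (MU 1 1 - 1) * hv00 - MU 0 1 * hv01
          · simp only [Fin.mk_one]
            linear_combination (MU 0 0 - 1) * hv01 - MU 1 0 * hv00
        obtain ⟨k, hk'⟩ : ∃ k, v k ≠ 0 := by
          by_contra hcon
          push Not at hcon
          exact hv0 (funext hcon)
        exact hk k hk'
      linear_combination hdet' - hd + h2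
    ext i j
    fin_cases i <;> fin_cases j <;> simp [Matrix.mul_apply, Fin.sum_univ_two] <;> grind
  apply hW1
  have h3 : U = 1 := by
    calc U = U ^ 3 * (U ^ 2)⁻¹ := by group
      _ = 1 := by rw [hU3, hUU]; simp
  rw [hU] at h3
  exact inv_eq_one.1 h3

/-- `A₄` data in characteristic two forces `F₄ ⊆ F`. -/
theorem three_dvd_of_a4 [Fintype F] (h2 : (2 : F) = 0) (D : A4Data (Matrix.ProjectiveSpecialLinearGroup (Fin 2) F)) :
    3 ∣ Fintype.card F - 1 := by
  classical
  have hinj := mk_injective_char_two h2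
  obtain ⟨A, hA⟩ := QuotientGroup.mk_surjective D.a
  obtain ⟨B, hB⟩ := QuotientGroup.mk_surjective D.b
  obtain ⟨W, hW⟩ := QuotientGroup.mk_surjective D.w
  let π : SL(2, F) →* Matrix.ProjectiveSpecialLinearGroup (Fin 2) F := QuotientGroup.mk' _
  have hπ : Function.Injective π := hinj
  have hAe : π A = D.a := hA
  have hBe : π B = D.b := hB
  have hWe : π W = D.w := hW
  obtain ⟨μ, hμ3, hμ1⟩ := exists_cube_root_aux h2 A B W
    (hπ (by rw [map_pow, hAe, D.ha, map_one]))
    (hπ (by rw [map_pow, hBe, D.hb, map_one]))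
    (hπ (by rw [map_mul, map_mul, hAe, hBe, D.hab]))
    (fun h => D.ha1 (by rw [← hAe, h, map_one]))
    (hπ (by rw [map_pow, hWe, D.hw3, map_one]))
    (fun h => D.hw1 (by rw [← hWe, h, map_one]))
    (hπ (by simp only [map_mul, map_inv, hAe, hBe, hWe, D.h1]))
  have hμ0 : μ ≠ 0 := by
    rintro rfl
    norm_num at hμ3
  let u : Fˣ := Units.mk0 μ hμ0
  have hu3 : u ^ 3 = 1 := Units.ext (by simpa [u] using hμ3)
  have hu1 : u ≠ 1 := fun h => hμ1 (by simpa [u] using congrArg Units.val h)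
  haveI : Fact (Nat.Prime 3) := ⟨by norm_num⟩
  have ho : orderOf u = 3 := orderOf_eq_prime hu3 hu1
  have := orderOf_dvd_card (x := u)
  rwa [ho, Fintype.card_units] at this

/-- `S₄` in characteristic two is impossible. -/
theorem no_s4_char_two (h2 : (2 : F) = 0) {H : Subgroup (Matrix.ProjectiveSpecialLinearGroup (Fin 2) F)}
    (e : H ≃* Equiv.Perm (Fin 4)) : False := by
  classical
  let c : Equiv.Perm (Fin 4) := Equiv.swap 0 1 * Equiv.swap 1 2 * Equiv.swap 2 3
  have hc4 : c ^ 4 = 1 := by decide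
  have hc2 : c ^ 2 ≠ 1 := by decide
  have hinj := mk_injective_char_two h2
  obtain ⟨A, hA⟩ := QuotientGroup.mk_surjective ((e.symm c : H) : Matrix.ProjectiveSpecialLinearGroup (Fin 2) F)
  let π : SL(2, F) →* Matrix.ProjectiveSpecialLinearGroup (Fin 2) F := QuotientGroup.mk' _
  have hπ : Function.Injective π := hinj
  have hAe : π A = ((e.symm c : H) : Matrix.ProjectiveSpecialLinearGroup (Fin 2) F) := hA
  have h4 : A ^ 4 = 1 := by
    apply hπ
    rw [map_pow, hAe, map_one, ← Subgroup.coe_pow, ← map_pow, hc4, map_one]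
    rfl
  have h5 := sl2_sq_of_pow_four h2 A h4
  apply hc2
  have h6 : ((e.symm c : H) : Matrix.ProjectiveSpecialLinearGroup (Fin 2) F) ^ 2 = 1 := by
    rw [← hAe, ← map_pow, h5, map_one]
  have h7 : (e.symm c) ^ 2 = 1 := Subtype.ext (by simpa using h6)
  rw [← map_pow] at h7
  exact (map_eq_one_iff e.symm e.symm.injective).1 h7

theorem two_eq_zero_of_even [Fintype F] (hq : Even (Fintype.card F)) : (2 : F) = 0 := by
  obtain ⟨p, hpc⟩ := CharP.exists F
  have hp : p.Prime := CharP.char_is_prime F p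
  haveI : Fact p.Prime := ⟨hp⟩
  obtain ⟨n, hprime, hn⟩ := FiniteField.card F p
  have h4 : 2 ∣ p := by
    rw [hn] at hq
    exact Nat.prime_two.dvd_of_dvd_pow (hq.two_dvd)
  have h5 : p = 2 := ((Nat.prime_dvd_prime_iff_eq Nat.prime_two hp).1 h4).symm
  have h6 := CharP.cast_eq_zero F p
  rw [h5] at h6
  exact_mod_cast h6

theorem char_two_of_even [Fintype F] (hq : Even (Fintype.card F)) : ∃ n : ℕ, 1 ≤ n ∧ Fintype.card F = 2 ^ n := by
  obtain ⟨p, hpc⟩ := CharP.exists F
  have hp : p.Prime := CharP.char_is_prime F p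
  haveI : Fact p.Prime := ⟨hp⟩
  obtain ⟨n, hprime, hn⟩ := FiniteField.card F p
  have h4 : 2 ∣ p := by
    rw [hn] at hq
    exact Nat.prime_two.dvd_of_dvd_pow (hq.two_dvd)
  have h5 : p = 2 := ((Nat.prime_dvd_prime_iff_eq Nat.prime_two hp).1 h4).symm
  rw [h5] at hn
  exact ⟨n, n.2, hn⟩

theorem card_alt_five : Nat.card (alternatingGroup (Fin 5)) = 60 := by
  rw [nat_card_alternatingGroup, Nat.card_fin]
  rfl

theorem card_alt_four : Nat.card (alternatingGroup (Fin 4)) = 12 := by
  rw [nat_card_alternatingGroup, Nat.card_fin]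
  rfl

theorem sq_mod_sixteen_aux : ∀ r : ℕ, r < 16 → r ^ 2 % 16 = 1 → r % 8 ≠ 3 ∧ r % 8 ≠ 5 := by decide

theorem odd_of_sq_mod_sixteen {q : ℕ} (h : q ^ 2 % 16 = 1) : q % 2 = 1 := by
  by_contra h1
  obtain ⟨c, rfl⟩ : Even q := by
    rw [Nat.even_iff]
    omega
  have : (c + c) ^ 2 = 4 * (c * c) := by ring
  rw [this] at h
  omega

/-- `F₄ ⊆ F`: `A₅` in `PSL₂(F)`. -/
theorem exists_a5_of_four [Fintype F] (m : ℕ) (hm : 1 ≤ m) (hF : 4 ^ m = Fintype.card F) :
    ∃ H : Subgroup (Matrix.ProjectiveSpecialLinearGroup (Fin 2) F), Nonempty (H ≃* alternatingGroup (Fin 5)) := by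
  classical
  haveI : Fact (Nat.Prime 2) := ⟨by norm_num⟩
  let K := GaloisField 2 2
  haveI : Finite K := inferInstance
  letI : Fintype K := Fintype.ofFinite K
  have hK : Fintype.card K = 4 := by
    rw [← Nat.card_eq_fintype_card, GaloisField.card 2 2 (by norm_num)]
    norm_num
  obtain ⟨ι⟩ := exists_ringHom_of_card_pow (K := K) (F := F) hm (by rw [hK, hF])
  obtain ⟨H, ⟨e⟩⟩ := exists_psl_subgroup ι
  obtain ⟨e2⟩ := psl_two_card_four_equiv hK
  exact ⟨H, ⟨e.trans e2⟩⟩

theorem a4_of_a5 {G : Type*} [Group G] [Finite G] {H : Subgroup G} (e : H ≃* alternatingGroup (Fin 5)) :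
    ∃ H' : Subgroup G, Nonempty (H' ≃* alternatingGroup (Fin 4)) := by
  let f : alternatingGroup (Fin 5) →* G := H.subtype.comp e.symm.toMonoidHom
  have hf : Function.Injective f := fun x y h => e.symm.injective (Subtype.ext h)
  exact ⟨_, (a4DataAlt5.map f hf).T_equiv⟩

/-- `φ` exists when `q` is odd and `5 ∣ q (q² - 1)`. -/
theorem exists_phi [Fintype F] {q : ℕ} (hF : Fintype.card F = q) (hodd : Odd q) (h5 : 5 ∣ q * (q ^ 2 - 1)) :
    ∃ φ : F, φ ^ 2 = φ + 1 := by
  classical
  have h2 : (2 : F) ≠ 0 := two_ne_zero_of_odd (by rw [hF]; exact hodd)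
  suffices hs : ∃ s : F, s * s = 5 by
    obtain ⟨s, hs⟩ := hs
    refine ⟨(1 + s) * 2⁻¹, ?_⟩
    field_simp
    linear_combination hs
  obtain ⟨p, hpc⟩ := CharP.exists F
  have hp : p.Prime := CharP.char_is_prime F p
  haveI : Fact p.Prime := ⟨hp⟩
  obtain ⟨n, hprime, hn⟩ := FiniteField.card F p
  have hprime5 : Nat.Prime 5 := by norm_num
  by_cases hq5 : 5 ∣ q
  · have h6 : 5 ∣ p := by
      rw [← hF, hn] at hq5
      exact hprime5.dvd_of_dvd_pow hq5
    have h7 : p = 5 := ((Nat.prime_dvd_prime_iff_eq hprime5 hp).1 h6).symm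
    refine ⟨0, ?_⟩
    have h8 : ((5 : ℕ) : F) = 0 := by
      rw [← h7]
      exact CharP.cast_eq_zero F p
    rw [mul_zero]
    exact_mod_cast h8.symm
  · have h6 : 5 ∣ q ^ 2 - 1 := (hprime5.dvd_mul.1 h5).resolve_left hq5
    have hq1 : q % 5 = 1 ∨ q % 5 = 4 := by
      have hq2 : 1 ≤ q ^ 2 := Nat.one_le_pow _ _ hodd.pos
      have hmod : q ^ 2 % 5 = 1 := by omega
      have hlt : q % 5 < 5 := Nat.mod_lt _ (by norm_num)
      rw [Nat.pow_mod] at hmod
      interval_cases (q % 5) <;> simp_all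
    haveI : Fact (Nat.Prime 5) := ⟨hprime5⟩
    have hchar : ringChar F ≠ 2 := by
      intro h
      apply h2
      have := ringChar.Nat.cast_ringChar (R := F)
      rw [h] at this
      exact_mod_cast this
    have hsq := (FiniteField.isSquare_odd_prime_iff hchar (p := 5) (by norm_num)).2 ?_
    · obtain ⟨s, hs⟩ := hsq
      refine ⟨s, ?_⟩
      rw [← hs]
      norm_num
    · rw [hF]
      have hc : (q : ZMod 5) = 1 ∨ (q : ZMod 5) = 4 := by
        rcases hq1 with h | h
        · left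
          have : (q : ZMod 5) = ((q % 5 : ℕ) : ZMod 5) := by simp
          rw [this, h]
          rfl
        · right
          have : (q : ZMod 5) = ((q % 5 : ℕ) : ZMod 5) := by simp
          rw [this, h]
          rfl
      have hχ : ZMod.χ₄ q = 1 ∨ ZMod.χ₄ q = -1 := by
        rcases Nat.odd_mod_four_iff.1 (Nat.odd_iff.1 hodd) with h | h
        · left
          exact ZMod.χ₄_nat_one_mod_four h
        · right
          exact ZMod.χ₄_nat_three_mod_four h
      have e1 : quadraticChar (ZMod 5) 1 = 1 := map_one _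
      have e4 : quadraticChar (ZMod 5) 4 = 1 := by
        have h : (4 : ZMod 5) = 2 ^ 2 := by norm_num
        rw [h]
        refine quadraticChar_sq_one (a := (2 : ZMod 5)) ?_
        intro h0
        have h3 : ((2 : ℕ) : ZMod 5) = 0 := by exact_mod_cast h0
        rw [ZMod.natCast_eq_zero_iff] at h3
        omega
      have h50 : (5 : ZMod 5) = 0 := by
        have : ((5 : ℕ) : ZMod 5) = 0 := ZMod.natCast_self 5
        exact_mod_cast this
      have a1 : ((1 : ℤ) : ZMod 5) * 1 = 1 := by simp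
      have a2 : ((1 : ℤ) : ZMod 5) * 4 = 4 := by simp
      have a3 : ((-1 : ℤ) : ZMod 5) * 1 = 4 := by
        push_cast
        linear_combination -h50
      have a4 : ((-1 : ℤ) : ZMod 5) * 4 = 1 := by
        push_cast
        linear_combination -h50
      have hne : (1 : ℤ) ≠ -1 := by norm_num
      rcases hχ with h | h <;> rcases hc with h' | h' <;> rw [h, h'] <;> simp only [a1, a2, a3, a4, e1, e4] <;> exact hne

end Cfsg.Agent.Lib.Classical
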