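import Mathlib
import Cfsg.Agent.Lib.Classical.DSolv
import Cfsg.Agent.Lib.Classical.DNum
import Cfsg.Agent.Lib.Classical.PslSub
import Cfsg.Agent.Lib.Classical.PslApps
import Cfsg.Agent.Lib.TwoGroups.Present

/-! Dihedral subgroups of `PSL₂(q)`. -/

set_option autoImplicit false
set_option linter.unusedSimpArgs false
set_option linter.unusedVariables false
set_option linter.unusedSectionVars false
set_option linter.style.haveILetI false

namespace Cfsg.Agent.Lib.Classical

open Matrix MulAction Projectivization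
open scoped MatrixGroups LinearAlgebra.Projectivization

variable {F : Type*} [Field F]

/-- A companion matrix. -/
def compM (t : F) : SL(2, F) := ⟨!![0, -1; 1, t], by simp [Matrix.det_fin_two]⟩

/-- An element inverting the companion matrix. -/
def sigM (a b t : F) (h : a ^ 2 - t * a * b + b ^ 2 = -1) : SL(2, F) :=
  ⟨!![a, b; b - a * t, -a], by simp [Matrix.det_fin_two]; linear_combination -h⟩

@[simp] theorem compM_00 (t : F) : (compM t).1 0 0 = 0 := rfl
@[simp] theorem compM_01 (t : F) : (compM t).1 0 1 = -1 := rfl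
@[simp] theorem compM_10 (t : F) : (compM t).1 1 0 = 1 := rfl
@[simp] theorem compM_11 (t : F) : (compM t).1 1 1 = t := rfl

section
variable (a b t : F) (h : a ^ 2 - t * a * b + b ^ 2 = -1)
@[simp] theorem sigM_00 : (sigM a b t h).1 0 0 = a := rfl
@[simp] theorem sigM_01 : (sigM a b t h).1 0 1 = b := rfl
@[simp] theorem sigM_10 : (sigM a b t h).1 1 0 = b - a * t := rfl
@[simp] theorem sigM_11 : (sigM a b t h).1 1 1 = -a := rfl

theorem sigM_sq : ((sigM a b t h) * (sigM a b t h)).1 = -1 := by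
  ext i k
  fin_cases i <;> fin_cases k <;> simp [sl_mul_apply] <;> grind

theorem sigM_conj : (sigM a b t h) * compM t = (compM t)⁻¹ * (sigM a b t h) := by
  apply sl_ext <;> simp [sl_mul_apply, sl_inv_00, sl_inv_01, sl_inv_10, sl_inv_11] <;> ring
end

/-- Elements fixed by Frobenius come from the base field. -/
theorem mem_range_of_pow_card [Fintype F] {E : Type*} [Field E] (j : F →+* E) {x : E} (hx : x ^ (Fintype.card F) = x) :
    ∃ y : F, j y = x := by
  classical
  have hq1 : 1 < Fintype.card F := Fintype.one_lt_card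
  set P : Polynomial E := Polynomial.X ^ (Fintype.card F) - Polynomial.X with hP
  have hP0 : P ≠ 0 := FiniteField.X_pow_card_sub_X_ne_zero E hq1
  have hdeg : P.natDegree = Fintype.card F := FiniteField.X_pow_card_sub_X_natDegree_eq E hq1
  set S : Finset E := Finset.univ.image j with hS
  have hSc : S.card = Fintype.card F := by
    rw [hS, Finset.card_image_of_injective _ j.injective, Finset.card_univ]
  have hsub : S ⊆ P.roots.toFinset := by
    intro z hz
    rw [hS, Finset.mem_image] at hz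
    obtain ⟨y, -, rfl⟩ := hz
    rw [Multiset.mem_toFinset, Polynomial.mem_roots hP0]
    simp only [hP, Polynomial.IsRoot, Polynomial.eval_sub, Polynomial.eval_pow, Polynomial.eval_X]
    rw [← map_pow, FiniteField.pow_card, sub_self]
  have hcard : P.roots.toFinset.card ≤ S.card := by
    rw [hSc, ← hdeg]
    exact (Multiset.toFinset_card_le _).trans (Polynomial.card_roots' P)
  have heq := Finset.eq_of_subset_of_card_le hsub hcard
  have hxm : x ∈ P.roots.toFinset := by
    rw [Multiset.mem_toFinset, Polynomial.mem_roots hP0]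
    simp only [hP, Polynomial.IsRoot, Polynomial.eval_sub, Polynomial.eval_pow, Polynomial.eval_X]
    rw [hx, sub_self]
  rw [← heq, hS, Finset.mem_image] at hxm
  obtain ⟨y, -, hy⟩ := hxm
  exact ⟨y, hy⟩

/-- Values of the norm form. -/
theorem exists_norm_form [Fintype F] (t : F) (ht : t ^ 2 ≠ 4) : ∃ a b : F, a ^ 2 - t * a * b + b ^ 2 = -1 := by
  classical
  by_cases h2 : (2 : F) = 0
  · refine ⟨1, 0, ?_⟩
    linear_combination h2
  · obtain ⟨p, hpc⟩ := CharP.exists F
    have hodd : Fintype.card F % 2 = 1 := by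
      haveI : Fact p.Prime := ⟨CharP.char_is_prime F p⟩
      obtain ⟨n, hpp, hq⟩ := FiniteField.card F p
      have hp2 : p ≠ 2 := by
        rintro rfl
        exact h2 (by exact_mod_cast CharP.cast_eq_zero F 2)
      have : Odd (Fintype.card F) := by
        rw [hq]
        exact (hpp.odd_of_ne_two hp2).pow
      exact Nat.odd_iff.1 this
    set e : F := 1 - t ^ 2 / 4 with he
    have h4 : (4 : F) ≠ 0 := by
      have : (4 : F) = 2 * 2 := by norm_num
      rw [this]
      exact mul_ne_zero h2 h2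
    have he0 : e ≠ 0 := by
      intro h
      apply ht
      rw [he] at h
      field_simp at h
      linear_combination -h
    obtain ⟨u, c, huc⟩ := FiniteField.exists_root_sum_quadratic (R := F)
      (f := Polynomial.X ^ 2) (g := Polynomial.C e * Polynomial.X ^ 2 + 1)
      (by simp) (by compute_degree!) hodd
    simp at huc
    refine ⟨u + t * c / 2, c, ?_⟩
    rw [he] at huc
    field_simp at huc ⊢
    linear_combination huc

section Data

variable [Fintype F] {q : ℕ} (hF : Fintype.card F = q)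

include hF in
/-- Existence of the data of a dihedral group. -/
theorem exists_dih_data (p : ℕ) [hp : Fact p.Prime] [CharP F p] (N : ℕ) (hN : N = q - 1 ∨ N = q + 1) (hN3 : 3 ≤ N) :
    ∃ ρ σ : Pe F, orderOf ρ = N / Nat.gcd 2 (q - 1) ∧ σ * σ = 1 ∧ σ * ρ * σ⁻¹ = ρ⁻¹ ∧ σ ∉ Subgroup.zpowers ρ := by
  classical
  let E' := AlgebraicClosure F
  let j : F →+* E' := algebraMap F E'
  haveI : CharP E' p := charP_of_injective_algebraMap j.injective p
  have hq2 : 2 ≤ q := by
    rw [← hF]
    exact Fintype.one_lt_card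
  have hqF : (q : F) = 0 := by
    rw [← hF]
    exact Nat.cast_card_eq_zero F
  haveI : NeZero (N : F) := by
    constructor
    rcases hN with rfl | rfl
    · rw [Nat.cast_sub (by omega), hqF]
      simp
    · rw [Nat.cast_add, hqF]
      simp
  obtain ⟨ξ, hξ⟩ := HasEnoughRootsOfUnity.exists_primitiveRoot E' N
  have hξ0 : ξ ≠ 0 := hξ.ne_zero (by omega)
  have hξN : ξ ^ N = 1 := hξ.pow_eq_one
  have hξ2 : ξ ^ 2 ≠ 1 := by
    intro h
    have := Nat.le_of_dvd (by norm_num) (hξ.dvd_of_pow_eq_one _ h)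
    omega
  obtain ⟨n, -, hqn⟩ := FiniteField.card F p
  rw [hF] at hqn
  have hfrob : ∀ x y : E', (x + y) ^ q = x ^ q + y ^ q := by
    intro x y
    have := map_add (iterateFrobenius E' p n) x y
    simp only [iterateFrobenius_def] at this
    rwa [← hqn] at this
  have hξq : ξ ^ q = ξ ∨ ξ ^ q = ξ⁻¹ := by
    rcases hN with rfl | rfl
    · left
      have : ξ ^ q = ξ ^ (q - 1) * ξ := by
        rw [← pow_succ]
        congr 1
        omega
      rw [this, hξN, one_mul]
    · right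
      rw [pow_succ] at hξN
      exact eq_inv_of_mul_eq_one_left hξN
  have htq : (ξ + ξ⁻¹) ^ q = ξ + ξ⁻¹ := by
    rw [hfrob, inv_pow]
    rcases hξq with h | h
    · rw [h]
    · rw [h, inv_inv, add_comm]
  obtain ⟨t₀, ht₀⟩ := mem_range_of_pow_card j (x := ξ + ξ⁻¹) (by rw [hF]; exact htq)
  -- the eigenvectors
  set A := Matrix.SpecialLinearGroup.map j (compM t₀) with hAdef
  have hA : (A : Matrix (Fin 2) (Fin 2) E') = !![0, -1; 1, ξ + ξ⁻¹] := by
    have e0 : (A : Matrix (Fin 2) (Fin 2) E') = (compM t₀).1.map j := rfl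
    rw [e0]
    ext i k
    fin_cases i <;> fin_cases k <;> simp [compM, ← ht₀]
  set v : Fin 2 → E' := ![1, -ξ] with hv
  set w : Fin 2 → E' := ![1, -ξ⁻¹] with hw
  have hξξ : ξ * ξ⁻¹ = 1 := mul_inv_cancel₀ hξ0
  have hAv : (A : Matrix (Fin 2) (Fin 2) E') *ᵥ v = ξ • v := by
    rw [hA, hv]
    ext i
    fin_cases i <;> simp [Matrix.mulVec, dotProduct, Fin.sum_univ_two] <;> first | ring1 | linear_combination -hξξ
  have hAw : (A : Matrix (Fin 2) (Fin 2) E') *ᵥ w = ξ⁻¹ • w := by
    rw [hA, hw]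
    ext i
    fin_cases i <;> simp [Matrix.mulVec, dotProduct, Fin.sum_univ_two] <;> first | ring1 | linear_combination -hξξ
  have hd : dt v w ≠ 0 := by
    have e : dt v w = ξ - ξ⁻¹ := by
      simp [dt, hv, hw]
      ring
    rw [e]
    intro h
    apply hξ2
    have : ξ = ξ⁻¹ := sub_eq_zero.1 h
    rw [pow_two]
    nth_rw 1 [this]
    exact inv_mul_cancel₀ hξ0
  have hv0 : v ≠ 0 := ne_zero_of_dt_left hd
  have hinj : ∀ g : Pe F, pslEmbed j g = 1 → g = 1 := fun g hg => pslEmbed_injective j (by rw [hg, map_one])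
  have hpow : ∀ n : ℕ, mkP (compM t₀) ^ n = 1 ↔ N ∣ 2 * n := by
    intro n
    constructor
    · intro h
      have h1 : mkP A ^ n = 1 := by
        rw [hAdef, ← pslEmbed_mkP, ← map_pow, h, map_one]
      have h2 := eig_pow_sq A hv0 n h1 hAv
      apply hξ.dvd_of_pow_eq_one
      rw [mul_comm, pow_mul]
      exact h2
    · intro h
      apply hinj
      rw [map_pow, pslEmbed_mkP]
      apply pow_eq_one_of_eig A hd n _ hAv hAw
      rw [← pow_mul, mul_comm, (orderOf_dvd_iff_pow_eq_one (x := ξ) (n := 2 * n)).1 (by rwa [← hξ.eq_orderOf])]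
  set d := Nat.gcd 2 (q - 1) with hdd
  have hd12 : d = 1 ∨ d = 2 := (Nat.dvd_prime Nat.prime_two).1 (Nat.gcd_dvd_left _ _)
  have hdN : d ∣ N := by
    have h1 : d ∣ q - 1 := Nat.gcd_dvd_right _ _
    have h2 : d ∣ 2 := Nat.gcd_dvd_left _ _
    rcases hN with rfl | rfl
    · exact h1
    · have : q + 1 = (q - 1) + 2 := by omega
      rw [this]
      exact Nat.dvd_add h1 h2
  have hN2 : N / d ∣ 2 * (N / d) := Dvd.intro_left _ rfl
  have hord : orderOf (mkP (compM t₀)) = N / d := by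
    apply Nat.dvd_antisymm
    · apply orderOf_dvd_of_pow_eq_one
      rw [hpow]
      rcases hd12 with h | h
      · rw [h, Nat.div_one]
        exact Dvd.intro_left _ rfl
      · rw [h]
        rw [h] at hdN
        rw [Nat.mul_div_cancel' hdN]
    · have h1 := (hpow _).1 (pow_orderOf_eq_one (mkP (compM t₀)))
      rcases hd12 with h | h
      · rw [h, Nat.div_one]
        have hodd : Nat.Coprime N 2 := by
          have : Nat.gcd 2 N = 1 := by
            rcases hN with rfl | rfl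
            · exact h
            · have e1 : q + 1 = (q - 1) + 2 := by omega
              rw [e1, Nat.gcd_add_self_right]
              exact h
          rw [Nat.Coprime, Nat.gcd_comm]
          exact this
        exact hodd.dvd_of_dvd_mul_left h1
      · rw [h]
        rw [h] at hdN
        obtain ⟨c, hc⟩ := hdN
        rw [hc, Nat.mul_div_cancel_left _ (by norm_num : 0 < 2)]
        rw [hc] at h1
        exact Nat.dvd_of_mul_dvd_mul_left (by norm_num) h1
  -- the inverting element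
  have ht₀2 : t₀ ^ 2 ≠ 4 := by
    intro h
    have e : (ξ + ξ⁻¹) ^ 2 = 4 := by
      rw [← ht₀, ← map_pow, h]
      exact map_ofNat j 4
    have e2 : (ξ - ξ⁻¹) ^ 2 = 0 := by
      have e3 : ξ * ξ⁻¹ = 1 := mul_inv_cancel₀ hξ0
      linear_combination e - 4 * e3
    have e3 : ξ = ξ⁻¹ := sub_eq_zero.1 (pow_eq_zero_iff (by norm_num) |>.1 e2)
    apply hξ2
    rw [pow_two]
    nth_rw 1 [e3]
    exact inv_mul_cancel₀ hξ0
  obtain ⟨a, b, hab⟩ := exists_norm_form t₀ ht₀2
  set S := sigM a b t₀ hab with hS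
  have hSS : mkP S * mkP S = 1 := by
    rw [← mkP_mul, mkP_eq_one_iff]
    right
    exact sigM_sq a b t₀ hab
  have hSconj : mkP S * mkP (compM t₀) * (mkP S)⁻¹ = (mkP (compM t₀))⁻¹ := by
    rw [mul_inv_eq_iff_eq_mul, ← mkP_inv, ← mkP_mul, ← mkP_mul]
    congr 1
    exact sigM_conj a b t₀ hab
  refine ⟨mkP (compM t₀), mkP S, hord, hSS, hSconj, ?_⟩
  intro hmem
  -- `σ` fixes the eigenline of `ρ`
  set a₀ := mk E' v hv0 with ha₀
  have hρfix : pslEmbed j (mkP (compM t₀)) ∈ MulAction.stabilizer (Pe E') a₀ := by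
    rw [MulAction.mem_stabilizer_iff, pslEmbed_mkP, mkP_fix_iff]
    exact ⟨ξ, hAv⟩
  have hσfix : pslEmbed j (mkP S) ∈ MulAction.stabilizer (Pe E') a₀ := by
    obtain ⟨z, hz⟩ := Subgroup.mem_zpowers_iff.1 hmem
    rw [← hz, map_zpow]
    exact Subgroup.zpow_mem _ hρfix _
  rw [MulAction.mem_stabilizer_iff, pslEmbed_mkP, mkP_fix_iff] at hσfix
  obtain ⟨κ, hκ⟩ := hσfix
  have hκ0 : κ ≠ 0 := (triang _ hd hκ).1
  have hconj : (Matrix.SpecialLinearGroup.map j S) * A = A⁻¹ * (Matrix.SpecialLinearGroup.map j S) := by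
    rw [hAdef, ← map_mul, ← map_inv, ← map_mul, hS, sigM_conj]
  have hc : A * ((Matrix.SpecialLinearGroup.map j S) * A) = Matrix.SpecialLinearGroup.map j S := by
    rw [hconj, mul_inv_cancel_left]
  have e1 := congrArg (fun M : SL(2, E') => (M : Matrix (Fin 2) (Fin 2) E') *ᵥ v) hc
  simp only [Matrix.SpecialLinearGroup.coe_mul, ← Matrix.mulVec_mulVec, hAv, Matrix.mulVec_smul, hκ, smul_smul] at e1
  have e2 := congrFun e1 0
  simp [hv] at e2
  apply hξ2
  have e3 : (ξ ^ 2 - 1) * κ = 0 := by linear_combination e2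
  exact sub_eq_zero.1 ((mul_eq_zero.1 e3).resolve_right hκ0)

end Data

section Sub

variable {G : Type*} [Group G] [Finite G]

/-- A dihedral subgroup from its generators. -/
theorem exists_dih_sub (ρ σ : G) {k : ℕ} (hk : orderOf ρ = k) (hσσ : σ * σ = 1)
    (hc : σ * ρ * σ⁻¹ = ρ⁻¹) (hn : σ ∉ Subgroup.zpowers ρ) :
    ∃ H₀ : Subgroup G, ρ ∈ H₀ ∧ σ ∈ H₀ ∧ Nat.card H₀ = 2 * k ∧ Nonempty (H₀ ≃* DihedralGroup k) := by
  have hk0 : 0 < k := by
    rw [← hk]
    exact orderOf_pos ρ
  haveI : NeZero k := ⟨hk0.ne'⟩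
  have hw : ∀ v ∈ Subgroup.zpowers ρ, σ * v * σ⁻¹ ∈ Subgroup.zpowers ρ := by
    intro v hv
    obtain ⟨z, rfl⟩ := Subgroup.mem_zpowers_iff.1 hv
    rw [← conj_zpow, hc]
    exact Subgroup.zpow_mem _ (Subgroup.inv_mem _ (Subgroup.mem_zpowers ρ)) _
  have hV : Nat.card (Subgroup.zpowers ρ) = k := by
    rw [Nat.card_zpowers, hk]
  set H₀ := extSub (Subgroup.zpowers ρ) σ hw with hH₀
  have hσ2 : σ ^ 2 ∈ Subgroup.zpowers ρ := by
    rw [pow_two, hσσ]
    exact Subgroup.one_mem _
  have h1 : Nat.card H₀ ≤ 2 * k := by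
    have := card_extSub_le (hw := hw) (by norm_num : 0 < 2) hσ2
    rw [hV] at this
    linarith
  have hle : Subgroup.zpowers ρ ≤ H₀ := le_extSub _ _ _
  have hσm : σ ∈ H₀ := self_mem_extSub _ _ _
  have h2 : k ∣ Nat.card H₀ := by
    rw [← hV]
    exact Subgroup.card_dvd_of_le hle
  have h3 : Nat.card H₀ ≠ k := by
    intro h
    have : Subgroup.zpowers ρ = H₀ := Subgroup.eq_of_le_of_card_ge hle (by rw [h, hV])
    exact hn (this ▸ hσm)
  have hcard : Nat.card H₀ = 2 * k := by
    obtain ⟨c, hc⟩ := h2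
    have hc0 : c ≠ 0 := by
      rintro rfl
      have : 0 < Nat.card H₀ := Nat.card_pos
      omega
    have hc1 : c ≠ 1 := by
      rintro rfl
      omega
    have hc2 : 2 ≤ c := by omega
    rw [hc] at h1 ⊢
    have : k * 2 ≤ k * c := Nat.mul_le_mul_left _ hc2
    nlinarith
  refine ⟨H₀, hle (Subgroup.mem_zpowers ρ), hσm, hcard, ?_⟩
  apply Cfsg.Agent.Lib.TwoGroups.nonempty_mulEquiv_dihedral_of (⟨ρ, hle (Subgroup.mem_zpowers ρ)⟩ : H₀) ⟨σ, hσm⟩
  · rw [← hk]
    exact Subgroup.orderOf_mk _ _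
  · exact Subtype.ext hσσ
  · exact Subtype.ext hc
  · intro h
    obtain ⟨z, hz⟩ := Subgroup.mem_zpowers_iff.1 h
    apply hn
    rw [Subgroup.mem_zpowers_iff]
    exact ⟨z, by simpa using congrArg Subtype.val hz⟩
  · exact hcard

end Sub

set_option maxRecDepth 100000 in
/-- `A₄` has no subgroup of order six. -/
theorem a4_no_inv : ∀ x y : alternatingGroup (Fin 4), x ^ 2 = 1 → y ^ 3 = 1 → y ≠ 1 → x * y * x⁻¹ ≠ y⁻¹ := by
  decide +kernel

/-- Element orders in `S₄`. -/
theorem s4_orders : ∀ x : Equiv.Perm (Fin 4), x ^ 3 = 1 ∨ x ^ 4 = 1 := by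
  decide +kernel

/-- Element orders in `A₅`. -/
theorem a5_orders : ∀ x : alternatingGroup (Fin 5), x ^ 2 = 1 ∨ x ^ 3 = 1 ∨ x ^ 5 = 1 := by
  decide +kernel

section Coatom

variable [Fintype F] {q : ℕ} (hF : Fintype.card F = q)

include hF in
/-- The maximality of dihedral subgroups. -/
theorem dih_coatom (p : ℕ) [hp : Fact p.Prime] [CharP F p] (ρ σ : Pe F) (k : ℕ) (hk : orderOf ρ = k) (hk3 : 3 ≤ k)
    (hσσ : σ * σ = 1) (hc : σ * ρ * σ⁻¹ = ρ⁻¹) (H₀ : Subgroup (Pe F)) (hρ : ρ ∈ H₀) (hσ : σ ∈ H₀)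
    (hcard : Nat.card H₀ = 2 * k) (hpk : ¬ p ∣ k) (hH₀top : H₀ ≠ ⊤)
    (N2 : q + 1 < 2 * (Nat.gcd 2 (q - 1) * k))
    (hS4 : (k = 3 ∨ k = 4) → ¬ 24 ∣ Nat.card (Pe F))
    (hA5 : (k = 3 ∨ k = 5) → 60 ∣ Nat.card (Pe F) → Nat.card (Pe F) = 60)
    (hK : ∀ r m : ℕ, r ^ m = q → 2 ≤ m → 2 ≤ r → k ≤ r + 1 → 4 * k ≤ r * (r ^ 2 - 1) → False) :
    IsCoatom H₀ := by
  classical
  refine ⟨hH₀top, fun L hL => ?_⟩
  by_contra hLtop
  have hq2 : 2 ≤ q := by
    rw [← hF]
    exact Fintype.one_lt_card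
  let ρL : L := ⟨ρ, hL.le hρ⟩
  let σL : L := ⟨σ, hL.le hσ⟩
  have hoL : orderOf ρL = k := by
    rw [← hk]
    exact Subgroup.orderOf_mk _ _
  have hσσL : σL * σL = 1 := Subtype.ext hσσ
  have hcL : σL * ρL * σL⁻¹ = ρL⁻¹ := Subtype.ext hc
  have hρ2 : ρL * ρL ≠ 1 := by
    intro h
    have h1 : orderOf ρL ∣ 2 := orderOf_dvd_of_pow_eq_one (by rw [pow_two, h])
    rw [hoL] at h1
    have := Nat.le_of_dvd (by norm_num) h1
    omega
  have h4k : 4 * k ≤ Nat.card L := by
    have h1 : 2 * k ∣ Nat.card L := by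
      rw [← hcard]
      exact Subgroup.card_dvd_of_le hL.le
    obtain ⟨c, hc'⟩ := h1
    have hc0 : c ≠ 0 := by
      rintro rfl
      have : 0 < Nat.card L := Nat.card_pos
      omega
    have hc1 : c ≠ 1 := by
      rintro rfl
      have : H₀ = L := Subgroup.eq_of_le_of_card_ge hL.le (by rw [hc', hcard, mul_one])
      exact hL.ne this
    have hc2 : 2 ≤ c := by omega
    rw [hc']
    have : 2 * k * 2 ≤ 2 * k * c := Nat.mul_le_mul_left _ hc2
    linarith
  have htopL : Nat.card (Pe F) ≤ Nat.card L → False := by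
    intro h
    apply hLtop
    apply Subgroup.eq_top_of_card_eq
    exact le_antisymm (Subgroup.card_le_card_group L) h
  have hG := card_gcd_mul hF (F := F)
  have hdvdG : Nat.card L ∣ Nat.card (Pe F) := Subgroup.card_subgroup_dvd_card L
  set d := Nat.gcd 2 (q - 1) with hd
  have hd12 : d = 1 ∨ d = 2 := (Nat.dvd_prime Nat.prime_two).1 (Nat.gcd_dvd_left _ _)
  have hdq : d ∣ q - 1 := Nat.gcd_dvd_right _ _
  have hdq1 : d ∣ q + 1 := by
    have : q + 1 = (q - 1) + 2 := by omega
    rw [this]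
    exact Nat.dvd_add hdq (Nat.gcd_dvd_left _ _)
  have hbd : ∀ k : ℕ, (k ∣ (q + 1) / d ∨ k ∣ (q - 1) / d) → d * k ≤ q + 1 := by
    intro k hk
    have hd0 : 0 < d := by omega
    rcases hk with hk | hk
    · have h1 : 0 < (q + 1) / d := Nat.div_pos (Nat.le_of_dvd (by omega) hdq1) hd0
      have h2 := Nat.le_of_dvd h1 hk
      calc d * k ≤ d * ((q + 1) / d) := Nat.mul_le_mul_left _ h2
        _ ≤ q + 1 := Nat.mul_div_le _ _
    · have h1 : 0 < (q - 1) / d := Nat.div_pos (Nat.le_of_dvd (by omega) hdq) hd0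
      have h2 := Nat.le_of_dvd h1 hk
      calc d * k ≤ d * ((q - 1) / d) := Nat.mul_le_mul_left _ h2
        _ ≤ q - 1 := Nat.mul_div_le _ _
        _ ≤ q + 1 := by omega
  rcases dickson_num hF p L with ⟨h1, -⟩ | ⟨c, -, h1, ⟨e⟩⟩ | ⟨⟨e⟩⟩ | ⟨⟨e⟩⟩ | ⟨⟨e⟩⟩ | ⟨P, hP⟩ | ⟨K₀, P, m, hm, hm1, hcL', htop, hord, -⟩
  · -- cyclic
    apply hρ2
    have hcomm : σL * ρL = ρL * σL := by
      letI := IsCyclic.commGroup (α := L)
      exact mul_comm σL ρL
    rw [hcomm, mul_inv_cancel_right] at hcL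
    nth_rw 1 [hcL]
    exact inv_mul_cancel ρL
  · -- dihedral
    have h2 := hbd _ h1
    have h3 : Nat.card L = 2 * c := by
      rw [Nat.card_congr e.toEquiv, DihedralGroup.nat_card]
    rw [h3] at h4k
    have h4 : 2 * k ≤ c := by omega
    have h5 : d * (2 * k) ≤ d * c := Nat.mul_le_mul_left _ h4
    have h6 : 2 * (d * k) = d * (2 * k) := by ring
    omega
  · -- A₄
    have h3 : Nat.card L = 12 := by
      rw [Nat.card_congr e.toEquiv]
      exact card_alt_four
    have hk3' : k = 3 := by omega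
    apply a4_no_inv (e σL) (e ρL)
    · rw [← map_pow, pow_two, hσσL, map_one]
    · rw [← map_pow, ← hk3', ← hoL, pow_orderOf_eq_one, map_one]
    · intro h
      have : ρL = 1 := e.injective (by rw [h, map_one])
      apply hρ2
      rw [this, one_mul]
    · rw [← map_inv, ← map_mul, ← map_mul, hcL, map_inv]
  · -- S₄
    have h3 : Nat.card L = 24 := by
      rw [Nat.card_congr e.toEquiv, Nat.card_eq_fintype_card, Fintype.card_perm, Fintype.card_fin]
      rfl
    have h4 : k = 3 ∨ k = 4 := by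
      rcases s4_orders (e ρL) with h5 | h5
      · have h6 : orderOf (e ρL) ∣ 3 := orderOf_dvd_of_pow_eq_one h5
        rw [MulEquiv.orderOf_eq, hoL] at h6
        have := Nat.le_of_dvd (by norm_num) h6
        omega
      · have h6 : orderOf (e ρL) ∣ 4 := orderOf_dvd_of_pow_eq_one h5
        rw [MulEquiv.orderOf_eq, hoL] at h6
        have := Nat.le_of_dvd (by norm_num) h6
        omega
    apply hS4 h4
    rw [← h3]
    exact hdvdG
  · -- A₅
    have h3 : Nat.card L = 60 := by
      rw [Nat.card_congr e.toEquiv]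
      exact card_alt_five
    have h4 : k = 3 ∨ k = 5 := by
      rcases a5_orders (e ρL) with h5 | h5 | h5
      · have h6 : orderOf (e ρL) ∣ 2 := orderOf_dvd_of_pow_eq_one h5
        rw [MulEquiv.orderOf_eq, hoL] at h6
        have := Nat.le_of_dvd (by norm_num) h6
        omega
      · have h6 : orderOf (e ρL) ∣ 3 := orderOf_dvd_of_pow_eq_one h5
        rw [MulEquiv.orderOf_eq, hoL] at h6
        have := Nat.le_of_dvd (by norm_num) h6
        omega
      · have h6 : orderOf (e ρL) ∣ 5 := orderOf_dvd_of_pow_eq_one h5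
        rw [MulEquiv.orderOf_eq, hoL] at h6
        have h7 := (Nat.dvd_prime (by norm_num)).1 h6
        omega
    have h5 := hA5 h4 (by rw [← h3]; exact hdvdG)
    exact htopL (by omega)
  · -- Borel
    let e := conjSubEquiv P L
    obtain ⟨A, hA⟩ := mkP_surj ((e ρL : conjSub P L) : Pe F)
    obtain ⟨C, hC⟩ := mkP_surj ((e σL : conjSub P L) : Pe F)
    have hAm : mkP A ∈ conjSub P L := by
      rw [hA]
      exact (e ρL).2
    have hCm : mkP C ∈ conjSub P L := by
      rw [hC]
      exact (e σL).2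
    have hA0 := hP A hAm
    have hC0 := hP C hCm
    have hrel : mkP (C * A * C⁻¹) = mkP A⁻¹ := by
      have h1 : (e σL) * (e ρL) * (e σL)⁻¹ = (e ρL)⁻¹ := by
        rw [← map_inv, ← map_mul, ← map_mul, hcL, map_inv]
      have h2 := congrArg Subtype.val h1
      simp only [Subgroup.coe_mul, Subgroup.coe_inv, ← hA, ← hC] at h2
      exact h2
    have hdA := sl_det A
    have hdC := sl_det C
    rw [hA0] at hdA
    rw [hC0] at hdC
    have hdiag : (C * A * C⁻¹).1 0 0 = A.1 0 0 := by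
      simp [sl_mul_apply, sl_inv_00, sl_inv_10, hA0, hC0]
      linear_combination (A.1 0 0) * hdC
    have hinv00 : (A⁻¹).1 0 0 = A.1 1 1 := sl_inv_00 A
    have hl4 : (A.1 0 0 ^ 2) ^ 2 = 1 := by
      rcases (mkP_eq_iff _ _).1 hrel with h1 | h1
      · have h2 := congrArg (fun M : SL(2, F) => M.1 0 0) h1
        simp only [hdiag, hinv00] at h2
        rw [h2] at hdA ⊢
        have : A.1 1 1 ^ 2 = 1 := by linear_combination hdA
        rw [this, one_pow]
      · have h2 := congrFun (congrFun h1 0) 0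
        have h3 : (A⁻¹).1 0 0 = - (C * A * C⁻¹).1 0 0 := h2
        rw [hdiag, hinv00] at h3
        rw [h3] at hdA
        have : A.1 0 0 ^ 2 = -1 := by linear_combination -hdA
        rw [this]
        ring
    set e₁ : Fin 2 → F := ![1, 0] with he₁
    have he₁0 : e₁ ≠ 0 := e0_ne
    have hAe : A.1 *ᵥ e₁ = (A.1 0 0) • e₁ := by
      ext i
      fin_cases i <;> simp [he₁, Matrix.mulVec, dotProduct, Fin.sum_univ_two, hA0]
    have hAAe : (A * A).1 *ᵥ e₁ = (A.1 0 0 ^ 2) • e₁ := by
      rw [Matrix.SpecialLinearGroup.coe_mul, ← Matrix.mulVec_mulVec, hAe, Matrix.mulVec_smul, hAe, smul_smul, pow_two]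
    have h1 := pow_char_of_eig p (A * A) he₁0 hl4 hAAe
    rw [mkP_mul, ← pow_two, ← pow_mul, hA] at h1
    have h2 : orderOf ((e ρL : conjSub P L) : Pe F) = k := by
      rw [Subgroup.orderOf_coe, MulEquiv.orderOf_eq, hoL]
    have h3 := orderOf_dvd_of_pow_eq_one h1
    rw [h2] at h3
    have hcop : Nat.Coprime k p := ((Nat.Prime.coprime_iff_not_dvd hp.out).2 hpk).symm
    have h4 : k ∣ 2 := hcop.dvd_of_dvd_mul_right h3
    have := Nat.le_of_dvd (by norm_num) h4
    omega
  · -- subfield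
    by_cases hm2 : m = 1
    · exact hLtop (htop hm2)
    · have hm3 : 2 ≤ m := by omega
      let e := conjSubEquiv P L
      have h2 : orderOf ((e ρL : conjSub P L) : Pe F) = k := by
        rw [Subgroup.orderOf_coe, MulEquiv.orderOf_eq, hoL]
      have hxp : ((e ρL : conjSub P L) : Pe F) ^ p ≠ 1 := by
        intro h
        have h3 := orderOf_dvd_of_pow_eq_one h
        rw [h2] at h3
        rcases (Nat.dvd_prime hp.out).1 h3 with h4 | h4
        · omega
        · exact hpk (by rw [h4])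
      have h3 := hord _ (e ρL).2 hxp
      rw [h2] at h3
      have hr2 : 2 ≤ Nat.card K₀ := Finite.one_lt_card
      have hk1 : k ≤ Nat.card K₀ + 1 := by
        rcases h3 with h3 | h3
        · have := Nat.le_of_dvd (by omega) h3
          omega
        · exact Nat.le_of_dvd (by omega) h3
      exact hK _ m hm hm3 hr2 hk1 (h4k.trans hcL')

end Coatom

end Cfsg.Agent.Lib.Classical
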