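import Mathlib
import Cfsg.Agent.Lib.Classical.PSL

/-! `SL₂(F)` is perfect and `PSL₂(F)` is simple if `F` has a nonzero element with `a² ≠ 1`. -/

set_option autoImplicit false
set_option linter.unusedSimpArgs false
set_option linter.unusedVariables false

namespace Cfsg.Agent.Lib.Classical

open Matrix Matrix.SpecialLinearGroup MulAction
open scoped MatrixGroups commutatorElement LinearAlgebra.Projectivization

variable {ι F : Type*} [Fintype ι] [DecidableEq ι] [Field F]

theorem commutator_diag2n_transvection {i j : ι} (hij : i ≠ j) (a : F) (ha : a ≠ 0) (b : F) :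
    ⁅diag2n hij a ha, SpecialLinearGroup.transvection hij b⁆ =
      SpecialLinearGroup.transvection hij ((a ^ 2 - 1) * b) := by
  rw [commutatorElement_def, transvection_inv]
  have hinv : (diag2n hij a ha)⁻¹ = diag2n hij a⁻¹ (inv_ne_zero ha) := by
    rw [inv_eq_iff_mul_eq_one]
    apply Subtype.ext
    simp only [coe_mul, diag2n_coe, coe_one]
    rw [Matrix.diagonal_mul_diagonal, ← Matrix.diagonal_one]
    congr 1
    funext k
    by_cases h : k = i
    · subst h; simp [hij, ha]
    · by_cases h2 : k = j
      · subst h2; simp [h, ha]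
      · simp [h, h2]
  rw [hinv]
  apply Subtype.ext
  simp only [coe_mul, diag2n_coe, transvection_coe]
  have hji := hij.symm
  have e1 : ∀ (x y : F), (Matrix.single i j x : Matrix ι ι F) * Matrix.single i j y = 0 :=
    fun x y => single_mul_single_of_ne _ _ _ _ hji _
  have dl : ∀ (d : ι → F) (x : F), Matrix.diagonal d * (Matrix.single i j x : Matrix ι ι F) = Matrix.single i j (d i * x) := by
    intro d x
    ext k l
    simp only [Matrix.diagonal_mul, Matrix.single_apply]
    by_cases h : i = k ∧ j = l
    · obtain ⟨rfl, rfl⟩ := h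
      simp
    · simp only [if_neg h]
      simp
  have dr : ∀ (d : ι → F) (x : F), (Matrix.single i j x : Matrix ι ι F) * Matrix.diagonal d = Matrix.single i j (x * d j) := by
    intro d x
    ext k l
    simp only [Matrix.mul_diagonal, Matrix.single_apply]
    by_cases h : i = k ∧ j = l
    · obtain ⟨rfl, rfl⟩ := h
      simp
    · simp only [if_neg h]
      simp
  have hdd : (Matrix.diagonal fun k => if k = i then a else if k = j then a⁻¹ else 1) * (Matrix.diagonal fun k => if k = i then a⁻¹ else if k = j then a⁻¹⁻¹ else 1) = (1 : Matrix ι ι F) := by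
    rw [Matrix.diagonal_mul_diagonal, ← Matrix.diagonal_one]
    congr 1
    funext k
    by_cases h : k = i
    · subst h; simp [hij, ha]
    · by_cases h2 : k = j
      · subst h2; simp [h, ha]
      · simp [h, h2]
  have hval : (if i = i then a else if i = j then a⁻¹ else 1) * b * (if j = i then a⁻¹ else if j = j then a⁻¹⁻¹ else 1) = a ^ 2 * b := by
    simp [hji]
    ring
  have e2 : (Matrix.diagonal fun k => if k = i then a else if k = j then a⁻¹ else 1) * (1 + Matrix.single i j b) * (Matrix.diagonal fun k => if k = i then a⁻¹ else if k = j then a⁻¹⁻¹ else 1) = (1 : Matrix ι ι F) + Matrix.single i j (a ^ 2 * b) := by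
    rw [mul_add, add_mul, mul_one, hdd, dl, dr, hval]
  rw [e2, add_mul, one_mul, mul_add, mul_one, e1, add_zero, add_assoc, ← Matrix.single_add]
  congr 2
  ring

theorem commutator_sl_eq_top_of_sq_ne_one (a : F) (ha : a ≠ 0) (ha1 : a ^ 2 ≠ 1) :
    commutator (SpecialLinearGroup ι F) = ⊤ := by
  rw [eq_top_iff]
  intro M _
  refine sl_transvection_induction (· ∈ commutator (SpecialLinearGroup ι F)) ?_ (one_mem _)
    (fun _ _ => mul_mem) M
  intro i j hij c
  rw [commutator_eq_closure]
  apply Subgroup.subset_closure
  refine ⟨diag2n hij a ha, SpecialLinearGroup.transvection hij ((a ^ 2 - 1)⁻¹ * c), ?_⟩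
  rw [commutator_diag2n_transvection, mul_inv_cancel_left₀ (sub_ne_zero.2 ha1)]

theorem psl_isSimpleGroup_of_sq_ne_one [Nontrivial ι] (a : F) (ha : a ≠ 0) (ha1 : a ^ 2 ≠ 1) :
    IsSimpleGroup (ProjectiveSpecialLinearGroup ι F) := by
  have hperf : Group.IsPerfect (SpecialLinearGroup ι F) := ⟨commutator_sl_eq_top_of_sq_ne_one a ha ha1⟩
  have hperf2 : Group.IsPerfect (ProjectiveSpecialLinearGroup ι F) := inferInstance
  exact MulAction.IwasawaStructure.isSimpleGroup (α := ℙ F (ι → F)) hperf2.commutator_eq_top pslIwasawa inferInstance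

/-- Over a finite field with at least four elements there is a nonzero element with `a² ≠ 1`. -/
theorem exists_sq_ne_one {F : Type*} [Field F] [Finite F] (h : 4 ≤ Nat.card F) : ∃ a : F, a ≠ 0 ∧ a ^ 2 ≠ 1 := by
  classical
  have : Fintype F := Fintype.ofFinite F
  by_contra hcon
  push Not at hcon
  have hs : (Finset.univ : Finset F) ⊆ {0, 1, -1} := by
    intro x _
    by_cases hx : x = 0
    · simp [hx]
    · have := hcon x hx
      rw [sq, mul_self_eq_one_iff] at this
      simp [this]
  have h1 := Finset.card_le_card hs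
  have h2 : ({0, 1, -1} : Finset F).card ≤ 3 := Finset.card_le_three
  rw [Finset.card_univ, ← Nat.card_eq_fintype_card] at h1
  omega

theorem psl_isSimpleGroup_of_four_le {F : Type*} [Field F] [Finite F] [Nontrivial ι] (h : 4 ≤ Nat.card F) :
    IsSimpleGroup (ProjectiveSpecialLinearGroup ι F) := by
  obtain ⟨a, ha, ha1⟩ := exists_sq_ne_one h
  exact psl_isSimpleGroup_of_sq_ne_one a ha ha1

end Cfsg.Agent.Lib.Classical
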