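import Mathlib

/-! Transitivity of `SL_n` on non-zero vectors; rank one matrices. -/

set_option autoImplicit false
set_option linter.unusedSimpArgs false
set_option linter.unusedVariables false

namespace Cfsg.Agent.Lib.Classical

open Matrix

variable {F : Type*} [Field F]

/-- A rank one matrix is an outer product. -/
theorem exists_vecMulVec_of_rank_one {ι κ : Type*} [Fintype κ] [DecidableEq κ] {M : Matrix ι κ F}
    (h : M.rank = 1) : ∃ (a : ι → F) (b : κ → F), a ≠ 0 ∧ b ≠ 0 ∧ M = vecMulVec a b := by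
  classical
  obtain ⟨v, hv0, hv⟩ := (finrank_eq_one_iff' (K := F) (V := LinearMap.range M.mulVecLin)).1 h
  have hcol : ∀ j, ∃ c : F, c • (v : ι → F) = M.col j := by
    intro j
    have hmem : M.col j ∈ LinearMap.range M.mulVecLin := ⟨Pi.single j 1, by simp⟩
    obtain ⟨c, hc⟩ := hv ⟨M.col j, hmem⟩
    exact ⟨c, congrArg Subtype.val hc⟩
  choose b hb using hcol
  have hMeq : M = vecMulVec (v : ι → F) b := by
    ext i j
    have := congrFun (hb j) i
    simp only [Pi.smul_apply, smul_eq_mul, col_apply] at this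
    rw [← this, vecMulVec_apply]
    ring
  refine ⟨v, b, ?_, ?_, hMeq⟩
  · intro h0
    apply hv0
    exact Subtype.ext h0
  · intro h0
    have h1 : M = 0 := by
      rw [hMeq, h0]
      ext i j
      simp [vecMulVec_apply]
    rw [h1] at h
    have h2 := Matrix.rank_zero (m := ι) (n := κ) (R := F)
    rw [h2] at h
    exact zero_ne_one h

/-- `SL_{n+2}` is transitive on non-zero vectors: every non-zero vector is the image of `e₀`. -/
theorem exists_SL_mulVec_single {n : ℕ} (b : Fin (n + 2) → F) (hb : b ≠ 0) :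
    ∃ h : SpecialLinearGroup (Fin (n + 2)) F, (h : Matrix (Fin (n + 2)) (Fin (n + 2)) F) *ᵥ (Pi.single 0 1) = b := by
  classical
  -- first make the zeroth coordinate non-zero
  obtain ⟨s, hs⟩ : ∃ s : SpecialLinearGroup (Fin (n + 2)) F, (s.1 *ᵥ b) 0 ≠ 0 := by
    by_cases h0 : b 0 = 0
    · obtain ⟨i, hi⟩ : ∃ i, b i ≠ 0 := by
        by_contra hcon
        push Not at hcon
        exact hb (funext hcon)
      have hi0 : (0 : Fin (n + 2)) ≠ i := by
        rintro rfl
        exact hi h0
      refine ⟨SpecialLinearGroup.transvection hi0 1, ?_⟩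
      have e : (SpecialLinearGroup.transvection hi0 (1 : F)).1 = 1 + single 0 i 1 := rfl
      rw [e, add_mulVec, one_mulVec, Pi.add_apply, h0, zero_add]
      simpa [mulVec, dotProduct, single_apply] using hi
    · exact ⟨1, by simpa using h0⟩
  set c := s.1 *ᵥ b with hc
  set P0 := updateCol (1 : Matrix (Fin (n + 2)) (Fin (n + 2)) F) 0 c with hP0
  have hdetP0 : P0.det = c 0 := by
    have := cramer_apply (1 : Matrix (Fin (n + 2)) (Fin (n + 2)) F) c 0
    rw [cramer_one] at this
    simpa using this.symm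
  let D : Fin (n + 2) → F := fun j => if j = 1 then (c 0)⁻¹ else 1
  have hdetD : (diagonal D).det = (c 0)⁻¹ := by
    rw [det_diagonal]
    simp only [D]
    rw [Finset.prod_ite_eq']
    simp
  have hdet : (P0 * diagonal D).det = 1 := by
    rw [det_mul, hdetP0, hdetD, mul_inv_cancel₀ hs]
  let P : SpecialLinearGroup (Fin (n + 2)) F := ⟨P0 * diagonal D, hdet⟩
  have hPe : P.1 *ᵥ (Pi.single 0 1) = c := by
    change (P0 * diagonal D) *ᵥ (Pi.single 0 1) = c
    rw [← mulVec_mulVec]
    have hD : diagonal D *ᵥ (Pi.single 0 1 : Fin (n + 2) → F) = Pi.single 0 1 := by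
      ext j
      by_cases hj : j = 0
      · subst hj
        simp [mulVec_diagonal, D]
      · simp [mulVec_diagonal, hj]
    rw [hD]
    ext j
    rw [mulVec_single_one, col_apply, hP0, updateCol_self]
  refine ⟨s⁻¹ * P, ?_⟩
  change ((s⁻¹).1 * P.1) *ᵥ _ = b
  rw [← mulVec_mulVec, hPe, hc, mulVec_mulVec]
  have : (s⁻¹).1 * s.1 = 1 := congrArg Subtype.val (inv_mul_cancel s)
  rw [this, one_mulVec]

end Cfsg.Agent.Lib.Classical
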